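import Mathlib
import Cfsg.Agent.Lib.Sporadic.ChainCertificate
import Cfsg.Agent.Lib.Schur.TrieFast

/-!
# Coset table 0 of a chain
-/

set_option autoImplicit false
set_option maxRecDepth 100000
set_option maxHeartbeats 0
set_option Elab.async false

noncomputable section

namespace CfsgLib.Sporadic.MultCoFivePart

open CfsgLib.Schur.Cert

/-- data -/
def next0 : Trie (ℕ) := .node (.node (.node (.node (.node (.node (.node (.node (.node (.node (.node (.node (.leaf 1) (.leaf 1273)) (.leaf 772)) (.node (.node (.leaf 421) (.leaf 554)) (.leaf 183))) (.node (.node (.node (.leaf 228) (.leaf 1364)) (.leaf 805)) (.node (.node (.leaf 611) (.leaf 1190)) (.leaf 1177)))) (.node (.node (.node (.node (.leaf 117) (.leaf 389)) (.leaf 856)) (.node (.node (.leaf 516) (.leaf 1202)) (.leaf 524))) (.node (.node (.node (.leaf 328) (.leaf 420)) (.leaf 993)) (.node (.node (.leaf 692) (.leaf 1412)) (.leaf 1233))))) (.node (.node (.node (.node (.node (.leaf 61) (.leaf 839)) (.leaf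 811)) (.node (.node (.leaf 475) (.leaf 1230)) (.leaf 610))) (.node (.node (.node (.leaf 74) (.leaf 1340)) (.leaf 415)) (.node (.node (.leaf 656) (.leaf 1486)) (.leaf 1200)))) (.node (.node (.node (.node (.leaf 173) (.leaf 399)) (.leaf 891)) (.node (.node (.leaf 564) (.leaf 1453)) (.leaf 1147))) (.node (.node (.node (.leaf 377) (.leaf 809)) (.leaf 480)) (.node (.leaf 730) (.leaf 622)))))) (.node (.node (.node (.node (.node (.node (.leaf 31) (.leaf 873)) (.leaf 791)) (.node (.node (.leaf 448) (.leaf 1426)) (.leaf 686))) (.node (.node (.node (.leaf 256) (.leaf 382)) (.leaf 142)) (.node (.node (.leaf 636) (.leaf 1384)) (.leaf 237)))) (.node (.node (.node (.node (.leaf 145) (.leaf 858)) (.leaf 876)) (.node (.node (.leaf 540) (.leaf 1235)) (.leaf 211))) (.node (.node (.node (.leaf 354) (.leaf 472)) (.leaf 784)) (.node (.node (.leaf 243) (.leaf 1496)) (.leaf 272))))) (.node (.node (.node (.node (.node (.leaf 89) (.leaf 1304)) (.leaf 394)) (.node (.node (.leaf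 496) (.leaf 1448)) (.leaf 259))) (.node (.node (.node (.leaf 304) (.leaf 989)) (.leaf 972)) (.node (.node (.leaf 299) (.leaf 1491)) (.leaf 1215)))) (.node (.node (.node (.node (.leaf 185) (.leaf 1351)) (.leaf 907)) (.node (.node (.leaf 585) (.leaf 1198)) (.leaf 223))) (.node (.node (.node (.leaf 400) (.leaf 1290)) (.leaf 1031)) (.node (.leaf 751) (.leaf 286))))))) (.node (.node (.node (.node (.node (.node (.node (.leaf 16) (.leaf 305)) (.leaf 783)) (.node (.node (.leaf 435) (.leaf 1080)) (.leaf 1058))) (.node (.node (.node (.leaf 202) (.leaf 1027)) (.leaf 932)) (.node (.node (.leaf 624) (.leaf 1277)) (.leaf 647)))) (.node (.node (.node (.node (.leaf 131) (.leaf 1321)) (.leaf 864)) (.node (.node (.leaf 58) (.leaf 1055)) (.leaf 691))) (.node (.node (.node (.leaf 32) (.leaf 977)) (.leaf 927)) (.node (.node (.leaf 702) (.leaf 1238)) (.leaf 1103))))) (.node (.node (.node (.node (.node (.leaf 75) (.leaf 1296)) (.leaf 136)) (.node (.node (.leaf 486) (.leaf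 1206)) (.leaf 1092))) (.node (.node (.node (.leaf 292) (.leaf 1293)) (.leaf 769)) (.node (.node (.leaf 80) (.leaf 1326)) (.leaf 249)))) (.node (.node (.node (.node (.leaf 186) (.leaf 1347)) (.leaf 378)) (.node (.node (.leaf 574) (.leaf 1178)) (.leaf 579))) (.node (.node (.node (.leaf 38) (.leaf 1368)) (.leaf 174)) (.node (.leaf 96) (.leaf 1179)))))) (.node (.node (.node (.node (.node (.node (.leaf 45) (.leaf 1281)) (.leaf 802)) (.node (.node (.leaf 462) (.leaf 1186)) (.leaf 1075))) (.node (.node (.node (.leaf 268) (.leaf 1025)) (.leaf 144)) (.node (.node (.leaf 646) (.leaf 909)) (.leaf 1175)))) (.node (.node (.node (.node (.leaf 159) (.leaf 1338)) (.leaf 441)) (.node (.node (.leaf 553) (.leaf 1429)) (.leaf 1140))) (.node (.node (.node (.leaf 366) (.leaf 1371)) (.leaf 913)) (.node (.node (.leaf 721) (.leaf 1407)) (.leaf 1199))))) (.node (.node (.node (.node (.node (.leaf 103) (.leaf 773)) (.leaf 425)) (.node (.node (.leaf 235) (.leaf 1069)) (.leaf 1107)))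 (.node (.node (.node (.leaf 316) (.leaf 413)) (.leaf 812)) (.node (.node (.leaf 685) (.leaf 1488)) (.leaf 1224)))) (.node (.node (.node (.node (.leaf 214) (.leaf 365)) (.leaf 915)) (.node (.node (.leaf 598) (.leaf 1459)) (.leaf 520))) (.node (.node (.node (.leaf 410) (.leaf 1018)) (.leaf 181)) (.node (.leaf 760) (.leaf 1159)))))))) (.node (.node (.node (.node (.node (.node (.node (.node (.leaf 9) (.leaf 1276)) (.leaf 778)) (.node (.node (.leaf 428) (.leaf 1214)) (.leaf 1053))) (.node (.node (.node (.leaf 236) (.leaf 1367)) (.leaf 138)) (.node (.node (.leaf 617) (.leaf 1473)) (.leaf 1181)))) (.node (.node (.node (.node (.leaf 125) (.leaf 1317)) (.leaf 859)) (.node (.node (.leaf 523) (.leaf 1420)) (.leaf 1119))) (.node (.node (.node (.leaf 162) (.leaf 963)) (.leaf 998)) (.node (.node (.leaf 697) (.leaf 1390)) (.leaf 1237))))) (.node (.node (.node (.node (.node (.leaf 67) (.leaf 1291)) (.leaf 819)) (.node (.node (.leaf 481) (.leaf 569)) (.leaf 625))) (.node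 (.node (.node (.leaf 285) (.leaf 926)) (.leaf 955)) (.node (.node (.leaf 662) (.leaf 917)) (.leaf 1205)))) (.node (.node (.node (.node (.leaf 179) (.leaf 1295)) (.leaf 895)) (.node (.node (.leaf 568) (.leaf 1211)) (.leaf 279))) (.node (.node (.node (.leaf 383) (.leaf 950)) (.leaf 933)) (.node (.leaf 735) (.leaf 1111)))))) (.node (.node (.node (.node (.node (.node (.leaf 39) (.leaf 311)) (.leaf 158)) (.node (.node (.leaf 456) (.leaf 522)) (.leaf 1070))) (.node (.node (.node (.leaf 262) (.leaf 1379)) (.leaf 390)) (.node (.node (.leaf 642) (.leaf 1012)) (.leaf 239)))) (.node (.node (.node (.node (.leaf 153) (.leaf 1334)) (.leaf 879)) (.node (.node (.leaf 191) (.leaf 1169)) (.leaf 1137))) (.node (.node (.node (.leaf 34) (.leaf 1406)) (.leaf 992)) (.node (.node (.leaf 715) (.leaf 1499)) (.leaf 1074))))) (.node (.node (.node (.node (.node (.leaf 95) (.leaf 829)) (.leaf 842)) (.node (.node (.leaf 501) (.leaf 1048)) (.leaf 1059))) (.node (.node (.node (.leaf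 309) (.leaf 822)) (.leaf 976)) (.node (.node (.leaf 680) (.leaf 1493)) (.leaf 1131)))) (.node (.node (.node (.node (.leaf 206) (.leaf 361)) (.leaf 910)) (.node (.node (.leaf 592) (.leaf 1262)) (.leaf 1164))) (.node (.node (.node (.leaf 404) (.leaf 1376)) (.leaf 1007)) (.node (.leaf 757) (.leaf 1264))))))) (.node (.node (.node (.node (.node (.node (.node (.leaf 24) (.leaf 745)) (.leaf 423)) (.node (.node (.leaf 402) (.leaf 1161)) (.leaf 1063))) (.node (.node (.node (.leaf 248) (.leaf 945)) (.leaf 936)) (.node (.node (.leaf 284) (.leaf 1477)) (.leaf 1188)))) (.node (.node (.node (.node (.leaf 137) (.leaf 960)) (.leaf 466)) (.node (.node (.leaf 534) (.leaf 1102)) (.leaf 1127))) (.node (.node (.node (.leaf 347) (.leaf 1342)) (.leaf 865)) (.node (.node (.leaf 706) (.leaf 1498)) (.leaf 1052))))) (.node (.node (.node (.node (.node (.leaf 83) (.leaf 1300)) (.leaf 114)) (.node (.node (.leaf 490) (.leaf 604)) (.leaf 1097))) (.node (.node (.node (.leaf 297) (.leaf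 495)) (.leaf 966)) (.node (.node (.leaf 674) (.leaf 967)) (.leaf 1171)))) (.node (.node (.node (.node (.leaf 194) (.leaf 392)) (.leaf 903)) (.node (.node (.leaf 580) (.leaf 1469)) (.leaf 741))) (.node (.node (.node (.leaf 393) (.leaf 1411)) (.leaf 1028)) (.node (.leaf 746) (.leaf 1256)))))) (.node (.node (.node (.node (.node (.node (.leaf 53) (.leaf 1286)) (.leaf 807)) (.node (.node (.leaf 469) (.leaf 732)) (.leaf 193))) (.node (.node (.node (.leaf 275) (.leaf 1344)) (.leaf 777)) (.node (.node (.leaf 652) (.leaf 855)) (.leaf 637)))) (.node (.node (.node (.node (.leaf 167) (.leaf 948)) (.leaf 886)) (.node (.node (.leaf 557) (.leaf 727)) (.leaf 1144))) (.node (.node (.node (.leaf 36) (.leaf 788)) (.leaf 1015)) (.node (.leaf 229) (.leaf 1251))))) (.node (.node (.node (.node (.node (.leaf 109) (.leaf 1313)) (.leaf 850)) (.node (.node (.leaf 56) (.leaf 1146)) (.leaf 1110))) (.node (.node (.node (.leaf 30) (.leaf 1311)) (.leaf 987)) (.node (.node (.leaf 84)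 (.leaf 1014)) (.leaf 1228)))) (.node (.node (.node (.node (.leaf 222) (.leaf 1279)) (.leaf 134)) (.node (.node (.leaf 603) (.leaf 1100)) (.leaf 1173))) (.node (.node (.node (.leaf 416) (.leaf 493)) (.leaf 1045)) (.node (.leaf 443) (.leaf 1270))))))))) (.node (.node (.node (.node (.node (.node (.node (.node (.node (.leaf 5) (.leaf 301)) (.leaf 776)) (.node (.node (.leaf 424) (.leaf 1421)) (.leaf 1051))) (.node (.node (.node (.leaf 232) (.leaf 405)) (.leaf 871)) (.node (.node (.leaf 615) (.leaf 1263)) (.leaf 303)))) (.node (.node (.node (.node (.leaf 121) (.leaf 1315)) (.leaf 120)) (.node (.node (.leaf 519) (.leaf 1457)) (.leaf 1116))) (.node (.node (.node (.leaf 332) (.leaf 1333)) (.leaf 868)) (.node (.node (.leaf 86) (.leaf 1402)) (.leaf 1234))))) (.node (.node (.node (.node (.node (.leaf 65) (.leaf 363)) (.leaf 815)) (.node (.node (.leaf 478) (.leaf 665)) (.leaf 1086))) (.node (.node (.node (.leaf 60) (.leaf 961)) (.leaf 146)) (.node (.node (.leaf 659)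 (.leaf 1487)) (.leaf 247)))) (.node (.node (.node (.node (.leaf 175) (.leaf 861)) (.leaf 827)) (.node (.node (.leaf 64) (.leaf 1167)) (.leaf 217))) (.node (.node (.node (.leaf 380) (.leaf 453)) (.leaf 468)) (.node (.leaf 733) (.leaf 1254)))))) (.node (.node (.node (.node (.node (.node (.leaf 35) (.leaf 956)) (.leaf 794)) (.node (.node (.leaf 452) (.leaf 1432)) (.leaf 1068))) (.node (.node (.node (.leaf 260) (.leaf 929)) (.leaf 397)) (.node (.node (.leaf 197) (.leaf 1399)) (.leaf 1174)))) (.node (.node (.node (.node (.leaf 149) (.leaf 1332)) (.leaf 407)) (.node (.node (.leaf 543) (.leaf 1095)) (.leaf 1135))) (.node (.node (.node (.leaf 357) (.leaf 438)) (.leaf 1008)) (.node (.node (.leaf 713) (.leaf 1195)) (.leaf 743))))) (.node (.node (.node (.node (.node (.leaf 91) (.leaf 449)) (.leaf 840)) (.node (.node (.leaf 54) (.leaf 1441)) (.leaf 747))) (.node (.node (.node (.leaf 231) (.leaf 899)) (.leaf 900)) (.node (.node (.leaf 679) (.leaf 1481)) (.leaf 1216))))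 (.node (.node (.node (.node (.leaf 204) (.leaf 1306)) (.leaf 132)) (.node (.node (.leaf 588) (.leaf 1046)) (.leaf 1160))) (.node (.node (.node (.leaf 40) (.leaf 1416)) (.leaf 1034)) (.node (.leaf 274) (.leaf 584))))))) (.node (.node (.node (.node (.node (.node (.node (.leaf 20) (.leaf 547)) (.leaf 786)) (.node (.node (.leaf 44) (.leaf 1428)) (.leaf 187))) (.node (.node (.node (.leaf 246) (.leaf 1372)) (.leaf 140)) (.node (.node (.leaf 628) (.leaf 1272)) (.leaf 724)))) (.node (.node (.node (.node (.leaf 133) (.leaf 1324)) (.leaf 122)) (.node (.node (.leaf 531) (.leaf 1225)) (.leaf 207))) (.node (.node (.node (.leaf 343) (.leaf 429)) (.leaf 381)) (.node (.node (.leaf 532) (.leaf 1476)) (.leaf 1149))))) (.node (.node (.node (.node (.node (.leaf 79) (.leaf 323)) (.leaf 828)) (.node (.node (.leaf 488) (.leaf 1445)) (.leaf 1094))) (.node (.node (.node (.leaf 294) (.leaf 1388)) (.leaf 962)) (.node (.node (.leaf 593) (.leaf 974)) (.leaf 1208)))) (.node (.node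 (.node (.node (.leaf 190) (.leaf 1316)) (.leaf 367)) (.node (.node (.leaf 578) (.leaf 1467)) (.leaf 219))) (.node (.node (.node (.leaf 391) (.leaf 988)) (.leaf 1026)) (.node (.leaf 744) (.leaf 704)))))) (.node (.node (.node (.node (.node (.node (.leaf 49) (.leaf 1284)) (.leaf 804)) (.node (.node (.leaf 465) (.leaf 1437)) (.leaf 1078))) (.node (.node (.node (.leaf 76) (.leaf 1381)) (.leaf 331)) (.node (.node (.leaf 650) (.leaf 1484)) (.leaf 1196)))) (.node (.node (.node (.node (.leaf 163) (.leaf 863)) (.leaf 825)) (.node (.node (.leaf 189) (.leaf 1463)) (.leaf 549))) (.node (.node (.node (.leaf 369) (.leaf 934)) (.leaf 985)) (.node (.node (.leaf 723) (.leaf 1377)) (.leaf 1250))))) (.node (.node (.node (.node (.node (.leaf 107) (.leaf 782)) (.leaf 848)) (.node (.node (.leaf 510) (.leaf 1076)) (.leaf 251))) (.node (.node (.node (.leaf 319) (.leaf 1001)) (.leaf 986)) (.node (.node (.leaf 209) (.leaf 1485)) (.leaf 296)))) (.node (.node (.node (.node (.leaf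 218) (.leaf 1358)) (.leaf 916)) (.node (.node (.leaf 600) (.leaf 1217)) (.leaf 1170))) (.node (.node (.node (.leaf 414) (.leaf 942)) (.leaf 1043)) (.node (.leaf 763) (.leaf 1269)))))))) (.node (.node (.node (.node (.node (.node (.node (.node (.leaf 13) (.leaf 530)) (.leaf 780)) (.node (.node (.leaf 432) (.leaf 688)) (.leaf 1056))) (.node (.node (.node (.leaf 240) (.leaf 489)) (.leaf 930)) (.node (.node (.leaf 621) (.leaf 1435)) (.leaf 1183)))) (.node (.node (.node (.node (.leaf 112) (.leaf 896)) (.leaf 862)) (.node (.node (.leaf 526) (.leaf 1108)) (.leaf 1122))) (.node (.node (.node (.leaf 338) (.leaf 882)) (.leaf 999)) (.node (.node (.leaf 699) (.leaf 1255)) (.leaf 1239))))) (.node (.node (.node (.node (.node (.leaf 71) (.leaf 970)) (.leaf 823)) (.node (.node (.leaf 484) (.leaf 1182)) (.leaf 1090))) (.node (.node (.node (.leaf 289) (.leaf 1374)) (.leaf 957)) (.node (.node (.leaf 666) (.leaf 1397)) (.leaf 1136)))) (.node (.node (.node (.node (.leaf 182)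 (.leaf 1331)) (.leaf 897)) (.node (.node (.leaf 570) (.leaf 690)) (.leaf 1067))) (.node (.node (.node (.leaf 387) (.leaf 766)) (.leaf 1021)) (.node (.leaf 737) (.leaf 649)))))) (.node (.node (.node (.node (.node (.node (.leaf 2) (.leaf 973)) (.leaf 108)) (.node (.node (.leaf 458) (.leaf 1244)) (.leaf 508))) (.node (.node (.node (.leaf 265) (.leaf 1369)) (.leaf 946)) (.node (.node (.leaf 644) (.leaf 1312)) (.leaf 1120)))) (.node (.node (.node (.node (.leaf 155) (.leaf 1280)) (.leaf 880)) (.node (.node (.leaf 550) (.leaf 591)) (.leaf 213))) (.node (.node (.node (.leaf 362) (.leaf 1383)) (.leaf 166)) (.node (.node (.leaf 718) (.leaf 1472)) (.leaf 1249))))) (.node (.node (.node (.node (.node (.leaf 99) (.leaf 1030)) (.leaf 313)) (.node (.node (.leaf 504) (.leaf 1433)) (.leaf 1105))) (.node (.node (.node (.leaf 312) (.leaf 1362)) (.leaf 980)) (.node (.node (.leaf 682) (.leaf 1359)) (.leaf 1221)))) (.node (.node (.node (.node (.leaf 210) (.leaf 1355)) (.leaf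 912)) (.node (.node (.leaf 595) (.leaf 1474)) (.leaf 1098))) (.node (.node (.node (.leaf 406) (.leaf 1305)) (.leaf 180)) (.node (.leaf 758) (.leaf 1267))))))) (.node (.node (.node (.node (.node (.node (.node (.leaf 28) (.leaf 1145)) (.leaf 340)) (.node (.node (.leaf 444) (.leaf 518)) (.leaf 1065))) (.node (.node (.node (.leaf 252) (.leaf 1360)) (.leaf 384)) (.node (.node (.leaf 634) (.leaf 1479)) (.leaf 560)))) (.node (.node (.node (.node (.leaf 141) (.leaf 1329)) (.leaf 874)) (.node (.node (.leaf 537) (.leaf 1184)) (.leaf 623))) (.node (.node (.node (.leaf 350) (.leaf 1337)) (.leaf 335)) (.node (.node (.leaf 710) (.leaf 1475)) (.leaf 1218))))) (.node (.node (.node (.node (.node (.leaf 70) (.leaf 1302)) (.leaf 835)) (.node (.node (.leaf 494) (.leaf 1143)) (.leaf 1099))) (.node (.node (.node (.leaf 300) (.leaf 1391)) (.leaf 969)) (.node (.node (.leaf 676) (.leaf 1408)) (.leaf 1212)))) (.node (.node (.node (.node (.leaf 198) (.leaf 1349)) (.leaf 906))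 (.node (.node (.leaf 66) (.leaf 1447)) (.leaf 1155))) (.node (.node (.node (.leaf 160) (.leaf 1413)) (.leaf 922)) (.node (.leaf 98) (.leaf 1241)))))) (.node (.node (.node (.node (.node (.node (.leaf 57) (.leaf 1288)) (.leaf 455)) (.node (.node (.leaf 473) (.leaf 1271)) (.leaf 1081))) (.node (.node (.node (.leaf 278) (.leaf 845)) (.leaf 843)) (.node (.node (.leaf 78) (.leaf 792)) (.leaf 627)))) (.node (.node (.node (.node (.leaf 129) (.leaf 781)) (.leaf 764)) (.node (.node (.leaf 233) (.leaf 1454)) (.leaf 752))) (.node (.node (.node (.leaf 375) (.leaf 1345)) (.leaf 888)) (.node (.leaf 728) (.leaf 1172))))) (.node (.node (.node (.node (.node (.leaf 113) (.leaf 333)) (.leaf 854)) (.node (.node (.leaf 269) (.leaf 1042)) (.leaf 1114))) (.node (.node (.node (.leaf 324) (.leaf 893)) (.leaf 793)) (.node (.node (.leaf 546) (.leaf 1492)) (.leaf 1229)))) (.node (.node (.node (.node (.leaf 226) (.leaf 1361)) (.leaf 921)) (.node (.node (.leaf 607) (.leaf 1220)) (.leaf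 654))) (.node (.node (.node (.leaf 42) (.leaf 729)) (.leaf 705)) (.node (.leaf 768) (.leaf 693)))))))))) (.node (.node (.node (.node (.node (.node (.node (.node (.node (.node (.leaf 3) (.leaf 612)) (.leaf 774)) (.node (.node (.leaf 422) (.leaf 1106)) (.leaf 1049))) (.node (.node (.node (.leaf 230) (.leaf 1366)) (.leaf 464)) (.node (.node (.leaf 613) (.leaf 1257)) (.leaf 509)))) (.node (.node (.node (.node (.leaf 119) (.leaf 797)) (.leaf 857)) (.node (.node (.leaf 517) (.leaf 1456)) (.leaf 205))) (.node (.node (.node (.leaf 330) (.leaf 1398)) (.leaf 994)) (.node (.node (.leaf 694) (.leaf 1494)) (.leaf 1072))))) (.node (.node (.node (.node (.node (.leaf 63) (.leaf 1289)) (.leaf 813)) (.node (.node (.leaf 477) (.leaf 1191)) (.leaf 1084))) (.node (.node (.node (.leaf 281) (.leaf 853)) (.leaf 937)) (.node (.node (.leaf 657) (.leaf 837)) (.leaf 1201)))) (.node (.node (.node (.node (.leaf 14) (.leaf 1330)) (.leaf 128)) (.node (.node (.leaf 565) (.leaf 1434))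 (.leaf 1125))) (.node (.node (.node (.leaf 379) (.leaf 1037)) (.leaf 954)) (.node (.leaf 731) (.leaf 1253)))))) (.node (.node (.node (.node (.node (.node (.leaf 33) (.leaf 820)) (.leaf 500)) (.node (.node (.leaf 450) (.leaf 1082)) (.leaf 1066))) (.node (.node (.node (.leaf 258) (.leaf 1339)) (.leaf 941)) (.node (.node (.leaf 638) (.leaf 1401)) (.leaf 290)))) (.node (.node (.node (.node (.leaf 147) (.leaf 1019)) (.leaf 816)) (.node (.node (.leaf 542) (.leaf 1210)) (.leaf 1133))) (.node (.node (.node (.leaf 318) (.leaf 1404)) (.leaf 983)) (.node (.node (.leaf 712) (.leaf 1268)) (.leaf 1187))))) (.node (.node (.node (.node (.node (.leaf 6) (.leaf 1033)) (.leaf 838)) (.node (.node (.leaf 497) (.leaf 1449)) (.leaf 754))) (.node (.node (.node (.leaf 306) (.leaf 890)) (.leaf 885)) (.node (.node (.leaf 678) (.leaf 1483)) (.leaf 601)))) (.node (.node (.node (.node (.leaf 203) (.leaf 1353)) (.leaf 447)) (.node (.node (.leaf 586) (.leaf 749)) (.leaf 700))) (.node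 (.node (.node (.leaf 401) (.leaf 1020)) (.leaf 1032)) (.node (.leaf 753) (.leaf 1083))))))) (.node (.node (.node (.node (.node (.node (.node (.leaf 18) (.leaf 528)) (.leaf 785)) (.node (.node (.leaf 437) (.leaf 575)) (.leaf 1060))) (.node (.node (.node (.leaf 245) (.leaf 902)) (.leaf 461)) (.node (.node (.leaf 626) (.leaf 1470)) (.leaf 660)))) (.node (.node (.node (.node (.leaf 10) (.leaf 1323)) (.leaf 866)) (.node (.node (.leaf 529) (.leaf 573)) (.leaf 1124))) (.node (.node (.node (.leaf 341) (.leaf 1282)) (.leaf 370)) (.node (.node (.leaf 267) (.leaf 1260)) (.leaf 720))))) (.node (.node (.node (.node (.node (.leaf 77) (.leaf 1297)) (.leaf 826)) (.node (.node (.leaf 52) (.leaf 1444)) (.leaf 1093))) (.node (.node (.node (.leaf 27) (.leaf 1023)) (.leaf 150)) (.node (.node (.leaf 669) (.leaf 1356)) (.leaf 1207)))) (.node (.node (.node (.node (.leaf 188) (.leaf 1318)) (.leaf 178)) (.node (.node (.leaf 576) (.leaf 1466)) (.leaf 1141))) (.node (.node (.node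 (.leaf 116) (.leaf 1310)) (.leaf 1024)) (.node (.leaf 742) (.leaf 1150)))))) (.node (.node (.node (.node (.node (.node (.leaf 47) (.leaf 436)) (.leaf 803)) (.node (.node (.leaf 48) (.leaf 1265)) (.leaf 276))) (.node (.node (.node (.leaf 270) (.leaf 810)) (.leaf 947)) (.node (.node (.leaf 648) (.leaf 1350)) (.leaf 241)))) (.node (.node (.node (.node (.leaf 161) (.leaf 851)) (.leaf 884)) (.node (.node (.leaf 62) (.leaf 631)) (.leaf 1142))) (.node (.node (.node (.leaf 368) (.leaf 1386)) (.leaf 1011)) (.node (.node (.leaf 722) (.leaf 1346)) (.leaf 736))))) (.node (.node (.node (.node (.node (.leaf 105) (.leaf 1005)) (.leaf 847)) (.node (.node (.leaf 225) (.leaf 1430)) (.leaf 544))) (.node (.node (.node (.leaf 46) (.leaf 487)) (.leaf 498)) (.node (.node (.leaf 616) (.leaf 1341)) (.leaf 1226)))) (.node (.node (.node (.node (.leaf 216) (.leaf 1357)) (.leaf 342)) (.node (.node (.leaf 68) (.leaf 1259)) (.leaf 1168))) (.node (.node (.node (.leaf 412) (.leaf 1036))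 (.leaf 1041)) (.node (.leaf 762) (.leaf 684)))))))) (.node (.node (.node (.node (.node (.node (.node (.node (.leaf 11) (.leaf 505)) (.leaf 779)) (.node (.node (.leaf 430) (.leaf 1227)) (.leaf 1054))) (.node (.node (.node (.leaf 238) (.leaf 995)) (.leaf 928)) (.node (.node (.leaf 619) (.leaf 1431)) (.leaf 1088)))) (.node (.node (.node (.node (.leaf 127) (.leaf 981)) (.leaf 860)) (.node (.node (.leaf 87) (.leaf 1101)) (.leaf 1121))) (.node (.node (.node (.leaf 152) (.leaf 1035)) (.leaf 491)) (.node (.node (.leaf 698) (.leaf 1495)) (.leaf 707))))) (.node (.node (.node (.node (.node (.leaf 69) (.leaf 321)) (.leaf 821)) (.node (.node (.leaf 124) (.leaf 541)) (.leaf 1089))) (.node (.node (.node (.leaf 287) (.leaf 944)) (.leaf 877)) (.node (.node (.leaf 664) (.leaf 1478)) (.leaf 1113)))) (.node (.node (.node (.node (.leaf 15) (.leaf 1343)) (.leaf 476)) (.node (.node (.leaf 227) (.leaf 1424)) (.leaf 525))) (.node (.node (.node (.leaf 385) (.leaf 1002)) (.leaf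 372)) (.node (.leaf 671) (.leaf 1189)))))) (.node (.node (.node (.node (.node (.node (.leaf 41) (.leaf 431)) (.leaf 798)) (.node (.node (.leaf 325) (.leaf 1436)) (.leaf 1071))) (.node (.node (.node (.leaf 264) (.leaf 1380)) (.leaf 459)) (.node (.node (.leaf 643) (.leaf 1004)) (.leaf 1096)))) (.node (.node (.node (.node (.leaf 12) (.leaf 1335)) (.leaf 457)) (.node (.node (.leaf 548) (.leaf 683)) (.leaf 620))) (.node (.node (.node (.leaf 360) (.leaf 1365)) (.leaf 503)) (.node (.node (.leaf 717) (.leaf 1462)) (.leaf 1248))))) (.node (.node (.node (.node (.node (.leaf 97) (.leaf 1308)) (.leaf 844)) (.node (.node (.leaf 502) (.leaf 1450)) (.leaf 1104))) (.node (.node (.node (.leaf 310) (.leaf 409)) (.leaf 978)) (.node (.node (.leaf 681) (.leaf 1415)) (.leaf 1219)))) (.node (.node (.node (.node (.leaf 208) (.leaf 1039)) (.leaf 911)) (.node (.node (.leaf 594) (.leaf 1465)) (.leaf 1165))) (.node (.node (.node (.leaf 154) (.leaf 1418)) (.leaf 329)) (.node (.leaf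 100) (.leaf 1266))))))) (.node (.node (.node (.node (.node (.node (.node (.leaf 26) (.leaf 695)) (.leaf 787)) (.node (.node (.leaf 442) (.leaf 663)) (.leaf 558))) (.node (.node (.node (.leaf 250) (.leaf 445)) (.leaf 938)) (.node (.node (.leaf 632) (.leaf 1354)) (.leaf 1085)))) (.node (.node (.node (.node (.leaf 139) (.leaf 1327)) (.leaf 872)) (.node (.node (.leaf 536) (.leaf 759)) (.leaf 1129))) (.node (.node (.node (.leaf 348) (.leaf 434)) (.leaf 396)) (.node (.node (.leaf 708) (.leaf 1245)) (.leaf 1243))))) (.node (.node (.node (.node (.node (.leaf 85) (.leaf 949)) (.leaf 833)) (.node (.node (.leaf 492) (.leaf 1258)) (.leaf 199))) (.node (.node (.node (.leaf 298) (.leaf 1319)) (.leaf 968)) (.node (.node (.leaf 675) (.leaf 1489)) (.leaf 253)))) (.node (.node (.node (.node (.leaf 196) (.leaf 1000)) (.leaf 905)) (.node (.node (.leaf 581) (.leaf 1455)) (.leaf 1091))) (.node (.node (.node (.leaf 395) (.leaf 867)) (.leaf 931)) (.node (.leaf 748) (.leaf 533))))))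 (.node (.node (.node (.node (.node (.node (.leaf 55) (.leaf 317)) (.leaf 808)) (.node (.node (.leaf 471) (.leaf 1439)) (.leaf 640))) (.node (.node (.node (.leaf 277) (.leaf 1382)) (.leaf 356)) (.node (.node (.leaf 653) (.leaf 1375)) (.leaf 1154)))) (.node (.node (.node (.node (.leaf 169) (.leaf 1278)) (.leaf 771)) (.node (.node (.leaf 559) (.leaf 1443)) (.leaf 561))) (.node (.node (.node (.leaf 373) (.leaf 1385)) (.leaf 959)) (.node (.leaf 726) (.leaf 645))))) (.node (.node (.node (.node (.node (.leaf 111) (.leaf 1298)) (.leaf 852)) (.node (.node (.leaf 512) (.leaf 1446)) (.leaf 1112))) (.node (.node (.node (.leaf 322) (.leaf 418)) (.leaf 337)) (.node (.node (.leaf 689) (.leaf 1395)) (.leaf 263)))) (.node (.node (.node (.node (.leaf 224) (.leaf 1303)) (.leaf 920)) (.node (.node (.leaf 605) (.leaf 1166)) (.leaf 1050))) (.node (.node (.node (.leaf 417) (.leaf 1013)) (.leaf 629)) (.node (.leaf 767) (.leaf 1158))))))))) (.node (.node (.node (.node (.node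 (.node (.node (.node (.node (.leaf 7) (.leaf 1222)) (.leaf 104)) (.node (.node (.leaf 426) (.leaf 1422)) (.leaf 714))) (.node (.node (.node (.leaf 234) (.leaf 374)) (.leaf 925)) (.node (.node (.leaf 94) (.leaf 1458)) (.leaf 1180)))) (.node (.node (.node (.node (.leaf 123) (.leaf 971)) (.leaf 483)) (.node (.node (.leaf 521) (.leaf 651)) (.leaf 1118))) (.node (.node (.node (.leaf 334) (.leaf 1336)) (.leaf 996)) (.node (.node (.leaf 618) (.leaf 1419)) (.leaf 1236))))) (.node (.node (.node (.node (.node (.leaf 4) (.leaf 761)) (.leaf 817)) (.node (.node (.leaf 479) (.leaf 1275)) (.leaf 195))) (.node (.node (.node (.leaf 283) (.leaf 952)) (.leaf 953)) (.node (.node (.leaf 661) (.leaf 1403)) (.leaf 1203)))) (.node (.node (.node (.node (.leaf 177) (.leaf 1283)) (.leaf 894)) (.node (.node (.leaf 567) (.leaf 1047)) (.leaf 1148))) (.node (.node (.node (.leaf 118) (.leaf 1325)) (.leaf 939)) (.node (.leaf 589) (.leaf 639)))))) (.node (.node (.node (.node (.node (.node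 (.leaf 37) (.leaf 1029)) (.leaf 796)) (.node (.node (.leaf 454) (.leaf 1427)) (.leaf 587))) (.node (.node (.node (.leaf 23) (.leaf 1378)) (.leaf 943)) (.node (.node (.leaf 641) (.leaf 870)) (.leaf 658)))) (.node (.node (.node (.node (.leaf 151) (.leaf 411)) (.leaf 878)) (.node (.node (.leaf 545) (.leaf 1461)) (.leaf 740))) (.node (.node (.node (.leaf 358) (.leaf 1405)) (.leaf 1009)) (.node (.node (.leaf 90) (.leaf 1246)) (.leaf 1247))))) (.node (.node (.node (.node (.node (.leaf 93) (.leaf 1307)) (.leaf 841)) (.node (.node (.leaf 499) (.leaf 670)) (.leaf 201))) (.node (.node (.node (.leaf 308) (.leaf 1393)) (.leaf 351)) (.node (.node (.leaf 82) (.leaf 951)) (.leaf 1087)))) (.node (.node (.node (.node (.leaf 17) (.leaf 1301)) (.leaf 908)) (.node (.node (.leaf 590) (.leaf 1194)) (.leaf 1162))) (.node (.node (.node (.leaf 403) (.leaf 1387)) (.leaf 979)) (.node (.leaf 756) (.leaf 1117))))))) (.node (.node (.node (.node (.node (.node (.node (.leaf 22) (.leaf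 1252)) (.leaf 106)) (.node (.node (.leaf 439) (.leaf 668)) (.leaf 1061))) (.node (.node (.node (.leaf 21) (.leaf 1373)) (.leaf 935)) (.node (.node (.leaf 630) (.leaf 1440)) (.leaf 1132)))) (.node (.node (.node (.node (.leaf 135) (.leaf 1285)) (.leaf 869)) (.node (.node (.leaf 257) (.leaf 577)) (.leaf 1126))) (.node (.node (.node (.leaf 345) (.leaf 814)) (.leaf 1003)) (.node (.node (.leaf 255) (.leaf 1497)) (.leaf 677))))) (.node (.node (.node (.node (.node (.leaf 81) (.leaf 1299)) (.leaf 830)) (.node (.node (.leaf 148) (.leaf 696)) (.leaf 602))) (.node (.node (.node (.leaf 295) (.leaf 1389)) (.leaf 964)) (.node (.node (.leaf 672) (.leaf 887)) (.leaf 1209)))) (.node (.node (.node (.node (.leaf 192) (.leaf 834)) (.leaf 901)) (.node (.node (.leaf 514) (.leaf 1468)) (.leaf 1153))) (.node (.node (.node (.leaf 102) (.leaf 1287)) (.leaf 904)) (.node (.leaf 608) (.leaf 738)))))) (.node (.node (.node (.node (.node (.node (.leaf 51) (.leaf 315)) (.leaf 470)) (.node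 (.node (.leaf 467) (.leaf 1438)) (.leaf 1079))) (.node (.node (.node (.leaf 273) (.leaf 849)) (.leaf 832)) (.node (.node (.leaf 551) (.leaf 1410)) (.leaf 1157)))) (.node (.node (.node (.node (.leaf 165) (.leaf 463)) (.leaf 126)) (.node (.node (.leaf 556) (.leaf 1452)) (.leaf 215))) (.node (.node (.node (.leaf 371) (.leaf 1394)) (.leaf 168)) (.node (.node (.leaf 725) (.leaf 1417)) (.leaf 599))))) (.node (.node (.node (.node (.node (.leaf 8) (.leaf 474)) (.leaf 336)) (.node (.node (.leaf 511) (.leaf 1152)) (.leaf 535))) (.node (.node (.node (.leaf 320) (.leaf 892)) (.leaf 156)) (.node (.node (.leaf 687) (.leaf 1006)) (.leaf 261)))) (.node (.node (.node (.node (.leaf 220) (.leaf 1010)) (.leaf 918)) (.node (.node (.leaf 566) (.leaf 1163)) (.leaf 709))) (.node (.node (.node (.leaf 344) (.leaf 806)) (.leaf 1044)) (.node (.leaf 765) (.leaf 1204)))))))) (.node (.node (.node (.node (.node (.node (.node (.node (.leaf 0) (.leaf 582)) (.leaf 346)) (.node (.node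 (.leaf 433) (.leaf 1425)) (.leaf 1057))) (.node (.node (.node (.leaf 242) (.leaf 1370)) (.leaf 818)) (.node (.node (.leaf 72) (.leaf 1151)) (.leaf 1185)))) (.node (.node (.node (.node (.leaf 130) (.leaf 1320)) (.leaf 451)) (.node (.node (.leaf 527) (.leaf 1242)) (.leaf 513))) (.node (.node (.node (.leaf 339) (.leaf 1400)) (.leaf 831)) (.node (.node (.leaf 701) (.leaf 1123)) (.leaf 1240))))) (.node (.node (.node (.node (.node (.leaf 73) (.leaf 1294)) (.leaf 824)) (.node (.node (.leaf 485) (.leaf 1442)) (.leaf 571))) (.node (.node (.node (.leaf 291) (.leaf 801)) (.leaf 958)) (.node (.node (.leaf 667) (.leaf 1482)) (.leaf 1128)))) (.node (.node (.node (.node (.leaf 184) (.leaf 353)) (.leaf 898)) (.node (.node (.leaf 572) (.leaf 1423)) (.leaf 244))) (.node (.node (.node (.leaf 388) (.leaf 1322)) (.leaf 1022)) (.node (.leaf 739) (.leaf 280)))))) (.node (.node (.node (.node (.node (.node (.leaf 43) (.leaf 990)) (.leaf 800)) (.node (.node (.leaf 460) (.leaf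 1062)) (.leaf 1073))) (.node (.node (.node (.leaf 266) (.leaf 924)) (.leaf 919)) (.node (.node (.leaf 221) (.leaf 1396)) (.leaf 1192)))) (.node (.node (.node (.node (.leaf 157) (.leaf 965)) (.leaf 881)) (.node (.node (.leaf 552) (.leaf 596)) (.leaf 1139))) (.node (.node (.node (.leaf 364) (.leaf 1017)) (.leaf 883)) (.node (.node (.leaf 719) (.leaf 1348)) (.leaf 1232))))) (.node (.node (.node (.node (.node (.leaf 101) (.leaf 1309)) (.leaf 846)) (.node (.node (.leaf 506) (.leaf 1451)) (.leaf 633))) (.node (.node (.node (.leaf 314) (.leaf 799)) (.leaf 982)) (.node (.node (.leaf 597) (.leaf 1016)) (.leaf 1223)))) (.node (.node (.node (.node (.leaf 212) (.leaf 1328)) (.leaf 914)) (.node (.node (.leaf 293) (.leaf 1064)) (.leaf 1109))) (.node (.node (.node (.leaf 408) (.leaf 1409)) (.leaf 1038)) (.node (.leaf 288) (.leaf 1077))))))) (.node (.node (.node (.node (.node (.node (.node (.leaf 29) (.leaf 1040)) (.leaf 789)) (.node (.node (.leaf 446) (.leaf 563))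 (.leaf 734))) (.node (.node (.node (.leaf 254) (.leaf 940)) (.leaf 427)) (.node (.node (.leaf 635) (.leaf 1480)) (.leaf 507)))) (.node (.node (.node (.node (.leaf 143) (.leaf 440)) (.leaf 875)) (.node (.node (.leaf 539) (.leaf 1460)) (.leaf 1130))) (.node (.node (.node (.leaf 352) (.leaf 482)) (.leaf 164)) (.node (.node (.leaf 711) (.leaf 1197)) (.leaf 755))))) (.node (.node (.node (.node (.node (.leaf 88) (.leaf 327)) (.leaf 836)) (.node (.node (.leaf 386) (.leaf 1134)) (.leaf 271))) (.node (.node (.node (.leaf 302) (.leaf 1352)) (.leaf 790)) (.node (.node (.leaf 606) (.leaf 1490)) (.leaf 1213)))) (.node (.node (.node (.node (.leaf 200) (.leaf 359)) (.leaf 355)) (.node (.node (.leaf 583) (.leaf 1471)) (.leaf 1156))) (.node (.node (.node (.leaf 398) (.leaf 1414)) (.leaf 176)) (.node (.leaf 750) (.leaf 307)))))) (.node (.node (.node (.node (.node (.node (.leaf 59) (.leaf 984)) (.leaf 110)) (.node (.node (.leaf 50) (.leaf 1274)) (.leaf 673))) (.node (.node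 (.node (.leaf 25) (.leaf 1292)) (.leaf 171)) (.node (.node (.leaf 655) (.leaf 795)) (.leaf 282)))) (.node (.node (.node (.node (.leaf 172) (.leaf 349)) (.leaf 889)) (.node (.node (.leaf 562) (.leaf 1138)) (.leaf 555))) (.node (.node (.node (.leaf 376) (.leaf 975)) (.leaf 170)) (.node (.leaf 92) (.leaf 1193))))) (.node (.node (.node (.node (.node (.leaf 115) (.leaf 1314)) (.leaf 775)) (.node (.node (.leaf 515) (.leaf 716)) (.leaf 1115))) (.node (.node (.node (.leaf 326) (.leaf 997)) (.leaf 991)) (.node (.node (.leaf 538) (.leaf 1392)) (.leaf 1231)))) (.node (.node (.node (.node (.leaf 19) (.leaf 1363)) (.leaf 923)) (.node (.node (.leaf 609) (.leaf 1464)) (.leaf 1176))) (.node (.node (.node (.leaf 419) (.leaf 1261)) (.leaf 614)) (.node (.leaf 770) (.leaf 703))))))))))) (.node (.node (.node (.node (.node (.node (.node (.node (.node (.node (.node (.leaf 2) (.leaf 701)) (.leaf 773)) (.node (.node (.leaf 387) (.leaf 1129)) (.leaf 1048))) (.node (.node (.node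 (.leaf 229) (.leaf 1365)) (.leaf 177)) (.node (.node (.leaf 612) (.leaf 1456)) (.leaf 1178)))) (.node (.node (.node (.node (.leaf 118) (.leaf 923)) (.leaf 823)) (.node (.node (.leaf 220) (.leaf 1201)) (.leaf 300))) (.node (.node (.node (.leaf 329) (.leaf 1397)) (.leaf 762)) (.node (.node (.leaf 693) (.leaf 1032)) (.leaf 536))))) (.node (.node (.node (.node (.node (.leaf 62) (.leaf 962)) (.leaf 812)) (.node (.node (.leaf 476) (.leaf 534)) (.leaf 265))) (.node (.node (.node (.leaf 280) (.leaf 406)) (.leaf 947)) (.node (.node (.leaf 206) (.leaf 1296)) (.leaf 1173)))) (.node (.node (.node (.node (.leaf 13) (.leaf 1341)) (.leaf 127)) (.node (.node (.leaf 510) (.leaf 717)) (.leaf 611))) (.node (.node (.node (.leaf 378) (.leaf 1367)) (.leaf 1018)) (.node (.leaf 564) (.leaf 1252)))))) (.node (.node (.node (.node (.node (.node (.leaf 32) (.leaf 999)) (.leaf 792)) (.node (.node (.leaf 449) (.leaf 1089)) (.leaf 580))) (.node (.node (.node (.leaf 257) (.leaf 976))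 (.leaf 854)) (.node (.node (.leaf 637) (.leaf 1481)) (.leaf 758)))) (.node (.node (.node (.node (.leaf 146) (.leaf 1331)) (.leaf 430)) (.node (.node (.leaf 541) (.leaf 585)) (.leaf 1132))) (.node (.node (.node (.leaf 355) (.leaf 898)) (.leaf 1006)) (.node (.node (.leaf 572) (.leaf 1269)) (.leaf 1209))))) (.node (.node (.node (.node (.node (.leaf 5) (.leaf 1305)) (.leaf 115)) (.node (.node (.leaf 454) (.leaf 1081)) (.leaf 726))) (.node (.node (.node (.leaf 305) (.leaf 920)) (.leaf 973)) (.node (.node (.leaf 677) (.leaf 1477)) (.leaf 254)))) (.node (.node (.node (.node (.leaf 202) (.leaf 1352)) (.leaf 465)) (.node (.node (.leaf 552) (.leaf 1142)) (.leaf 1158))) (.node (.node (.node (.leaf 338) (.leaf 1415)) (.leaf 968)) (.node (.leaf 752) (.leaf 689))))))) (.node (.node (.node (.node (.node (.node (.node (.leaf 17) (.leaf 1205)) (.leaf 784)) (.node (.node (.leaf 436) (.leaf 1427)) (.leaf 1059))) (.node (.node (.node (.leaf 244) (.leaf 1371)) (.leaf 933))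 (.node (.node (.leaf 625) (.leaf 1471)) (.leaf 232)))) (.node (.node (.node (.node (.leaf 9) (.leaf 1322)) (.leaf 865)) (.node (.node (.leaf 528) (.leaf 1212)) (.leaf 1123))) (.node (.node (.node (.leaf 340) (.leaf 847)) (.leaf 439)) (.node (.node (.leaf 703) (.leaf 1450)) (.leaf 1241))))) (.node (.node (.node (.node (.node (.leaf 76) (.leaf 380)) (.leaf 825)) (.node (.node (.leaf 51) (.leaf 1443)) (.leaf 562))) (.node (.node (.node (.leaf 26) (.leaf 1387)) (.leaf 960)) (.node (.node (.leaf 668) (.leaf 1291)) (.leaf 751)))) (.node (.node (.node (.node (.leaf 187) (.leaf 1320)) (.leaf 900)) (.node (.node (.leaf 575) (.leaf 1043)) (.leaf 1148))) (.node (.node (.node (.leaf 389) (.leaf 760)) (.leaf 1023)) (.node (.leaf 741) (.leaf 1126)))))) (.node (.node (.node (.node (.node (.node (.leaf 46) (.leaf 1282)) (.leaf 442)) (.node (.node (.leaf 463) (.leaf 1425)) (.leaf 1076))) (.node (.node (.node (.leaf 269) (.leaf 1364)) (.leaf 501)) (.node (.node (.leaf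 647) (.leaf 1483)) (.leaf 1194)))) (.node (.node (.node (.node (.leaf 160) (.leaf 1302)) (.leaf 883)) (.node (.node (.leaf 61) (.leaf 648)) (.leaf 1141))) (.node (.node (.node (.leaf 367) (.leaf 1405)) (.leaf 969)) (.node (.node (.leaf 545) (.leaf 1391)) (.leaf 273))))) (.node (.node (.node (.node (.node (.leaf 104) (.leaf 1310)) (.leaf 838)) (.node (.node (.leaf 508) (.leaf 1452)) (.leaf 1108))) (.node (.node (.node (.leaf 317) (.leaf 1353)) (.leaf 984)) (.node (.node (.leaf 521) (.leaf 1363)) (.leaf 1225)))) (.node (.node (.node (.node (.leaf 215) (.leaf 1356)) (.leaf 385)) (.node (.node (.leaf 583) (.leaf 1466)) (.leaf 226))) (.node (.node (.node (.leaf 411) (.leaf 938)) (.leaf 1040)) (.node (.leaf 761) (.leaf 586)))))))) (.node (.node (.node (.node (.node (.node (.node (.node (.leaf 10) (.leaf 737)) (.leaf 163)) (.node (.node (.leaf 429) (.leaf 1228)) (.leaf 661))) (.node (.node (.node (.leaf 237) (.leaf 1368)) (.leaf 927)) (.node (.node (.leaf 618)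 (.leaf 721)) (.leaf 256)))) (.node (.node (.node (.node (.leaf 126) (.leaf 1304)) (.leaf 322)) (.node (.node (.leaf 524) (.leaf 1044)) (.leaf 1120))) (.node (.node (.node (.leaf 336) (.leaf 424)) (.leaf 925)) (.node (.node (.leaf 594) (.leaf 1493)) (.leaf 1238))))) (.node (.node (.node (.node (.node (.leaf 68) (.leaf 1292)) (.leaf 820)) (.node (.node (.leaf 482) (.leaf 1051)) (.leaf 669))) (.node (.node (.node (.leaf 286) (.leaf 1384)) (.leaf 811)) (.node (.node (.leaf 663) (.leaf 1488)) (.leaf 1206)))) (.node (.node (.node (.node (.leaf 180) (.leaf 918)) (.leaf 137)) (.node (.node (.leaf 569) (.leaf 1444)) (.leaf 733))) (.node (.node (.node (.leaf 384) (.leaf 456)) (.leaf 316)) (.node (.leaf 609) (.leaf 543)))))) (.node (.node (.node (.node (.node (.node (.leaf 40) (.leaf 1280)) (.leaf 797)) (.node (.node (.leaf 45) (.leaf 1435)) (.leaf 190))) (.node (.node (.node (.leaf 263) (.leaf 1358)) (.leaf 944)) (.node (.node (.leaf 632) (.leaf 978)) (.leaf 511))))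 (.node (.node (.node (.node (.leaf 11) (.leaf 906)) (.leaf 123)) (.node (.node (.leaf 547) (.leaf 1070)) (.leaf 694))) (.node (.node (.node (.leaf 359) (.leaf 1382)) (.leaf 319)) (.node (.node (.leaf 716) (.leaf 1185)) (.leaf 515))))) (.node (.node (.node (.node (.node (.leaf 96) (.leaf 328)) (.leaf 843)) (.node (.node (.leaf 133) (.leaf 1428)) (.leaf 1103))) (.node (.node (.node (.leaf 28) (.leaf 1038)) (.leaf 977)) (.node (.node (.leaf 635) (.leaf 915)) (.leaf 1218)))) (.node (.node (.node (.node (.leaf 207) (.leaf 936)) (.leaf 826)) (.node (.node (.leaf 593) (.leaf 1078)) (.leaf 1147))) (.node (.node (.node (.leaf 405) (.leaf 1417)) (.leaf 862)) (.node (.leaf 99) (.leaf 1265))))))) (.node (.node (.node (.node (.node (.node (.node (.leaf 25) (.leaf 1086)) (.leaf 135)) (.node (.node (.leaf 441) (.leaf 1429)) (.leaf 1064))) (.node (.node (.node (.leaf 249) (.leaf 1374)) (.leaf 937)) (.node (.node (.leaf 73) (.leaf 835)) (.leaf 264)))) (.node (.node (.node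 (.node (.leaf 138) (.leaf 1326)) (.leaf 871)) (.node (.node (.leaf 535) (.leaf 1457)) (.leaf 1128))) (.node (.node (.node (.leaf 147) (.leaf 966)) (.leaf 1004)) (.node (.node (.leaf 707) (.leaf 1236)) (.leaf 1242))))) (.node (.node (.node (.node (.node (.leaf 84) (.leaf 1301)) (.leaf 832)) (.node (.node (.leaf 491) (.leaf 1273)) (.leaf 240))) (.node (.node (.node (.leaf 238) (.leaf 1390)) (.leaf 967)) (.node (.node (.leaf 234) (.leaf 1378)) (.leaf 1153)))) (.node (.node (.node (.node (.leaf 195) (.leaf 1324)) (.leaf 904)) (.node (.node (.leaf 567) (.leaf 1442)) (.leaf 1049))) (.node (.node (.node (.leaf 394) (.leaf 471)) (.leaf 980)) (.node (.leaf 747) (.leaf 283)))))) (.node (.node (.node (.node (.node (.node (.leaf 54) (.leaf 395)) (.leaf 314)) (.node (.node (.leaf 470) (.leaf 1437)) (.leaf 1080))) (.node (.node (.node (.leaf 276) (.leaf 1327)) (.leaf 949)) (.node (.node (.leaf 613) (.leaf 1485)) (.leaf 1198)))) (.node (.node (.node (.node (.leaf 168)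 (.leaf 375)) (.leaf 780)) (.node (.node (.leaf 558) (.leaf 1464)) (.leaf 607))) (.node (.node (.node (.leaf 372) (.leaf 444)) (.leaf 964)) (.node (.leaf 526) (.leaf 304))))) (.node (.node (.node (.node (.node (.leaf 110) (.leaf 821)) (.leaf 851)) (.node (.node (.leaf 297) (.leaf 557)) (.leaf 1111))) (.node (.node (.node (.leaf 321) (.leaf 850)) (.leaf 988)) (.node (.node (.leaf 688) (.leaf 1487)) (.leaf 1054)))) (.node (.node (.node (.node (.leaf 223) (.leaf 1359)) (.leaf 919)) (.node (.node (.leaf 604) (.leaf 1467)) (.leaf 1174))) (.node (.node (.node (.leaf 403) (.leaf 1015)) (.leaf 756)) (.node (.leaf 766) (.leaf 1271))))))))) (.node (.node (.node (.node (.node (.node (.node (.node (.node (.leaf 6) (.leaf 1275)) (.leaf 103)) (.node (.node (.leaf 425) (.leaf 1183)) (.leaf 1052))) (.node (.node (.node (.leaf 233) (.leaf 813)) (.leaf 924)) (.node (.node (.leaf 69) (.leaf 719)) (.leaf 679)))) (.node (.node (.node (.node (.leaf 122) (.leaf 1316)) (.leaf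 858)) (.node (.node (.leaf 520) (.leaf 746)) (.leaf 1117))) (.node (.node (.node (.leaf 333) (.leaf 421)) (.leaf 995)) (.node (.node (.leaf 695) (.leaf 1491)) (.leaf 1235))))) (.node (.node (.node (.node (.node (.leaf 3) (.leaf 1281)) (.leaf 816)) (.node (.node (.leaf 422) (.leaf 1440)) (.leaf 1087))) (.node (.node (.node (.leaf 282) (.leaf 1299)) (.leaf 360)) (.node (.node (.leaf 660) (.leaf 1404)) (.leaf 1202)))) (.node (.node (.node (.node (.leaf 176) (.leaf 1342)) (.leaf 893)) (.node (.node (.leaf 566) (.leaf 1110)) (.leaf 656))) (.node (.node (.node (.leaf 381) (.leaf 1357)) (.leaf 1019)) (.node (.leaf 734) (.leaf 742)))))) (.node (.node (.node (.node (.node (.node (.leaf 36) (.leaf 1278)) (.leaf 795)) (.node (.node (.leaf 453) (.leaf 1433)) (.leaf 1069))) (.node (.node (.node (.leaf 22) (.leaf 1317)) (.leaf 942)) (.node (.node (.leaf 640) (.leaf 846)) (.leaf 672)))) (.node (.node (.node (.node (.leaf 150) (.leaf 1333)) (.leaf 877)) (.node (.node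 (.leaf 544) (.leaf 1045)) (.leaf 1136))) (.node (.node (.node (.leaf 341) (.leaf 991)) (.leaf 458)) (.node (.node (.leaf 89) (.leaf 1495)) (.leaf 1155))))) (.node (.node (.node (.node (.node (.leaf 92) (.leaf 391)) (.leaf 776)) (.node (.node (.leaf 498) (.leaf 641)) (.leaf 200))) (.node (.node (.node (.leaf 307) (.leaf 1392)) (.leaf 975)) (.node (.node (.leaf 81) (.leaf 1492)) (.leaf 1162)))) (.node (.node (.node (.node (.leaf 16) (.leaf 866)) (.leaf 446)) (.node (.node (.leaf 589) (.leaf 1472)) (.leaf 1161))) (.node (.node (.node (.leaf 402) (.leaf 1370)) (.leaf 1035)) (.node (.leaf 755) (.leaf 1262))))))) (.node (.node (.node (.node (.node (.node (.node (.leaf 21) (.leaf 1168)) (.leaf 105)) (.node (.node (.leaf 438) (.leaf 1115)) (.leaf 735))) (.node (.node (.node (.leaf 20) (.leaf 1335)) (.leaf 934)) (.node (.node (.leaf 629) (.leaf 1476)) (.leaf 1187)))) (.node (.node (.node (.node (.leaf 134) (.leaf 875)) (.leaf 868)) (.node (.node (.leaf 532) (.leaf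 731)) (.leaf 1125))) (.node (.node (.node (.leaf 344) (.leaf 1402)) (.leaf 1002)) (.node (.node (.leaf 682) (.leaf 1063)) (.leaf 268))))) (.node (.node (.node (.node (.node (.leaf 80) (.leaf 1298)) (.leaf 829)) (.node (.node (.leaf 460) (.leaf 676)) (.leaf 1095))) (.node (.node (.node (.leaf 208) (.leaf 1009)) (.leaf 963)) (.node (.node (.leaf 671) (.leaf 1288)) (.leaf 744)))) (.node (.node (.node (.node (.leaf 191) (.leaf 1343)) (.leaf 433)) (.node (.node (.leaf 523) (.leaf 1460)) (.leaf 529))) (.node (.node (.node (.leaf 348) (.leaf 802)) (.leaf 1027)) (.node (.leaf 745) (.leaf 1257)))))) (.node (.node (.node (.node (.node (.node (.leaf 50) (.leaf 352)) (.leaf 805)) (.node (.node (.leaf 466) (.leaf 1250)) (.leaf 1056))) (.node (.node (.node (.leaf 272) (.leaf 412)) (.leaf 494)) (.node (.node (.leaf 214) (.leaf 905)) (.leaf 1160)))) (.node (.node (.node (.node (.leaf 164) (.leaf 1021)) (.leaf 478)) (.node (.node (.leaf 555) (.leaf 1451)) (.leaf 1143)))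 (.node (.node (.node (.leaf 370) (.leaf 488)) (.leaf 1013)) (.node (.node (.leaf 724) (.leaf 1418)) (.leaf 1224))))) (.node (.node (.node (.node (.node (.leaf 7) (.leaf 1311)) (.leaf 828)) (.node (.node (.leaf 222) (.leaf 1436)) (.leaf 1094))) (.node (.node (.node (.leaf 43) (.leaf 1395)) (.leaf 383)) (.node (.node (.leaf 680) (.leaf 1494)) (.leaf 603)))) (.node (.node (.node (.node (.leaf 219) (.leaf 366)) (.leaf 917)) (.node (.node (.leaf 601) (.leaf 1208)) (.leaf 1171))) (.node (.node (.node (.leaf 354) (.leaf 490)) (.leaf 277)) (.node (.leaf 764) (.leaf 537)))))))) (.node (.node (.node (.node (.node (.node (.node (.node (.leaf 14) (.leaf 1140)) (.leaf 781)) (.node (.node (.leaf 125) (.leaf 1424)) (.leaf 598))) (.node (.node (.node (.leaf 241) (.leaf 1308)) (.leaf 931)) (.node (.node (.leaf 622) (.leaf 1463)) (.leaf 1184)))) (.node (.node (.node (.node (.leaf 129) (.leaf 1319)) (.leaf 863)) (.node (.node (.leaf 512) (.leaf 1459)) (.leaf 550))) (.node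 (.node (.node (.leaf 149) (.leaf 804)) (.leaf 1000)) (.node (.node (.leaf 700) (.leaf 1068)) (.leaf 1181))))) (.node (.node (.node (.node (.node (.leaf 72) (.leaf 1293)) (.leaf 437)) (.node (.node (.leaf 121) (.leaf 1441)) (.leaf 260))) (.node (.node (.node (.leaf 290) (.leaf 1385)) (.leaf 928)) (.node (.node (.leaf 91) (.leaf 856)) (.leaf 664)))) (.node (.node (.node (.node (.leaf 183) (.leaf 1345)) (.leaf 404)) (.node (.node (.leaf 571) (.leaf 1465)) (.leaf 1151))) (.node (.node (.node (.leaf 373) (.leaf 987)) (.leaf 982)) (.node (.leaf 738) (.leaf 1196)))))) (.node (.node (.node (.node (.node (.node (.leaf 42) (.leaf 371)) (.leaf 799)) (.node (.node (.leaf 459) (.leaf 1432)) (.leaf 1072))) (.node (.node (.node (.leaf 186) (.leaf 484)) (.leaf 452)) (.node (.node (.leaf 619) (.leaf 779)) (.leaf 728)))) (.node (.node (.node (.node (.leaf 156) (.leaf 1336)) (.leaf 787)) (.node (.node (.leaf 551) (.leaf 1462)) (.leaf 1138))) (.node (.node (.node (.leaf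 363) (.leaf 481)) (.leaf 339)) (.node (.node (.leaf 516) (.leaf 1469)) (.leaf 723))))) (.node (.node (.node (.node (.node (.leaf 100) (.leaf 943)) (.leaf 499)) (.node (.node (.leaf 505) (.leaf 1270)) (.leaf 210))) (.node (.node (.node (.leaf 313) (.leaf 1300)) (.leaf 981)) (.node (.node (.leaf 683) (.leaf 1355)) (.leaf 1222)))) (.node (.node (.node (.node (.leaf 211) (.leaf 930)) (.leaf 913)) (.node (.node (.leaf 596) (.leaf 725)) (.leaf 1166))) (.node (.node (.node (.leaf 407) (.leaf 957)) (.leaf 1037)) (.node (.leaf 739) (.leaf 1137))))))) (.node (.node (.node (.node (.node (.node (.node (.leaf 0) (.leaf 646)) (.leaf 165)) (.node (.node (.leaf 445) (.leaf 1144)) (.leaf 699))) (.node (.node (.node (.leaf 253) (.leaf 1376)) (.leaf 940)) (.node (.node (.leaf 553) (.leaf 993)) (.leaf 1099)))) (.node (.node (.node (.node (.leaf 142) (.leaf 1330)) (.leaf 347)) (.node (.node (.leaf 538) (.leaf 1075)) (.leaf 1053))) (.node (.node (.node (.leaf 351) (.leaf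 492)) (.leaf 175)) (.node (.node (.leaf 678) (.leaf 1122)) (.leaf 1245))))) (.node (.node (.node (.node (.node (.leaf 87) (.leaf 1303)) (.leaf 428)) (.node (.node (.leaf 141) (.leaf 1061)) (.leaf 285))) (.node (.node (.node (.leaf 301) (.leaf 763)) (.leaf 970)) (.node (.node (.leaf 624) (.leaf 1486)) (.leaf 1213)))) (.node (.node (.node (.node (.leaf 199) (.leaf 358)) (.leaf 130)) (.node (.node (.leaf 582) (.leaf 1470)) (.leaf 1133))) (.node (.node (.node (.leaf 397) (.leaf 1398)) (.leaf 1024)) (.node (.leaf 749) (.leaf 1260)))))) (.node (.node (.node (.node (.node (.node (.leaf 58) (.leaf 432)) (.leaf 800)) (.node (.node (.leaf 49) (.leaf 1243)) (.leaf 1082))) (.node (.node (.node (.leaf 24) (.leaf 1383)) (.leaf 951)) (.node (.node (.leaf 654) (.leaf 1366)) (.leaf 1199)))) (.node (.node (.node (.node (.leaf 171) (.leaf 1286)) (.leaf 888)) (.node (.node (.leaf 561) (.leaf 652)) (.leaf 506))) (.node (.node (.node (.leaf 343) (.leaf 857)) (.leaf 1017))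 (.node (.leaf 715) (.leaf 1219))))) (.node (.node (.node (.node (.node (.leaf 114) (.leaf 859)) (.leaf 330)) (.node (.node (.leaf 514) (.leaf 1454)) (.leaf 1092))) (.node (.node (.node (.leaf 325) (.leaf 1396)) (.leaf 990)) (.node (.node (.leaf 690) (.leaf 998)) (.leaf 1230)))) (.node (.node (.node (.node (.leaf 18) (.leaf 1362)) (.leaf 922)) (.node (.node (.leaf 608) (.leaf 1468)) (.leaf 1175))) (.node (.node (.node (.leaf 418) (.leaf 504)) (.leaf 1047)) (.node (.leaf 769) (.leaf 636)))))))))) (.node (.node (.node (.node (.node (.node (.node (.node (.node (.node (.leaf 4) (.leaf 1274)) (.leaf 775)) (.node (.node (.leaf 423) (.leaf 1420)) (.leaf 1050))) (.node (.node (.node (.leaf 231) (.leaf 414)) (.leaf 819)) (.node (.node (.leaf 614) (.leaf 706)) (.leaf 1179)))) (.node (.node (.node (.node (.leaf 120) (.leaf 1314)) (.leaf 119)) (.node (.node (.leaf 518) (.leaf 710)) (.leaf 605))) (.node (.node (.node (.leaf 331) (.leaf 914)) (.leaf 783)) (.node (.node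 (.leaf 85) (.leaf 1297)) (.leaf 1139))))) (.node (.node (.node (.node (.node (.leaf 64) (.leaf 1290)) (.leaf 814)) (.node (.node (.leaf 388) (.leaf 1422)) (.leaf 1085))) (.node (.node (.node (.leaf 236) (.leaf 1347)) (.leaf 145)) (.node (.node (.leaf 658) (.leaf 1289)) (.leaf 246)))) (.node (.node (.node (.node (.leaf 174) (.leaf 872)) (.leaf 892)) (.node (.node (.leaf 63) (.leaf 1079)) (.leaf 216))) (.node (.node (.node (.leaf 157) (.leaf 1372)) (.leaf 1011)) (.node (.leaf 732) (.leaf 1097)))))) (.node (.node (.node (.node (.node (.node (.leaf 34) (.leaf 376)) (.leaf 793)) (.node (.node (.leaf 451) (.leaf 1216)) (.leaf 1067))) (.node (.node (.node (.leaf 259) (.leaf 1377)) (.leaf 448)) (.node (.node (.leaf 639) (.leaf 830)) (.leaf 1190)))) (.node (.node (.node (.node (.leaf 148) (.leaf 772)) (.leaf 320)) (.node (.node (.leaf 71) (.leaf 643)) (.leaf 1134))) (.node (.node (.node (.leaf 356) (.leaf 884)) (.leaf 1007)) (.node (.node (.leaf 592) (.leaf 1474))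 (.leaf 1246))))) (.node (.node (.node (.node (.node (.leaf 90) (.leaf 1306)) (.leaf 839)) (.node (.node (.leaf 53) (.leaf 621)) (.leaf 1101))) (.node (.node (.node (.leaf 242) (.leaf 842)) (.leaf 974)) (.node (.node (.leaf 289) (.leaf 1294)) (.leaf 1105)))) (.node (.node (.node (.node (.leaf 182) (.leaf 1354)) (.leaf 131)) (.node (.node (.leaf 587) (.leaf 1071)) (.leaf 1159))) (.node (.node (.node (.leaf 39) (.leaf 479)) (.leaf 1033)) (.node (.leaf 754) (.leaf 1200))))))) (.node (.node (.node (.node (.node (.node (.node (.leaf 19) (.leaf 1264)) (.leaf 151)) (.node (.node (.leaf 419) (.leaf 1093)) (.leaf 748))) (.node (.node (.node (.leaf 228) (.leaf 377)) (.leaf 139)) (.node (.node (.leaf 627) (.leaf 1276)) (.leaf 1186)))) (.node (.node (.node (.node (.leaf 132) (.leaf 1313)) (.leaf 867)) (.node (.node (.leaf 530) (.leaf 1226)) (.leaf 1116))) (.node (.node (.node (.leaf 342) (.leaf 426)) (.leaf 916)) (.node (.node (.leaf 704) (.leaf 1118)) (.leaf 1124)))))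 (.node (.node (.node (.node (.node (.leaf 78) (.leaf 774)) (.leaf 827)) (.node (.node (.leaf 487) (.leaf 1233)) (.leaf 196))) (.node (.node (.node (.leaf 293) (.leaf 1022)) (.leaf 961)) (.node (.node (.leaf 670) (.leaf 1479)) (.leaf 1164)))) (.node (.node (.node (.node (.leaf 189) (.leaf 1348)) (.leaf 881)) (.node (.node (.leaf 577) (.leaf 630)) (.leaf 218))) (.node (.node (.node (.leaf 390) (.leaf 467)) (.leaf 1025)) (.node (.leaf 743) (.leaf 615)))))) (.node (.node (.node (.node (.node (.node (.leaf 48) (.leaf 1283)) (.leaf 485)) (.node (.node (.leaf 464) (.leaf 527)) (.leaf 1077))) (.node (.node (.node (.leaf 271) (.leaf 1334)) (.leaf 948)) (.node (.node (.leaf 649) (.leaf 1349)) (.leaf 1195)))) (.node (.node (.node (.node (.leaf 162) (.leaf 345)) (.leaf 167)) (.node (.node (.leaf 554) (.leaf 1107)) (.leaf 692))) (.node (.node (.node (.leaf 179) (.leaf 496)) (.leaf 1012)) (.node (.node (.leaf 590) (.leaf 1406)) (.leaf 1240))))) (.node (.node (.node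 (.node (.node (.leaf 106) (.leaf 817)) (.leaf 117)) (.node (.node (.leaf 509) (.leaf 570)) (.leaf 1109))) (.node (.node (.node (.leaf 318) (.leaf 1034)) (.leaf 985)) (.node (.node (.leaf 686) (.leaf 1484)) (.leaf 306)))) (.node (.node (.node (.node (.leaf 217) (.leaf 1031)) (.leaf 172)) (.node (.node (.leaf 599) (.leaf 1239)) (.leaf 1169))) (.node (.node (.node (.leaf 413) (.leaf 848)) (.leaf 1042)) (.node (.leaf 364) (.leaf 292)))))))) (.node (.node (.node (.node (.node (.node (.node (.node (.leaf 12) (.leaf 666)) (.leaf 473)) (.node (.node (.leaf 431) (.leaf 1090)) (.leaf 1055))) (.node (.node (.node (.leaf 239) (.leaf 1369)) (.leaf 929)) (.node (.node (.leaf 620) (.leaf 1266)) (.leaf 1182)))) (.node (.node (.node (.node (.leaf 128) (.leaf 1318)) (.leaf 861)) (.node (.node (.leaf 525) (.leaf 1066)) (.leaf 270))) (.node (.node (.node (.leaf 337) (.leaf 486)) (.leaf 159)) (.node (.node (.leaf 95) (.leaf 1253)) (.leaf 266))))) (.node (.node (.node (.node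 (.node (.leaf 70) (.leaf 815)) (.leaf 822)) (.node (.node (.leaf 483) (.leaf 1234)) (.leaf 659))) (.node (.node (.node (.leaf 288) (.leaf 393)) (.leaf 956)) (.node (.node (.leaf 665) (.leaf 1381)) (.leaf 1156)))) (.node (.node (.node (.node (.leaf 181) (.leaf 1344)) (.leaf 896)) (.node (.node (.leaf 519) (.leaf 1104)) (.leaf 1150))) (.node (.node (.node (.leaf 386) (.leaf 1408)) (.leaf 972)) (.node (.leaf 736) (.leaf 298)))))) (.node (.node (.node (.node (.node (.node (.leaf 1) (.leaf 869)) (.leaf 107)) (.node (.node (.leaf 457) (.leaf 1421)) (.leaf 1060))) (.node (.node (.node (.leaf 230) (.leaf 462)) (.leaf 945)) (.node (.node (.leaf 75) (.leaf 789)) (.leaf 565)))) (.node (.node (.node (.node (.leaf 154) (.leaf 368)) (.leaf 841)) (.node (.node (.leaf 549) (.leaf 588)) (.leaf 212))) (.node (.node (.node (.leaf 361) (.leaf 921)) (.leaf 1010)) (.node (.node (.leaf 617) (.leaf 1498)) (.leaf 1215))))) (.node (.node (.node (.node (.node (.leaf 98) (.leaf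 874)) (.leaf 845)) (.node (.node (.leaf 503) (.leaf 576)) (.leaf 687))) (.node (.node (.node (.leaf 311) (.leaf 1394)) (.leaf 979)) (.node (.node (.leaf 568) (.leaf 1489)) (.leaf 1220)))) (.node (.node (.node (.node (.leaf 209) (.leaf 1323)) (.leaf 161)) (.node (.node (.leaf 198) (.leaf 1473)) (.leaf 675))) (.node (.node (.node (.leaf 350) (.leaf 1380)) (.leaf 1036)) (.node (.leaf 650) (.leaf 1114))))))) (.node (.node (.node (.node (.node (.node (.node (.leaf 27) (.leaf 1267)) (.leaf 788)) (.node (.node (.leaf 443) (.leaf 1430)) (.leaf 188))) (.node (.node (.node (.leaf 251) (.leaf 1375)) (.leaf 939)) (.node (.node (.leaf 633) (.leaf 1478)) (.leaf 1189)))) (.node (.node (.node (.node (.leaf 140) (.leaf 1328)) (.leaf 873)) (.node (.node (.leaf 252) (.leaf 1073)) (.leaf 634))) (.node (.node (.node (.leaf 349) (.leaf 1379)) (.leaf 886)) (.node (.node (.leaf 709) (.leaf 1499)) (.leaf 1244))))) (.node (.node (.node (.node (.node (.leaf 86) (.leaf 840)) (.leaf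 834)) (.node (.node (.leaf 493) (.leaf 1447)) (.leaf 1098))) (.node (.node (.node (.leaf 299) (.leaf 803)) (.leaf 946)) (.node (.node (.leaf 539) (.leaf 836)) (.leaf 1211)))) (.node (.node (.node (.node (.leaf 197) (.leaf 1329)) (.leaf 878)) (.node (.node (.leaf 65) (.leaf 1119)) (.leaf 662))) (.node (.node (.node (.leaf 396) (.leaf 1412)) (.leaf 1029)) (.node (.leaf 97) (.leaf 1259)))))) (.node (.node (.node (.node (.node (.node (.leaf 56) (.leaf 1287)) (.leaf 809)) (.node (.node (.leaf 472) (.leaf 1135)) (.leaf 574))) (.node (.node (.node (.leaf 262) (.leaf 1284)) (.leaf 950)) (.node (.node (.leaf 77) (.leaf 880)) (.leaf 1192)))) (.node (.node (.node (.node (.leaf 170) (.leaf 1340)) (.leaf 887)) (.node (.node (.leaf 560) (.leaf 1251)) (.leaf 1145))) (.node (.node (.node (.leaf 374) (.leaf 1008)) (.leaf 1016)) (.node (.leaf 727) (.leaf 750))))) (.node (.node (.node (.node (.node (.leaf 112) (.leaf 332)) (.leaf 853)) (.node (.node (.leaf 513) (.leaf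 1453)) (.leaf 1113))) (.node (.node (.node (.leaf 323) (.leaf 417)) (.leaf 989)) (.node (.node (.leaf 559) (.leaf 1400)) (.leaf 1177)))) (.node (.node (.node (.node (.leaf 225) (.leaf 1360)) (.leaf 785)) (.node (.node (.leaf 606) (.leaf 697)) (.leaf 698))) (.node (.node (.node (.leaf 41) (.leaf 497)) (.leaf 1046)) (.node (.leaf 113) (.leaf 730))))))))) (.node (.node (.node (.node (.node (.node (.node (.node (.node (.leaf 8) (.leaf 1127)) (.leaf 777)) (.node (.node (.leaf 427) (.leaf 1423)) (.leaf 713))) (.node (.node (.node (.leaf 235) (.leaf 1332)) (.leaf 926)) (.node (.node (.leaf 616) (.leaf 1475)) (.leaf 711)))) (.node (.node (.node (.node (.leaf 124) (.leaf 864)) (.leaf 410)) (.node (.node (.leaf 522) (.leaf 1458)) (.leaf 1058))) (.node (.node (.node (.leaf 335) (.leaf 1399)) (.leaf 997)) (.node (.node (.leaf 696) (.leaf 1416)) (.leaf 722))))) (.node (.node (.node (.node (.node (.leaf 66) (.leaf 808)) (.leaf 818)) (.node (.node (.leaf 480) (.leaf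 578)) (.leaf 1088))) (.node (.node (.node (.leaf 284) (.leaf 824)) (.leaf 954)) (.node (.node (.leaf 542) (.leaf 844)) (.leaf 1204)))) (.node (.node (.node (.node (.leaf 178) (.leaf 786)) (.leaf 807)) (.node (.node (.leaf 93) (.leaf 1248)) (.leaf 1149))) (.node (.node (.node (.leaf 382) (.leaf 894)) (.leaf 1020)) (.node (.leaf 531) (.leaf 1255)))))) (.node (.node (.node (.node (.node (.node (.leaf 38) (.leaf 1279)) (.leaf 169)) (.node (.node (.leaf 455) (.leaf 1434)) (.leaf 1065))) (.node (.node (.node (.leaf 261) (.leaf 860)) (.leaf 334)) (.node (.node (.leaf 194) (.leaf 1480)) (.leaf 1191)))) (.node (.node (.node (.node (.leaf 152) (.leaf 879)) (.leaf 398)) (.node (.node (.leaf 546) (.leaf 1249)) (.leaf 281))) (.node (.node (.node (.leaf 33) (.leaf 794)) (.leaf 994)) (.node (.node (.leaf 714) (.leaf 1461)) (.leaf 657))))) (.node (.node (.node (.node (.node (.leaf 94) (.leaf 891)) (.leaf 416)) (.node (.node (.leaf 500) (.leaf 1445)) (.leaf 1102))) (.node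 (.node (.node (.leaf 294) (.leaf 897)) (.leaf 153)) (.node (.node (.leaf 655) (.leaf 1309)) (.leaf 1217)))) (.node (.node (.node (.node (.leaf 205) (.leaf 1351)) (.leaf 909)) (.node (.node (.leaf 591) (.leaf 653)) (.leaf 1163))) (.node (.node (.node (.leaf 324) (.leaf 912)) (.leaf 953)) (.node (.leaf 250) (.leaf 1263))))))) (.node (.node (.node (.node (.node (.node (.node (.leaf 23) (.leaf 1277)) (.leaf 435)) (.node (.node (.leaf 440) (.leaf 1231)) (.leaf 1062))) (.node (.node (.node (.leaf 247) (.leaf 907)) (.leaf 911)) (.node (.node (.leaf 631) (.leaf 1439)) (.leaf 600)))) (.node (.node (.node (.node (.leaf 136) (.leaf 1325)) (.leaf 870)) (.node (.node (.leaf 533) (.leaf 1438)) (.leaf 291))) (.node (.node (.node (.leaf 346) (.leaf 1393)) (.leaf 379)) (.node (.node (.leaf 705) (.leaf 1112)) (.leaf 1084))))) (.node (.node (.node (.node (.node (.leaf 82) (.leaf 400)) (.leaf 831)) (.node (.node (.leaf 489) (.leaf 1446)) (.leaf 1096))) (.node (.node (.node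 (.leaf 296) (.leaf 1307)) (.leaf 965)) (.node (.node (.leaf 673) (.leaf 1413)) (.leaf 1210)))) (.node (.node (.node (.node (.leaf 193) (.leaf 986)) (.leaf 902)) (.node (.node (.leaf 579) (.leaf 708)) (.leaf 1154))) (.node (.node (.node (.leaf 392) (.leaf 1410)) (.leaf 958)) (.node (.leaf 556) (.leaf 1258)))))) (.node (.node (.node (.node (.node (.node (.leaf 52) (.leaf 1285)) (.leaf 806)) (.node (.node (.leaf 468) (.leaf 1237)) (.leaf 192))) (.node (.node (.node (.leaf 274) (.leaf 935)) (.leaf 450)) (.node (.node (.leaf 651) (.leaf 932)) (.leaf 1197)))) (.node (.node (.node (.node (.leaf 166) (.leaf 1339)) (.leaf 885)) (.node (.node (.leaf 517) (.leaf 638)) (.leaf 757))) (.node (.node (.node (.leaf 35) (.leaf 796)) (.leaf 1014)) (.node (.node (.leaf 275) (.leaf 1338)) (.leaf 1180))))) (.node (.node (.node (.node (.node (.leaf 108) (.leaf 1312)) (.leaf 849)) (.node (.node (.leaf 55) (.leaf 1057)) (.leaf 595))) (.node (.node (.node (.leaf 29) (.leaf 1389))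 (.leaf 357)) (.node (.node (.leaf 83) (.leaf 1388)) (.leaf 1227)))) (.node (.node (.node (.node (.leaf 221) (.leaf 1321)) (.leaf 908)) (.node (.node (.leaf 602) (.leaf 1448)) (.leaf 1172))) (.node (.node (.node (.leaf 415) (.leaf 1419)) (.leaf 642)) (.node (.leaf 101) (.leaf 1221)))))))) (.node (.node (.node (.node (.node (.node (.node (.node (.leaf 15) (.leaf 581)) (.leaf 782)) (.node (.node (.leaf 434) (.leaf 1426)) (.leaf 184))) (.node (.node (.node (.leaf 243) (.leaf 469)) (.leaf 778)) (.node (.node (.leaf 623) (.leaf 753)) (.leaf 1130)))) (.node (.node (.node (.node (.leaf 109) (.leaf 996)) (.leaf 767)) (.node (.node (.leaf 57) (.leaf 681)) (.leaf 245))) (.node (.node (.node (.leaf 31) (.leaf 1401)) (.leaf 1001)) (.node (.node (.leaf 295) (.leaf 1496)) (.leaf 712))))) (.node (.node (.node (.node (.node (.leaf 74) (.leaf 1295)) (.leaf 111)) (.node (.node (.leaf 475) (.leaf 628)) (.leaf 1091))) (.node (.node (.node (.leaf 224) (.leaf 1386)) (.leaf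 959)) (.node (.node (.leaf 79) (.leaf 910)) (.leaf 1203)))) (.node (.node (.node (.node (.leaf 185) (.leaf 1346)) (.leaf 899)) (.node (.node (.leaf 573) (.leaf 1247)) (.leaf 1152))) (.node (.node (.node (.leaf 37) (.leaf 1409)) (.leaf 173)) (.node (.leaf 740) (.leaf 1256)))))) (.node (.node (.node (.node (.node (.node (.leaf 44) (.leaf 312)) (.leaf 801)) (.node (.node (.leaf 461) (.leaf 1176)) (.leaf 1074))) (.node (.node (.node (.leaf 267) (.leaf 1373)) (.leaf 143)) (.node (.node (.leaf 645) (.leaf 1482)) (.leaf 1193)))) (.node (.node (.node (.node (.leaf 158) (.leaf 1337)) (.leaf 882)) (.node (.node (.leaf 540) (.leaf 1229)) (.leaf 674))) (.node (.node (.node (.leaf 365) (.leaf 1407)) (.leaf 401)) (.node (.node (.leaf 720) (.leaf 1414)) (.leaf 667))))) (.node (.node (.node (.node (.node (.leaf 102) (.leaf 889)) (.leaf 310)) (.node (.node (.leaf 507) (.leaf 685)) (.leaf 1106))) (.node (.node (.node (.leaf 315) (.leaf 798)) (.leaf 983)) (.node (.node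 (.leaf 684) (.leaf 1490)) (.leaf 258)))) (.node (.node (.node (.node (.leaf 213) (.leaf 1315)) (.leaf 770)) (.node (.node (.leaf 597) (.leaf 702)) (.leaf 1167))) (.node (.node (.node (.leaf 409) (.leaf 502)) (.leaf 1039)) (.node (.leaf 759) (.leaf 1268))))))) (.node (.node (.node (.node (.node (.node (.node (.leaf 30) (.leaf 309)) (.leaf 790)) (.node (.node (.leaf 447) (.leaf 1431)) (.leaf 278))) (.node (.node (.node (.leaf 255) (.leaf 833)) (.leaf 362)) (.node (.node (.leaf 308) (.leaf 876)) (.leaf 248)))) (.node (.node (.node (.node (.leaf 144) (.leaf 895)) (.leaf 765)) (.node (.node (.leaf 59) (.leaf 1121)) (.leaf 1131))) (.node (.node (.node (.leaf 353) (.leaf 1403)) (.leaf 1005)) (.node (.node (.leaf 88) (.leaf 1497)) (.leaf 626))))) (.node (.node (.node (.node (.node (.leaf 67) (.leaf 955)) (.leaf 837)) (.node (.node (.leaf 495) (.leaf 1254)) (.leaf 1100))) (.node (.node (.node (.leaf 303) (.leaf 1361)) (.leaf 971)) (.node (.node (.leaf 204) (.leaf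 903)) (.leaf 1214)))) (.node (.node (.node (.node (.leaf 201) (.leaf 1350)) (.leaf 791)) (.node (.node (.leaf 584) (.leaf 1449)) (.leaf 1157))) (.node (.node (.node (.leaf 399) (.leaf 1028)) (.leaf 1030)) (.node (.leaf 718) (.leaf 1261)))))) (.node (.node (.node (.node (.node (.node (.leaf 60) (.leaf 326)) (.leaf 810)) (.node (.node (.leaf 474) (.leaf 1207)) (.leaf 1083))) (.node (.node (.node (.leaf 279) (.leaf 768)) (.leaf 952)) (.node (.node (.leaf 302) (.leaf 1026)) (.leaf 1165)))) (.node (.node (.node (.node (.leaf 155) (.leaf 941)) (.leaf 890)) (.node (.node (.leaf 563) (.leaf 644)) (.leaf 1146))) (.node (.node (.node (.leaf 47) (.leaf 901)) (.leaf 408)) (.node (.leaf 729) (.leaf 1170))))) (.node (.node (.node (.node (.node (.leaf 116) (.leaf 1003)) (.leaf 855)) (.node (.node (.leaf 287) (.leaf 1455)) (.leaf 203))) (.node (.node (.node (.leaf 327) (.leaf 852)) (.leaf 992)) (.node (.node (.leaf 691) (.leaf 1411)) (.leaf 1232)))) (.node (.node (.node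 (.node (.leaf 227) (.leaf 369)) (.leaf 477)) (.node (.node (.leaf 610) (.leaf 1223)) (.leaf 548))) (.node (.node (.node (.leaf 420) (.leaf 1188)) (.leaf 1041)) (.node (.leaf 771) (.leaf 1272)))))))))))

/-- data -/
def prev0 : Trie (ℕ) := .node (.node (.node (.node (.node (.node (.node (.node (.node (.node (.node (.node (.leaf 7) (.leaf 745)) (.leaf 317)) (.node (.node (.leaf 144) (.leaf 1110)) (.leaf 510))) (.node (.node (.node (.leaf 609) (.leaf 1339)) (.leaf 797)) (.node (.node (.leaf 654) (.leaf 1454)) (.leaf 1094)))) (.node (.node (.node (.node (.leaf 354) (.leaf 901)) (.leaf 361)) (.node (.node (.leaf 187) (.leaf 1180)) (.leaf 667))) (.node (.node (.node (.leaf 107) (.leaf 946)) (.leaf 1002)) (.node (.node (.leaf 272) (.leaf 1494)) (.leaf 1100))))) (.node (.node (.node (.node (.node (.leaf 200) (.leaf 774)) (.leaf 825)) (.node (.node (.leaf 503) (.leaf 1430)) (.leaf 535))) (.node (.node (.node (.leaf 238) (.leaf 1358)) (.leaf 427)) (.node (.node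 (.leaf 252) (.leaf 1419)) (.leaf 645)))) (.node (.node (.node (.node (.leaf 488) (.leaf 918)) (.leaf 491)) (.node (.node (.leaf 207) (.leaf 1268)) (.leaf 584))) (.node (.node (.node (.leaf 125) (.leaf 981)) (.leaf 985)) (.node (.leaf 736) (.leaf 724)))))) (.node (.node (.node (.node (.node (.node (.leaf 8) (.leaf 1039)) (.leaf 1033)) (.node (.node (.leaf 976) (.leaf 1064)) (.leaf 720))) (.node (.node (.node (.leaf 664) (.leaf 889)) (.leaf 416)) (.node (.node (.leaf 240) (.leaf 1381)) (.leaf 630)))) (.node (.node (.node (.node (.leaf 424) (.leaf 821)) (.leaf 372)) (.node (.node (.leaf 571) (.leaf 1166)) (.leaf 570))) (.node (.node (.node (.leaf 117) (.leaf 983)) (.leaf 969)) (.node (.node (.leaf 641) (.leaf 1464)) (.leaf 692))))) (.node (.node (.node (.node (.node (.leaf 281) (.leaf 961)) (.leaf 910)) (.node (.node (.leaf 176) (.leaf 1143)) (.leaf 593))) (.node (.node (.node (.leaf 751) (.leaf 928)) (.leaf 1286)) (.node (.node (.leaf 262) (.leaf 1345))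 (.leaf 1189)))) (.node (.node (.node (.node (.leaf 70) (.leaf 934)) (.leaf 392)) (.node (.node (.leaf 217) (.leaf 1471)) (.leaf 598))) (.node (.node (.node (.leaf 134) (.leaf 1012)) (.leaf 862)) (.node (.leaf 304) (.leaf 722))))))) (.node (.node (.node (.node (.node (.node (.node (.leaf 59) (.leaf 753)) (.leaf 888)) (.node (.node (.leaf 149) (.leaf 1054)) (.leaf 514))) (.node (.node (.node (.leaf 552) (.leaf 882)) (.leaf 409)) (.node (.node (.leaf 1132) (.leaf 1266)) (.leaf 747)))) (.node (.node (.node (.node (.leaf 391) (.leaf 917)) (.leaf 1010)) (.node (.node (.leaf 192) (.leaf 1199)) (.leaf 562))) (.node (.node (.node (.leaf 111) (.leaf 952)) (.leaf 465)) (.node (.node (.leaf 276) (.leaf 1423)) (.leaf 685))))) (.node (.node (.node (.node (.node (.leaf 242) (.leaf 1399)) (.leaf 343)) (.node (.node (.leaf 954) (.leaf 1095)) (.leaf 541))) (.node (.node (.node (.leaf 731) (.leaf 919)) (.leaf 436)) (.node (.node (.leaf 258) (.leaf 1328)) (.leaf 652))))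 (.node (.node (.node (.node (.leaf 515) (.leaf 935)) (.leaf 441)) (.node (.node (.leaf 213) (.leaf 1424)) (.leaf 589))) (.node (.node (.node (.leaf 130) (.leaf 1004)) (.leaf 490)) (.node (.leaf 298) (.leaf 1133)))))) (.node (.node (.node (.node (.node (.node (.leaf 12) (.leaf 1332)) (.leaf 333)) (.node (.node (.leaf 999) (.leaf 1072)) (.leaf 1438))) (.node (.node (.node (.leaf 197) (.leaf 895)) (.leaf 421)) (.node (.node (.leaf 247) (.leaf 1298)) (.leaf 637)))) (.node (.node (.node (.node (.leaf 47) (.leaf 829)) (.leaf 378)) (.node (.node (.leaf 251) (.leaf 1256)) (.leaf 576))) (.node (.node (.node (.leaf 121) (.leaf 967)) (.leaf 478)) (.node (.node (.leaf 1232) (.leaf 1488)) (.leaf 1055))))) (.node (.node (.node (.node (.node (.leaf 316) (.leaf 1288)) (.leaf 356)) (.node (.node (.leaf 182) (.leaf 1219)) (.leaf 551))) (.node (.node (.node (.leaf 103) (.leaf 938)) (.leaf 1323)) (.node (.node (.leaf 1103) (.leaf 1407)) (.leaf 1187)))) (.node (.node (.node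 (.node (.leaf 578) (.leaf 860)) (.leaf 397)) (.node (.node (.leaf 223) (.leaf 1223)) (.leaf 734))) (.node (.node (.node (.leaf 140) (.leaf 1418)) (.leaf 504)) (.node (.leaf 310) (.leaf 1463)))))))) (.node (.node (.node (.node (.node (.node (.node (.node (.leaf 35) (.leaf 748)) (.leaf 320)) (.node (.node (.leaf 146) (.leaf 1050)) (.leaf 512))) (.node (.node (.node (.leaf 626) (.leaf 879)) (.leaf 406)) (.node (.node (.leaf 231) (.leaf 1472)) (.leaf 690)))) (.node (.node (.node (.node (.leaf 377) (.leaf 808)) (.leaf 364)) (.node (.node (.leaf 190) (.leaf 1495)) (.leaf 559))) (.node (.node (.node (.leaf 109) (.leaf 1406)) (.leaf 461)) (.node (.node (.leaf 274) (.leaf 1482)) (.leaf 683))))) (.node (.node (.node (.node (.node (.leaf 220) (.leaf 777)) (.leaf 341)) (.node (.node (.leaf 168) (.leaf 1130)) (.leaf 538))) (.node (.node (.node (.leaf 719) (.leaf 908)) (.leaf 430)) (.node (.node (.leaf 1216) (.leaf 1321)) (.leaf 648)))) (.node (.node (.node (.node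 (.leaf 501) (.leaf 841)) (.leaf 1025)) (.node (.node (.leaf 669) (.leaf 1173)) (.leaf 706))) (.node (.node (.node (.leaf 128) (.leaf 1035)) (.leaf 851)) (.node (.leaf 294) (.leaf 707)))))) (.node (.node (.node (.node (.node (.node (.leaf 10) (.leaf 763)) (.leaf 458)) (.node (.node (.leaf 793) (.leaf 1068)) (.leaf 1244))) (.node (.node (.node (.leaf 299) (.leaf 990)) (.leaf 905)) (.node (.node (.leaf 244) (.leaf 1290)) (.leaf 634)))) (.node (.node (.node (.node (.leaf 444) (.leaf 1350)) (.leaf 1367)) (.node (.node (.leaf 526) (.leaf 1152)) (.leaf 573))) (.node (.node (.node (.leaf 119) (.leaf 963)) (.leaf 906)) (.node (.node (.leaf 738) (.leaf 1470)) (.leaf 694))))) (.node (.node (.node (.node (.node (.leaf 297) (.leaf 1338)) (.leaf 352)) (.node (.node (.leaf 179) (.leaf 1106)) (.leaf 1041))) (.node (.node (.node (.leaf 758) (.leaf 1019)) (.leaf 448)) (.node (.node (.leaf 1049) (.leaf 1359)) (.leaf 1116)))) (.node (.node (.node (.node (.leaf 233) (.leaf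 856)) (.leaf 394)) (.node (.node (.leaf 741) (.leaf 1431)) (.leaf 601))) (.node (.node (.node (.leaf 871) (.leaf 1489)) (.leaf 499)) (.node (.leaf 529) (.leaf 1428))))))) (.node (.node (.node (.node (.node (.node (.node (.leaf 85) (.leaf 1273)) (.leaf 832)) (.node (.node (.leaf 152) (.leaf 1183)) (.leaf 518))) (.node (.node (.node (.leaf 650) (.leaf 884)) (.leaf 412)) (.node (.node (.leaf 717) (.leaf 1348)) (.leaf 627)))) (.node (.node (.node (.node (.leaf 154) (.leaf 1404)) (.leaf 370)) (.node (.node (.leaf 194) (.leaf 1449)) (.leaf 565))) (.node (.node (.node (.leaf 114) (.leaf 956)) (.leaf 1343)) (.node (.node (.leaf 279) (.leaf 1434)) (.leaf 688))))) (.node (.node (.node (.node (.node (.leaf 266) (.leaf 786)) (.leaf 347)) (.node (.node (.leaf 174) (.leaf 1098)) (.leaf 696))) (.node (.node (.node (.leaf 95) (.leaf 922)) (.leaf 1017)) (.node (.node (.leaf 260) (.leaf 1371)) (.leaf 1167)))) (.node (.node (.node (.node (.leaf 534) (.leaf 907)) (.leaf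 853)) (.node (.node (.leaf 215) (.leaf 1194)) (.leaf 592))) (.node (.node (.node (.leaf 132) (.leaf 1481)) (.leaf 493)) (.node (.leaf 301) (.leaf 1429)))))) (.node (.node (.node (.node (.node (.node (.leaf 14) (.leaf 972)) (.leaf 336)) (.node (.node (.leaf 396) (.leaf 1077)) (.leaf 531))) (.node (.node (.node (.leaf 699) (.leaf 899)) (.leaf 1291)) (.node (.node (.leaf 249) (.leaf 1301)) (.leaf 1175)))) (.node (.node (.node (.node (.leaf 479) (.leaf 834)) (.leaf 1324)) (.node (.node (.leaf 205) (.leaf 1162)) (.leaf 581))) (.node (.node (.node (.leaf 123) (.leaf 1302)) (.leaf 1308)) (.node (.leaf 613) (.leaf 1258))))) (.node (.node (.node (.node (.node (.leaf 162) (.leaf 801)) (.leaf 359)) (.node (.node (.leaf 184) (.leaf 1184)) (.leaf 554))) (.node (.node (.node (.leaf 105) (.leaf 942)) (.leaf 881)) (.node (.node (.leaf 270) (.leaf 1387)) (.leaf 1042)))) (.node (.node (.node (.node (.leaf 293) (.leaf 867)) (.leaf 400)) (.node (.node (.leaf 226) (.leaf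 1233)) (.leaf 1211))) (.node (.node (.node (.leaf 142) (.leaf 1028)) (.leaf 606)) (.node (.leaf 790) (.leaf 1265))))))))) (.node (.node (.node (.node (.node (.node (.node (.node (.node (.leaf 22) (.leaf 746)) (.leaf 363)) (.node (.node (.leaf 145) (.leaf 1225)) (.leaf 511))) (.node (.node (.node (.leaf 71) (.leaf 925)) (.leaf 404)) (.node (.node (.leaf 303) (.leaf 1435)) (.leaf 615)))) (.node (.node (.node (.node (.leaf 366) (.leaf 806)) (.leaf 362)) (.node (.node (.leaf 189) (.leaf 1497)) (.leaf 1131))) (.node (.node (.node (.leaf 108) (.leaf 974)) (.leaf 460)) (.node (.node (.leaf 273) (.leaf 1398)) (.leaf 682))))) (.node (.node (.node (.node (.node (.leaf 212) (.leaf 776)) (.leaf 446)) (.node (.node (.leaf 913) (.leaf 1087)) (.leaf 536))) (.node (.node (.node (.leaf 196) (.leaf 1304)) (.leaf 428)) (.node (.node (.leaf 1213) (.leaf 1319)) (.leaf 646)))) (.node (.node (.node (.node (.leaf 494) (.leaf 838)) (.leaf 800)) (.node (.node (.leaf 208) (.leaf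 1171)) (.leaf 585))) (.node (.node (.node (.leaf 126) (.leaf 986)) (.leaf 1003)) (.node (.leaf 1231) (.leaf 705)))))) (.node (.node (.node (.node (.node (.node (.leaf 9) (.leaf 1342)) (.leaf 1030)) (.node (.node (.leaf 498) (.leaf 1085)) (.leaf 522))) (.node (.node (.node (.leaf 674) (.leaf 890)) (.leaf 915)) (.node (.node (.leaf 268) (.leaf 1296)) (.leaf 631)))) (.node (.node (.node (.node (.leaf 435) (.leaf 1281)) (.leaf 373)) (.node (.node (.leaf 198) (.leaf 1206)) (.leaf 572))) (.node (.node (.node (.leaf 118) (.leaf 962)) (.leaf 473)) (.node (.node (.leaf 588) (.leaf 1455)) (.leaf 693))))) (.node (.node (.node (.node (.node (.leaf 287) (.leaf 980)) (.leaf 351)) (.node (.node (.leaf 177) (.leaf 1121)) (.leaf 647))) (.node (.node (.node (.leaf 617) (.leaf 1344)) (.leaf 1382)) (.node (.node (.leaf 1229) (.leaf 1411)) (.leaf 662)))) (.node (.node (.node (.node (.leaf 556) (.leaf 1375)) (.leaf 393)) (.node (.node (.leaf 713) (.leaf 1243)) (.leaf 1222)))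 (.node (.node (.node (.leaf 135) (.leaf 1013)) (.leaf 817)) (.node (.leaf 697) (.leaf 1147))))))) (.node (.node (.node (.node (.node (.node (.node (.leaf 73) (.leaf 754)) (.leaf 1300)) (.node (.node (.leaf 151) (.leaf 1264)) (.leaf 516))) (.node (.node (.node (.leaf 644) (.leaf 883)) (.leaf 410)) (.node (.node (.leaf 560) (.leaf 1269)) (.leaf 622)))) (.node (.node (.node (.node (.leaf 160) (.leaf 886)) (.leaf 369)) (.node (.node (.leaf 193) (.leaf 1421)) (.leaf 564))) (.node (.node (.node (.leaf 136) (.leaf 953)) (.leaf 771)) (.node (.node (.leaf 278) (.leaf 1447)) (.leaf 1062))))) (.node (.node (.node (.node (.node (.leaf 254) (.leaf 785)) (.leaf 1280)) (.node (.node (.leaf 173) (.leaf 1255)) (.leaf 1177))) (.node (.node (.node (.leaf 735) (.leaf 1395)) (.leaf 438)) (.node (.node (.leaf 259) (.leaf 1333)) (.leaf 653)))) (.node (.node (.node (.node (.leaf 523) (.leaf 847)) (.leaf 451)) (.node (.node (.leaf 214) (.leaf 1241)) (.leaf 590))) (.node (.node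 (.node (.leaf 131) (.leaf 1325)) (.leaf 492)) (.node (.leaf 300) (.leaf 1253)))))) (.node (.node (.node (.node (.node (.node (.leaf 13) (.leaf 893)) (.leaf 447)) (.node (.node (.leaf 927) (.leaf 1138)) (.leaf 530))) (.node (.node (.node (.leaf 245) (.leaf 1384)) (.leaf 422)) (.node (.node (.leaf 248) (.leaf 1377)) (.leaf 750)))) (.node (.node (.node (.node (.leaf 467) (.leaf 830)) (.leaf 811)) (.node (.node (.leaf 519) (.leaf 1159)) (.leaf 1104))) (.node (.node (.node (.leaf 122) (.leaf 1351)) (.leaf 480)) (.node (.node (.leaf 1083) (.leaf 1484)) (.leaf 698))))) (.node (.node (.node (.node (.node (.leaf 328) (.leaf 1297)) (.leaf 358)) (.node (.node (.leaf 183) (.leaf 1112)) (.leaf 553))) (.node (.node (.node (.leaf 104) (.leaf 1361)) (.leaf 453)) (.node (.node (.leaf 269) (.leaf 1385)) (.leaf 737)))) (.node (.node (.node (.node (.leaf 586) (.leaf 1340)) (.leaf 398)) (.node (.node (.leaf 616) (.leaf 1474)) (.leaf 1201))) (.node (.node (.node (.leaf 141)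 (.leaf 1311)) (.leaf 505)) (.node (.leaf 311) (.leaf 1272)))))))) (.node (.node (.node (.node (.node (.node (.node (.node (.leaf 49) (.leaf 1078)) (.leaf 1294)) (.node (.node (.leaf 148) (.leaf 1052)) (.leaf 513))) (.node (.node (.node (.leaf 636) (.leaf 1021)) (.leaf 408)) (.node (.node (.leaf 660) (.leaf 1263)) (.leaf 1161)))) (.node (.node (.node (.node (.leaf 46) (.leaf 810)) (.leaf 1031)) (.node (.node (.leaf 191) (.leaf 1433)) (.leaf 561))) (.node (.node (.node (.leaf 110) (.leaf 1027)) (.leaf 462)) (.node (.node (.leaf 275) (.leaf 1445)) (.leaf 684))))) (.node (.node (.node (.node (.node (.leaf 232) (.leaf 1303)) (.leaf 342)) (.node (.node (.leaf 170) (.leaf 1129)) (.leaf 1275))) (.node (.node (.node (.leaf 726) (.leaf 1408)) (.leaf 433)) (.node (.node (.leaf 257) (.leaf 1341)) (.leaf 1242)))) (.node (.node (.node (.node (.leaf 235) (.leaf 843)) (.leaf 767)) (.node (.node (.leaf 211) (.leaf 1181)) (.leaf 1427))) (.node (.node (.node (.leaf 129)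 (.leaf 994)) (.leaf 489)) (.node (.leaf 296) (.leaf 708)))))) (.node (.node (.node (.node (.node (.node (.leaf 11) (.leaf 1394)) (.leaf 332)) (.node (.node (.leaf 158) (.leaf 1070)) (.leaf 687))) (.node (.node (.node (.leaf 681) (.leaf 914)) (.leaf 420)) (.node (.node (.leaf 246) (.leaf 1337)) (.leaf 635)))) (.node (.node (.node (.node (.leaf 450) (.leaf 828)) (.leaf 376)) (.node (.node (.leaf 633) (.leaf 1153)) (.leaf 574))) (.node (.node (.node (.leaf 120) (.leaf 1480)) (.leaf 477)) (.node (.node (.leaf 539) (.leaf 1473)) (.leaf 695))))) (.node (.node (.node (.node (.node (.leaf 306) (.leaf 794)) (.leaf 379)) (.node (.node (.leaf 181) (.leaf 1108)) (.leaf 1204))) (.node (.node (.node (.leaf 102) (.leaf 1320)) (.leaf 449)) (.node (.node (.leaf 1234) (.leaf 1493)) (.leaf 1252)))) (.node (.node (.node (.node (.leaf 227) (.leaf 857)) (.leaf 395)) (.node (.node (.leaf 1155) (.leaf 1217)) (.leaf 604))) (.node (.node (.node (.leaf 138) (.leaf 1020)) (.leaf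 502)) (.node (.leaf 309) (.leaf 1468))))))) (.node (.node (.node (.node (.node (.node (.node (.leaf 97) (.leaf 759)) (.leaf 326)) (.node (.node (.leaf 153) (.leaf 1063)) (.leaf 1082))) (.node (.node (.node (.leaf 656) (.leaf 1405)) (.leaf 894)) (.node (.node (.leaf 239) (.leaf 1283)) (.leaf 628)))) (.node (.node (.node (.node (.leaf 414) (.leaf 1356)) (.leaf 371)) (.node (.node (.leaf 195) (.leaf 1146)) (.leaf 567))) (.node (.node (.node (.leaf 116) (.leaf 1312)) (.leaf 470)) (.node (.node (.leaf 280) (.leaf 1440)) (.leaf 1450))))) (.node (.node (.node (.node (.node (.leaf 185) (.leaf 788)) (.leaf 781)) (.node (.node (.leaf 175) (.leaf 1448)) (.leaf 1227))) (.node (.node (.node (.leaf 744) (.leaf 1392)) (.leaf 784)) (.node (.node (.leaf 261) (.leaf 1374)) (.leaf 1274)))) (.node (.node (.node (.node (.leaf 543) (.leaf 1327)) (.leaf 992)) (.node (.node (.leaf 216) (.leaf 1476)) (.leaf 595))) (.node (.node (.node (.leaf 133) (.leaf 1396)) (.leaf 495)) (.node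 (.leaf 302) (.leaf 1467)))))) (.node (.node (.node (.node (.node (.node (.leaf 188) (.leaf 773)) (.leaf 337)) (.node (.node (.leaf 1008) (.leaf 1257)) (.leaf 533))) (.node (.node (.node (.leaf 532) (.leaf 1318)) (.leaf 1331)) (.node (.node (.leaf 250) (.leaf 1307)) (.leaf 1188)))) (.node (.node (.node (.node (.leaf 387) (.leaf 835)) (.leaf 431)) (.node (.node (.leaf 206) (.leaf 1190)) (.leaf 582))) (.node (.node (.node (.leaf 124) (.leaf 1491)) (.leaf 783)) (.node (.leaf 290) (.leaf 1047))))) (.node (.node (.node (.node (.node (.leaf 345) (.leaf 802)) (.leaf 360)) (.node (.node (.leaf 209) (.leaf 1228)) (.leaf 555))) (.node (.node (.node (.leaf 106) (.leaf 1284)) (.leaf 456)) (.node (.node (.leaf 271) (.leaf 1417)) (.leaf 679)))) (.node (.node (.node (.node (.leaf 603) (.leaf 1001)) (.leaf 401)) (.node (.node (.leaf 1168) (.leaf 1236)) (.leaf 611))) (.node (.node (.node (.leaf 143) (.leaf 1117)) (.leaf 1254)) (.node (.leaf 314) (.leaf 743)))))))))) (.node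 (.node (.node (.node (.node (.node (.node (.node (.node (.node (.leaf 0) (.leaf 1176)) (.leaf 839)) (.node (.node (.leaf 331) (.leaf 1048)) (.leaf 680))) (.node (.node (.node (.leaf 94) (.leaf 875)) (.leaf 403)) (.node (.node (.leaf 229) (.leaf 1271)) (.leaf 614)))) (.node (.node (.node (.node (.leaf 34) (.leaf 805)) (.leaf 1355)) (.node (.node (.leaf 1061) (.leaf 1246)) (.leaf 557))) (.node (.node (.node (.leaf 796) (.leaf 1402)) (.leaf 766)) (.node (.node (.leaf 1074) (.leaf 1412)) (.leaf 1186))))) (.node (.node (.node (.node (.node (.leaf 17) (.leaf 775)) (.leaf 339)) (.node (.node (.leaf 166) (.leaf 1084)) (.leaf 1191))) (.node (.node (.node (.leaf 89) (.leaf 903)) (.leaf 799)) (.node (.node (.leaf 253) (.leaf 1330)) (.leaf 1170)))) (.node (.node (.node (.node (.leaf 53) (.leaf 837)) (.leaf 383)) (.node (.node (.leaf 1127) (.leaf 1498)) (.leaf 716))) (.node (.node (.node (.leaf 313) (.leaf 982)) (.leaf 486)) (.node (.leaf 292) (.leaf 704)))))) (.node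 (.node (.node (.node (.node (.node (.leaf 115) (.leaf 761)) (.leaf 329)) (.node (.node (.leaf 155) (.leaf 1065)) (.leaf 521))) (.node (.node (.node (.leaf 80) (.leaf 1364)) (.leaf 417)) (.node (.node (.leaf 241) (.leaf 1287)) (.leaf 728)))) (.node (.node (.node (.node (.leaf 43) (.leaf 822)) (.leaf 426)) (.node (.node (.leaf 701) (.leaf 1150)) (.leaf 1179))) (.node (.node (.node (.leaf 442) (.leaf 960)) (.leaf 472)) (.node (.node (.leaf 282) (.leaf 1453)) (.leaf 1224))))) (.node (.node (.node (.node (.node (.leaf 26) (.leaf 791)) (.leaf 861)) (.node (.node (.leaf 1032) (.leaf 1102)) (.leaf 547))) (.node (.node (.node (.leaf 99) (.leaf 929)) (.leaf 445)) (.node (.node (.leaf 263) (.leaf 1346)) (.leaf 1164)))) (.node (.node (.node (.node (.leaf 62) (.leaf 852)) (.leaf 804)) (.node (.node (.leaf 218) (.leaf 1203)) (.leaf 599))) (.node (.node (.node (.leaf 921) (.leaf 1305)) (.leaf 497)) (.node (.leaf 305) (.leaf 723))))))) (.node (.node (.node (.node (.node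 (.node (.node (.leaf 4) (.leaf 1073)) (.leaf 323)) (.node (.node (.leaf 150) (.leaf 1057)) (.leaf 668))) (.node (.node (.node (.leaf 76) (.leaf 1292)) (.leaf 998)) (.node (.node (.leaf 236) (.leaf 1499)) (.leaf 621)))) (.node (.node (.node (.node (.leaf 39) (.leaf 812)) (.leaf 368)) (.node (.node (.leaf 757) (.leaf 1137)) (.leaf 563))) (.node (.node (.node (.leaf 819) (.leaf 1354)) (.leaf 466)) (.node (.node (.leaf 597) (.leaf 1458)) (.leaf 686))))) (.node (.node (.node (.node (.node (.leaf 21) (.leaf 782)) (.leaf 344)) (.node (.node (.leaf 172) (.leaf 1096)) (.leaf 1248))) (.node (.node (.node (.leaf 93) (.leaf 991)) (.leaf 437)) (.node (.node (.leaf 568) (.leaf 1329)) (.leaf 673)))) (.node (.node (.node (.node (.leaf 57) (.leaf 845)) (.leaf 388)) (.node (.node (.leaf 1140) (.leaf 1245)) (.leaf 1040))) (.node (.node (.node (.leaf 350) (.leaf 1409)) (.leaf 1036)) (.node (.leaf 1158) (.leaf 1210)))))) (.node (.node (.node (.node (.node (.node (.leaf 159)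 (.leaf 769)) (.leaf 334)) (.node (.node (.leaf 161) (.leaf 1270)) (.leaf 702))) (.node (.node (.node (.leaf 84) (.leaf 896)) (.leaf 1314)) (.node (.node (.leaf 1205) (.leaf 1334)) (.leaf 638)))) (.node (.node (.node (.node (.leaf 48) (.leaf 933)) (.leaf 945)) (.node (.node (.leaf 203) (.leaf 1174)) (.leaf 577))) (.node (.node (.node (.leaf 866) (.leaf 1006)) (.leaf 1278)) (.node (.node (.leaf 286) (.leaf 1483)) (.leaf 730))))) (.node (.node (.node (.node (.node (.leaf 30) (.leaf 798)) (.leaf 1316)) (.node (.node (.leaf 566) (.leaf 1230)) (.leaf 602))) (.node (.node (.node (.leaf 112) (.leaf 939)) (.leaf 452)) (.node (.node (.leaf 600) (.leaf 1397)) (.leaf 675)))) (.node (.node (.node (.node (.leaf 66) (.leaf 1038)) (.leaf 823)) (.node (.node (.leaf 224) (.leaf 1425)) (.leaf 607))) (.node (.node (.node (.leaf 936) (.leaf 1024)) (.leaf 1059)) (.node (.leaf 1029) (.leaf 1239)))))))) (.node (.node (.node (.node (.node (.node (.node (.node (.leaf 2) (.leaf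 1043)) (.leaf 321)) (.node (.node (.leaf 955) (.leaf 1099)) (.leaf 1080))) (.node (.node (.node (.leaf 74) (.leaf 923)) (.leaf 989)) (.node (.node (.leaf 1088) (.leaf 1262)) (.leaf 619)))) (.node (.node (.node (.node (.leaf 37) (.leaf 809)) (.leaf 365)) (.node (.node (.leaf 277) (.leaf 1134)) (.leaf 1441))) (.node (.node (.node (.leaf 402) (.leaf 950)) (.leaf 891)) (.node (.node (.leaf 1250) (.leaf 1420)) (.leaf 1111))))) (.node (.node (.node (.node (.node (.leaf 19) (.leaf 779)) (.leaf 858)) (.node (.node (.leaf 375) (.leaf 1092)) (.leaf 640))) (.node (.node (.node (.leaf 91) (.leaf 997)) (.leaf 971)) (.node (.node (.leaf 256) (.leaf 1322)) (.leaf 740)))) (.node (.node (.node (.node (.leaf 55) (.leaf 865)) (.leaf 385)) (.node (.node (.leaf 210) (.leaf 1178)) (.leaf 587))) (.node (.node (.node (.leaf 476) (.leaf 993)) (.leaf 876)) (.node (.leaf 295) (.leaf 1215)))))) (.node (.node (.node (.node (.node (.node (.leaf 139) (.leaf 764)) (.leaf 1005)) (.node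 (.node (.leaf 157) (.leaf 1139)) (.leaf 527))) (.node (.node (.node (.leaf 82) (.leaf 892)) (.leaf 419)) (.node (.node (.leaf 1154) (.leaf 1368)) (.leaf 1444)))) (.node (.node (.node (.node (.leaf 45) (.leaf 887)) (.leaf 439)) (.node (.node (.leaf 201) (.leaf 1237)) (.leaf 1185))) (.node (.node (.node (.leaf 854) (.leaf 964)) (.leaf 475)) (.node (.node (.leaf 284) (.leaf 1460)) (.leaf 1093))))) (.node (.node (.node (.node (.node (.leaf 28) (.leaf 1015)) (.leaf 353)) (.node (.node (.leaf 180) (.leaf 1218)) (.leaf 549))) (.node (.node (.node (.leaf 760) (.leaf 932)) (.leaf 1022)) (.node (.node (.leaf 265) (.leaf 1363)) (.leaf 1069)))) (.node (.node (.node (.node (.leaf 64) (.leaf 873)) (.leaf 765)) (.node (.node (.leaf 221) (.leaf 1446)) (.leaf 689))) (.node (.node (.node (.leaf 137) (.leaf 1018)) (.leaf 500)) (.node (.leaf 308) (.leaf 1277))))))) (.node (.node (.node (.node (.node (.node (.node (.leaf 6) (.leaf 1249)) (.leaf 869)) (.node (.node (.leaf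 318) (.leaf 1192)) (.leaf 1118))) (.node (.node (.node (.leaf 78) (.leaf 885)) (.leaf 413)) (.node (.node (.leaf 658) (.leaf 1282)) (.leaf 1432)))) (.node (.node (.node (.node (.leaf 41) (.leaf 1349)) (.leaf 483)) (.node (.node (.leaf 1086) (.leaf 1145)) (.leaf 1182))) (.node (.node (.node (.leaf 833) (.leaf 958)) (.leaf 469)) (.node (.node (.leaf 649) (.leaf 1466)) (.leaf 1046))))) (.node (.node (.node (.node (.node (.leaf 24) (.leaf 1336)) (.leaf 348)) (.node (.node (.leaf 1026) (.leaf 1251)) (.leaf 545))) (.node (.node (.node (.leaf 96) (.leaf 1487)) (.leaf 440)) (.node (.node (.leaf 1226) (.leaf 1376)) (.leaf 657)))) (.node (.node (.node (.node (.leaf 60) (.leaf 849)) (.leaf 390)) (.node (.node (.leaf 1144) (.leaf 1195)) (.leaf 677))) (.node (.node (.node (.leaf 912) (.leaf 1279)) (.leaf 1393)) (.node (.leaf 1276) (.leaf 1081)))))) (.node (.node (.node (.node (.node (.node (.leaf 15) (.leaf 772)) (.leaf 1317)) (.node (.node (.leaf 164) (.leaf 1079))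 (.leaf 1089))) (.node (.node (.node (.leaf 87) (.leaf 900)) (.leaf 425)) (.node (.node (.leaf 1208) (.leaf 1306)) (.leaf 643)))) (.node (.node (.node (.node (.leaf 51) (.leaf 1011)) (.leaf 381)) (.node (.node (.leaf 1119) (.leaf 1163)) (.leaf 1122))) (.node (.node (.node (.leaf 407) (.leaf 1485)) (.leaf 482)) (.node (.leaf 289) (.leaf 1200))))) (.node (.node (.node (.node (.node (.leaf 32) (.leaf 909)) (.leaf 1353)) (.node (.node (.leaf 1053) (.leaf 1465)) (.leaf 1076))) (.node (.node (.node (.leaf 346) (.leaf 943)) (.leaf 455)) (.node (.node (.leaf 1165) (.leaf 1388)) (.leaf 678)))) (.node (.node (.node (.node (.leaf 68) (.leaf 970)) (.leaf 924)) (.node (.node (.leaf 714) (.leaf 1235)) (.leaf 1214))) (.node (.node (.node (.leaf 941) (.leaf 1416)) (.leaf 507)) (.node (.leaf 897) (.leaf 742))))))))) (.node (.node (.node (.node (.node (.node (.node (.node (.node (.leaf 1) (.leaf 1160)) (.leaf 319)) (.node (.node (.leaf 816) (.leaf 1123)) (.leaf 605)))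 (.node (.node (.node (.leaf 72) (.leaf 878)) (.leaf 405)) (.node (.node (.leaf 230) (.leaf 1260)) (.leaf 1202)))) (.node (.node (.node (.node (.leaf 36) (.leaf 877)) (.leaf 872)) (.node (.node (.leaf 1066) (.leaf 1128)) (.leaf 558))) (.node (.node (.node (.leaf 803) (.leaf 949)) (.leaf 965)) (.node (.node (.leaf 583) (.leaf 1486)) (.leaf 1220))))) (.node (.node (.node (.node (.node (.leaf 18) (.leaf 820)) (.leaf 1034)) (.node (.node (.leaf 167) (.leaf 1090)) (.leaf 537))) (.node (.node (.node (.leaf 90) (.leaf 977)) (.leaf 429)) (.node (.node (.leaf 255) (.leaf 1373)) (.leaf 749)))) (.node (.node (.node (.node (.leaf 54) (.leaf 1479)) (.leaf 384)) (.node (.node (.leaf 623) (.leaf 1172)) (.leaf 1261))) (.node (.node (.node (.leaf 357) (.leaf 988)) (.leaf 487)) (.node (.leaf 579) (.leaf 1157)))))) (.node (.node (.node (.node (.node (.node (.leaf 127) (.leaf 762)) (.leaf 330)) (.node (.node (.leaf 156) (.leaf 1067)) (.leaf 525))) (.node (.node (.node (.leaf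 81) (.leaf 940)) (.leaf 418)) (.node (.node (.leaf 243) (.leaf 1299)) (.leaf 632)))) (.node (.node (.node (.node (.leaf 44) (.leaf 824)) (.leaf 374)) (.node (.node (.leaf 199) (.leaf 1151)) (.leaf 1113))) (.node (.node (.node (.leaf 848) (.leaf 1360)) (.leaf 474)) (.node (.node (.leaf 283) (.leaf 1456)) (.leaf 755))))) (.node (.node (.node (.node (.node (.leaf 27) (.leaf 792)) (.leaf 1295)) (.node (.node (.leaf 1007) (.leaf 1126)) (.leaf 548))) (.node (.node (.node (.leaf 100) (.leaf 931)) (.leaf 840)) (.node (.node (.leaf 264) (.leaf 1400)) (.leaf 665)))) (.node (.node (.node (.node (.leaf 63) (.leaf 855)) (.leaf 926)) (.node (.node (.leaf 219) (.leaf 1469)) (.leaf 727))) (.node (.node (.node (.leaf 464) (.leaf 1014)) (.leaf 975)) (.node (.leaf 307) (.leaf 729))))))) (.node (.node (.node (.node (.node (.node (.node (.leaf 5) (.leaf 1221)) (.leaf 324)) (.node (.node (.leaf 457) (.leaf 1060)) (.leaf 517))) (.node (.node (.node (.leaf 77) (.leaf 1403))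 (.leaf 1347)) (.node (.node (.leaf 237) (.leaf 1475)) (.leaf 624)))) (.node (.node (.node (.node (.leaf 40) (.leaf 814)) (.leaf 787)) (.node (.node (.leaf 666) (.leaf 1142)) (.leaf 670))) (.node (.node (.node (.leaf 113) (.leaf 1285)) (.leaf 468)) (.node (.node (.leaf 661) (.leaf 1457)) (.leaf 1091))))) (.node (.node (.node (.node (.node (.leaf 23) (.leaf 870)) (.leaf 863)) (.node (.node (.leaf 432) (.leaf 1097)) (.leaf 544))) (.node (.node (.node (.leaf 671) (.leaf 1490)) (.leaf 1365)) (.node (.node (.leaf 655) (.leaf 1335)) (.leaf 739)))) (.node (.node (.node (.node (.leaf 58) (.leaf 948)) (.leaf 389)) (.node (.node (.leaf 1058) (.leaf 1267)) (.leaf 591))) (.node (.node (.node (.leaf 312) (.leaf 1401)) (.leaf 818)) (.node (.leaf 709) (.leaf 715)))))) (.node (.node (.node (.node (.node (.node (.leaf 169) (.leaf 770)) (.leaf 335)) (.node (.node (.leaf 163) (.leaf 1075)) (.leaf 1439))) (.node (.node (.node (.leaf 86) (.leaf 1000)) (.leaf 423)) (.node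 (.node (.leaf 1107) (.leaf 1414)) (.leaf 639)))) (.node (.node (.node (.node (.leaf 50) (.leaf 831)) (.leaf 380)) (.node (.node (.leaf 204) (.leaf 1240)) (.leaf 580))) (.node (.node (.node (.leaf 874) (.leaf 973)) (.leaf 481)) (.node (.node (.leaf 288) (.leaf 1492)) (.leaf 700))))) (.node (.node (.node (.node (.node (.leaf 31) (.leaf 1009)) (.leaf 807)) (.node (.node (.leaf 1051) (.leaf 1169)) (.leaf 610))) (.node (.node (.node (.leaf 778) (.leaf 1380)) (.leaf 454)) (.node (.node (.leaf 508) (.leaf 1386)) (.leaf 676)))) (.node (.node (.node (.node (.leaf 67) (.leaf 864)) (.leaf 399)) (.node (.node (.leaf 225) (.leaf 1443)) (.leaf 608))) (.node (.node (.node (.leaf 826) (.leaf 1315)) (.leaf 506)) (.node (.leaf 911) (.leaf 1105)))))))) (.node (.node (.node (.node (.node (.node (.node (.node (.leaf 3) (.leaf 752)) (.leaf 322)) (.node (.node (.leaf 957) (.leaf 1259)) (.leaf 575))) (.node (.node (.node (.leaf 75) (.leaf 1016)) (.leaf 904)) (.node (.node (.leaf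 234) (.leaf 1461)) (.leaf 620)))) (.node (.node (.node (.node (.leaf 38) (.leaf 1362)) (.leaf 367)) (.node (.node (.leaf 1071) (.leaf 1136)) (.leaf 1056))) (.node (.node (.node (.leaf 813) (.leaf 951)) (.leaf 463)) (.node (.node (.leaf 542) (.leaf 1422)) (.leaf 1452))))) (.node (.node (.node (.node (.node (.leaf 20) (.leaf 780)) (.leaf 411)) (.node (.node (.leaf 171) (.leaf 1197)) (.leaf 540))) (.node (.node (.node (.leaf 92) (.leaf 1313)) (.leaf 434)) (.node (.node (.leaf 524) (.leaf 1390)) (.leaf 651)))) (.node (.node (.node (.node (.leaf 56) (.leaf 844)) (.leaf 386)) (.node (.node (.leaf 1135) (.leaf 1238)) (.leaf 642))) (.node (.node (.node (.leaf 178) (.leaf 1478)) (.leaf 978)) (.node (.leaf 1209) (.leaf 710)))))) (.node (.node (.node (.node (.node (.node (.leaf 147) (.leaf 1379)) (.leaf 827)) (.node (.node (.leaf 868) (.leaf 1149)) (.leaf 528))) (.node (.node (.node (.leaf 83) (.leaf 920)) (.leaf 1293)) (.node (.node (.leaf 594) (.leaf 1413)) (.leaf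 663)))) (.node (.node (.node (.node (.leaf 325) (.leaf 996)) (.leaf 987)) (.node (.node (.leaf 202) (.leaf 1156)) (.leaf 1436))) (.node (.node (.node (.leaf 859) (.leaf 966)) (.leaf 1372)) (.node (.node (.leaf 285) (.leaf 1477)) (.leaf 721))))) (.node (.node (.node (.node (.node (.leaf 29) (.leaf 795)) (.leaf 355)) (.node (.node (.leaf 1044) (.leaf 1109)) (.leaf 550))) (.node (.node (.node (.leaf 768) (.leaf 937)) (.leaf 1037)) (.node (.node (.leaf 267) (.leaf 1370)) (.leaf 1459)))) (.node (.node (.node (.node (.leaf 65) (.leaf 1326)) (.leaf 1369)) (.node (.node (.leaf 222) (.leaf 1426)) (.leaf 1451))) (.node (.node (.node (.leaf 930) (.leaf 1310)) (.leaf 1357)) (.node (.leaf 725) (.leaf 732))))))) (.node (.node (.node (.node (.node (.node (.node (.leaf 101) (.leaf 1141)) (.leaf 327)) (.node (.node (.leaf 815) (.leaf 1124)) (.leaf 520))) (.node (.node (.node (.leaf 79) (.leaf 1378)) (.leaf 415)) (.node (.node (.leaf 1120) (.leaf 1383)) (.leaf 629))))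 (.node (.node (.node (.node (.leaf 42) (.leaf 968)) (.leaf 1366)) (.node (.node (.leaf 718) (.leaf 1462)) (.leaf 569))) (.node (.node (.node (.leaf 842) (.leaf 959)) (.leaf 471)) (.node (.node (.leaf 1115) (.leaf 1442)) (.leaf 1247))))) (.node (.node (.node (.node (.node (.leaf 25) (.leaf 789)) (.leaf 349)) (.node (.node (.leaf 898) (.leaf 1101)) (.leaf 546))) (.node (.node (.node (.leaf 98) (.leaf 984)) (.leaf 443)) (.node (.node (.leaf 1045) (.leaf 1389)) (.leaf 659)))) (.node (.node (.node (.node (.leaf 61) (.leaf 850)) (.leaf 846)) (.node (.node (.leaf 618) (.leaf 1198)) (.leaf 596))) (.node (.node (.node (.leaf 916) (.leaf 1410)) (.leaf 496)) (.node (.leaf 1196) (.leaf 756)))))) (.node (.node (.node (.node (.node (.node (.leaf 16) (.leaf 1352)) (.leaf 338)) (.node (.node (.leaf 165) (.leaf 1212)) (.leaf 1207))) (.node (.node (.node (.leaf 88) (.leaf 902)) (.leaf 485)) (.node (.node (.leaf 672) (.leaf 1309)) (.leaf 712)))) (.node (.node (.node (.node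 (.leaf 52) (.leaf 836)) (.leaf 382)) (.node (.node (.leaf 691) (.leaf 1437)) (.leaf 1114))) (.node (.node (.node (.leaf 880) (.leaf 979)) (.leaf 484)) (.node (.leaf 291) (.leaf 703))))) (.node (.node (.node (.node (.node (.leaf 33) (.leaf 947)) (.leaf 1289)) (.node (.node (.leaf 186) (.leaf 1125)) (.leaf 711))) (.node (.node (.node (.leaf 340) (.leaf 944)) (.leaf 1023)) (.node (.node (.leaf 625) (.leaf 1391)) (.leaf 733)))) (.node (.node (.node (.node (.leaf 69) (.leaf 1415)) (.leaf 995)) (.node (.node (.leaf 228) (.leaf 1496)) (.leaf 612))) (.node (.node (.node (.leaf 459) (.leaf 1148)) (.leaf 509)) (.node (.leaf 315) (.leaf 1193))))))))))) (.node (.node (.node (.node (.node (.node (.node (.node (.node (.node (.node (.leaf 14) (.leaf 750)) (.leaf 326)) (.node (.node (.leaf 900) (.leaf 1044)) (.leaf 1183))) (.node (.node (.node (.leaf 69) (.leaf 871)) (.leaf 402)) (.node (.node (.leaf 228) (.leaf 1253)) (.leaf 613)))) (.node (.node (.node (.node (.leaf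 33) (.leaf 803)) (.leaf 1333)) (.node (.node (.leaf 593) (.leaf 1125)) (.leaf 556))) (.node (.node (.node (.leaf 795) (.leaf 1297)) (.leaf 457)) (.node (.node (.leaf 657) (.leaf 1394)) (.leaf 680))))) (.node (.node (.node (.node (.node (.leaf 16) (.leaf 794)) (.leaf 338)) (.node (.node (.leaf 165) (.leaf 1083)) (.leaf 542))) (.node (.node (.node (.leaf 88) (.leaf 902)) (.leaf 914)) (.node (.node (.leaf 563) (.leaf 1314)) (.leaf 678)))) (.node (.node (.node (.node (.leaf 52) (.leaf 836)) (.leaf 382)) (.node (.node (.leaf 1050) (.leaf 1166)) (.leaf 1091))) (.node (.node (.node (.leaf 167) (.leaf 1379)) (.leaf 485)) (.node (.leaf 291) (.leaf 703)))))) (.node (.node (.node (.node (.node (.node (.leaf 114) (.leaf 760)) (.leaf 328)) (.node (.node (.leaf 154) (.leaf 1440)) (.leaf 520))) (.node (.node (.node (.leaf 79) (.leaf 1034)) (.leaf 866)) (.node (.node (.leaf 1067) (.leaf 1286)) (.leaf 1267)))) (.node (.node (.node (.node (.leaf 42) (.leaf 1381)) (.leaf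 465)) (.node (.node (.leaf 196) (.leaf 1149)) (.leaf 1273))) (.node (.node (.node (.leaf 170) (.leaf 959)) (.leaf 471)) (.node (.node (.leaf 281) (.leaf 1444)) (.leaf 1168))))) (.node (.node (.node (.node (.node (.leaf 25) (.leaf 790)) (.leaf 349)) (.node (.node (.leaf 988) (.leaf 1101)) (.leaf 546))) (.node (.node (.node (.leaf 98) (.leaf 1009)) (.leaf 444)) (.node (.node (.leaf 1054) (.leaf 1408)) (.leaf 660)))) (.node (.node (.node (.node (.leaf 61) (.leaf 850)) (.leaf 430)) (.node (.node (.leaf 1109) (.leaf 1202)) (.leaf 1437))) (.node (.node (.node (.leaf 812) (.leaf 1033)) (.leaf 496)) (.node (.leaf 1241) (.leaf 1245))))))) (.node (.node (.node (.node (.node (.node (.node (.leaf 3) (.leaf 1472)) (.leaf 322)) (.node (.node (.leaf 908) (.leaf 1450)) (.leaf 562))) (.node (.node (.node (.leaf 75) (.leaf 922)) (.leaf 1368)) (.node (.node (.leaf 235) (.leaf 1475)) (.leaf 620)))) (.node (.node (.node (.node (.leaf 38) (.leaf 811)) (.leaf 367)) (.node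 (.node (.leaf 1076) (.leaf 1136)) (.leaf 1069))) (.node (.node (.node (.leaf 818) (.leaf 986)) (.leaf 967)) (.node (.node (.leaf 1252) (.leaf 1427)) (.leaf 752))))) (.node (.node (.node (.node (.node (.leaf 20) (.leaf 780)) (.leaf 368)) (.node (.node (.leaf 171) (.leaf 1128)) (.leaf 1059))) (.node (.node (.node (.leaf 92) (.leaf 925)) (.leaf 442)) (.node (.node (.leaf 1220) (.leaf 1403)) (.leaf 1140)))) (.node (.node (.node (.node (.leaf 56) (.leaf 844)) (.leaf 387)) (.node (.node (.leaf 674) (.leaf 1188)) (.leaf 1121))) (.node (.node (.node (.leaf 904) (.leaf 999)) (.leaf 938)) (.node (.leaf 1242) (.leaf 710)))))) (.node (.node (.node (.node (.node (.node (.leaf 158) (.leaf 768)) (.leaf 960)) (.node (.node (.leaf 160) (.leaf 1092)) (.leaf 528))) (.node (.node (.node (.leaf 83) (.leaf 1303)) (.leaf 934)) (.node (.node (.leaf 735) (.leaf 1302)) (.leaf 1200)))) (.node (.node (.node (.node (.leaf 463) (.leaf 1483)) (.leaf 907)) (.node (.node (.leaf 202)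 (.leaf 1156)) (.leaf 1446))) (.node (.node (.node (.leaf 865) (.leaf 985)) (.leaf 918)) (.node (.node (.leaf 285) (.leaf 1479)) (.leaf 696))))) (.node (.node (.node (.node (.node (.leaf 29) (.leaf 796)) (.leaf 437)) (.node (.node (.leaf 1047) (.leaf 1110)) (.leaf 1187))) (.node (.node (.node (.leaf 775) (.leaf 1402)) (.leaf 451)) (.node (.node (.leaf 267) (.leaf 1372)) (.leaf 671)))) (.node (.node (.node (.node (.leaf 65) (.leaf 1294)) (.leaf 404)) (.node (.node (.leaf 1041) (.leaf 1469)) (.leaf 606))) (.node (.node (.node (.leaf 911) (.leaf 1023)) (.leaf 1256)) (.node (.leaf 1278) (.leaf 733)))))))) (.node (.node (.node (.node (.node (.node (.node (.node (.leaf 1) (.leaf 1263)) (.leaf 470)) (.node (.node (.leaf 806) (.leaf 1181)) (.leaf 1105))) (.node (.node (.node (.leaf 73) (.leaf 933)) (.leaf 1375)) (.node (.node (.leaf 289) (.leaf 1261)) (.leaf 616)))) (.node (.node (.node (.node (.leaf 36) (.leaf 830)) (.leaf 784)) (.node (.node (.leaf 243) (.leaf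 1129)) (.leaf 1453))) (.node (.node (.node (.leaf 809) (.leaf 949)) (.leaf 1387)) (.node (.node (.leaf 662) (.leaf 1418)) (.leaf 732))))) (.node (.node (.node (.node (.node (.leaf 18) (.leaf 789)) (.leaf 895)) (.node (.node (.leaf 1017) (.leaf 1090)) (.leaf 1222))) (.node (.node (.node (.leaf 90) (.leaf 1279)) (.leaf 1322)) (.node (.node (.leaf 255) (.leaf 1380)) (.leaf 1435)))) (.node (.node (.node (.node (.leaf 54) (.leaf 969)) (.leaf 384)) (.node (.node (.leaf 209) (.leaf 1269)) (.leaf 586))) (.node (.node (.node (.leaf 137) (.leaf 992)) (.leaf 487)) (.node (.leaf 1174) (.leaf 1095)))))) (.node (.node (.node (.node (.node (.node (.leaf 138) (.leaf 1348)) (.leaf 330)) (.node (.node (.leaf 156) (.leaf 1206)) (.leaf 525))) (.node (.node (.node (.leaf 81) (.leaf 891)) (.leaf 418)) (.node (.node (.leaf 614) (.leaf 1332)) (.leaf 713)))) (.node (.node (.node (.node (.leaf 44) (.leaf 824)) (.leaf 374)) (.node (.node (.leaf 200) (.leaf 1176)) (.leaf 1215)))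 (.node (.node (.node (.leaf 853) (.leaf 1484)) (.leaf 474)) (.node (.node (.leaf 283) (.leaf 1458)) (.leaf 748))))) (.node (.node (.node (.node (.node (.leaf 27) (.leaf 792)) (.leaf 480)) (.node (.node (.leaf 399) (.leaf 1155)) (.leaf 548))) (.node (.node (.node (.leaf 100) (.leaf 931)) (.leaf 857)) (.node (.node (.leaf 264) (.leaf 1386)) (.leaf 665)))) (.node (.node (.node (.node (.leaf 63) (.leaf 1030)) (.leaf 1319)) (.node (.node (.leaf 220) (.leaf 1214)) (.leaf 1233))) (.node (.node (.node (.leaf 136) (.leaf 1015)) (.leaf 764)) (.node (.leaf 307) (.leaf 729))))))) (.node (.node (.node (.node (.node (.node (.node (.leaf 5) (.leaf 757)) (.leaf 324)) (.node (.node (.leaf 970) (.leaf 1060)) (.leaf 604))) (.node (.node (.node (.leaf 77) (.leaf 937)) (.leaf 1374)) (.node (.node (.leaf 237) (.leaf 1281)) (.leaf 635)))) (.node (.node (.node (.node (.leaf 40) (.leaf 815)) (.leaf 1365)) (.node (.node (.leaf 1085) (.leaf 1144)) (.leaf 1443))) (.node (.node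 (.node (.leaf 431) (.leaf 1284)) (.leaf 468)) (.node (.node (.leaf 298) (.leaf 1465)) (.leaf 741))))) (.node (.node (.node (.node (.node (.leaf 23) (.leaf 1478)) (.leaf 491)) (.node (.node (.leaf 832) (.leaf 1132)) (.leaf 544))) (.node (.node (.node (.leaf 633) (.leaf 998)) (.leaf 439)) (.node (.node (.leaf 558) (.leaf 1336)) (.leaf 654)))) (.node (.node (.node (.node (.leaf 59) (.leaf 848)) (.leaf 389)) (.node (.node (.leaf 505) (.leaf 1467)) (.leaf 1423))) (.node (.node (.node (.leaf 161) (.leaf 1006)) (.leaf 777)) (.node (.leaf 1230) (.leaf 716)))))) (.node (.node (.node (.node (.node (.node (.leaf 180) (.leaf 770)) (.leaf 343)) (.node (.node (.leaf 163) (.leaf 1158)) (.leaf 1243))) (.node (.node (.node (.leaf 86) (.leaf 987)) (.leaf 424)) (.node (.node (.leaf 1178) (.leaf 1338)) (.leaf 642)))) (.node (.node (.node (.node (.leaf 50) (.leaf 841)) (.leaf 380)) (.node (.node (.leaf 234) (.leaf 1249)) (.leaf 1171))) (.node (.node (.node (.leaf 320) (.leaf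 973)) (.leaf 481)) (.node (.leaf 288) (.leaf 700))))) (.node (.node (.node (.node (.node (.leaf 31) (.leaf 971)) (.leaf 464)) (.node (.node (.leaf 740) (.leaf 1117)) (.leaf 570))) (.node (.node (.node (.leaf 781) (.leaf 1352)) (.leaf 454)) (.node (.node (.leaf 1244) (.leaf 1406)) (.leaf 677)))) (.node (.node (.node (.node (.leaf 67) (.leaf 872)) (.leaf 1022)) (.node (.node (.leaf 1064) (.leaf 1442)) (.leaf 609))) (.node (.node (.node (.leaf 333) (.leaf 1417)) (.leaf 506)) (.node (.leaf 312) (.leaf 739))))))))) (.node (.node (.node (.node (.node (.node (.node (.node (.node (.leaf 0) (.leaf 1439)) (.leaf 318)) (.node (.node (.leaf 951) (.leaf 1048)) (.leaf 631))) (.node (.node (.node (.leaf 622) (.leaf 875)) (.leaf 763)) (.node (.node (.leaf 229) (.leaf 1259)) (.leaf 1232)))) (.node (.node (.node (.node (.leaf 35) (.leaf 1285)) (.leaf 1315)) (.node (.node (.leaf 580) (.leaf 1127)) (.leaf 557))) (.node (.node (.node (.leaf 403) (.leaf 948)) (.leaf 1409))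 (.node (.node (.leaf 667) (.leaf 1489)) (.leaf 1056))))) (.node (.node (.node (.node (.node (.leaf 17) (.leaf 835)) (.leaf 339)) (.node (.node (.leaf 166) (.leaf 1089)) (.leaf 1258))) (.node (.node (.node (.leaf 89) (.leaf 905)) (.leaf 855)) (.node (.node (.leaf 254) (.leaf 1388)) (.leaf 1142)))) (.node (.node (.node (.node (.leaf 53) (.leaf 1486)) (.leaf 383)) (.node (.node (.leaf 250) (.leaf 1452)) (.leaf 1138))) (.node (.node (.node (.leaf 888) (.leaf 1306)) (.leaf 486)) (.node (.leaf 292) (.leaf 723)))))) (.node (.node (.node (.node (.node (.node (.leaf 126) (.leaf 761)) (.leaf 329)) (.node (.node (.leaf 155) (.leaf 1066)) (.leaf 1123))) (.node (.node (.node (.leaf 80) (.leaf 991)) (.leaf 417)) (.node (.node (.leaf 242) (.leaf 1287)) (.leaf 1217)))) (.node (.node (.node (.node (.leaf 43) (.leaf 823)) (.leaf 452)) (.node (.node (.leaf 240) (.leaf 1150)) (.leaf 1212))) (.node (.node (.node (.leaf 822) (.leaf 1317)) (.leaf 963)) (.node (.node (.leaf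 282) (.leaf 1463)) (.leaf 1428))))) (.node (.node (.node (.node (.node (.leaf 26) (.leaf 791)) (.leaf 808)) (.node (.node (.leaf 953) (.leaf 1102)) (.leaf 547))) (.node (.node (.node (.leaf 99) (.leaf 930)) (.leaf 446)) (.node (.node (.leaf 263) (.leaf 1347)) (.leaf 685)))) (.node (.node (.node (.node (.leaf 62) (.leaf 854)) (.leaf 975)) (.node (.node (.leaf 218) (.leaf 1205)) (.leaf 599))) (.node (.node (.node (.leaf 177) (.leaf 1413)) (.leaf 497)) (.node (.leaf 306) (.leaf 725))))))) (.node (.node (.node (.node (.node (.node (.node (.leaf 4) (.leaf 1209)) (.leaf 323)) (.node (.node (.leaf 965) (.leaf 1057)) (.leaf 647))) (.node (.node (.node (.leaf 76) (.leaf 946)) (.leaf 501)) (.node (.node (.leaf 236) (.leaf 1498)) (.leaf 1108)))) (.node (.node (.node (.node (.leaf 39) (.leaf 813)) (.leaf 1016)) (.node (.node (.leaf 574) (.leaf 1137)) (.leaf 1201))) (.node (.node (.node (.leaf 112) (.leaf 1353)) (.leaf 467)) (.node (.node (.leaf 722) (.leaf 1431))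 (.leaf 686))))) (.node (.node (.node (.node (.node (.leaf 22) (.leaf 1349)) (.leaf 345)) (.node (.node (.leaf 997) (.leaf 1096)) (.leaf 543))) (.node (.node (.node (.leaf 93) (.leaf 920)) (.leaf 458)) (.node (.node (.leaf 1225) (.leaf 1480)) (.leaf 1272)))) (.node (.node (.node (.node (.leaf 57) (.leaf 903)) (.leaf 388)) (.node (.node (.leaf 655) (.leaf 1191)) (.leaf 1077))) (.node (.node (.node (.leaf 428) (.leaf 1003)) (.leaf 1346)) (.node (.leaf 1274) (.leaf 714)))))) (.node (.node (.node (.node (.node (.node (.leaf 168) (.leaf 769)) (.leaf 334)) (.node (.node (.leaf 162) (.leaf 1073)) (.leaf 1235))) (.node (.node (.node (.leaf 85) (.leaf 896)) (.leaf 1029)) (.node (.node (.leaf 579) (.leaf 1299)) (.leaf 638)))) (.node (.node (.node (.node (.leaf 49) (.leaf 1013)) (.leaf 379)) (.node (.node (.leaf 203) (.leaf 1266)) (.leaf 578))) (.node (.node (.node (.leaf 873) (.leaf 972)) (.leaf 1021)) (.node (.node (.leaf 287) (.leaf 1493)) (.leaf 1131))))) (.node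 (.node (.node (.node (.node (.leaf 30) (.leaf 798)) (.leaf 1337)) (.node (.node (.leaf 540) (.leaf 1499)) (.leaf 628))) (.node (.node (.node (.leaf 150) (.leaf 939)) (.leaf 893)) (.node (.node (.leaf 536) (.leaf 1400)) (.leaf 675)))) (.node (.node (.node (.node (.leaf 66) (.leaf 863)) (.leaf 845)) (.node (.node (.leaf 224) (.leaf 1226)) (.leaf 607))) (.node (.node (.node (.leaf 499) (.leaf 1025)) (.leaf 704)) (.node (.leaf 862) (.leaf 736)))))))) (.node (.node (.node (.node (.node (.node (.node (.node (.leaf 2) (.leaf 751)) (.leaf 321)) (.node (.node (.leaf 157) (.leaf 1118)) (.leaf 1065))) (.node (.node (.node (.leaf 74) (.leaf 880)) (.leaf 1038)) (.node (.node (.leaf 233) (.leaf 1495)) (.leaf 619)))) (.node (.node (.node (.node (.leaf 37) (.leaf 826)) (.leaf 366)) (.node (.node (.leaf 1055) (.leaf 1135)) (.leaf 568))) (.node (.node (.node (.leaf 373) (.leaf 950)) (.leaf 1345)) (.node (.node (.leaf 304) (.leaf 1421)) (.leaf 1228))))) (.node (.node (.node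 (.node (.node (.leaf 19) (.leaf 779)) (.leaf 838)) (.node (.node (.leaf 179) (.leaf 1093)) (.leaf 539))) (.node (.node (.node (.leaf 91) (.leaf 913)) (.leaf 462)) (.node (.node (.leaf 290) (.leaf 1323)) (.leaf 650)))) (.node (.node (.node (.node (.leaf 55) (.leaf 1000)) (.leaf 385)) (.node (.node (.leaf 1134) (.leaf 1236)) (.leaf 587))) (.node (.node (.node (.leaf 149) (.leaf 1327)) (.leaf 994)) (.node (.leaf 1221) (.leaf 1470)))))) (.node (.node (.node (.node (.node (.node (.leaf 146) (.leaf 765)) (.leaf 1312)) (.node (.node (.leaf 783) (.leaf 1112)) (.leaf 527))) (.node (.node (.node (.leaf 82) (.leaf 892)) (.leaf 877)) (.node (.node (.leaf 1184) (.leaf 1293)) (.leaf 1124)))) (.node (.node (.node (.node (.leaf 45) (.leaf 1378)) (.leaf 774)) (.node (.node (.leaf 201) (.leaf 1438)) (.leaf 656))) (.node (.node (.node (.leaf 410) (.leaf 964)) (.leaf 816)) (.node (.node (.leaf 284) (.leaf 1466)) (.leaf 742))))) (.node (.node (.node (.node (.node (.leaf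 28) (.leaf 1396)) (.leaf 354)) (.node (.node (.leaf 567) (.leaf 1177)) (.leaf 549))) (.node (.node (.node (.leaf 113) (.leaf 932)) (.leaf 852)) (.node (.node (.leaf 266) (.leaf 1366)) (.leaf 669)))) (.node (.node (.node (.node (.leaf 64) (.leaf 1392)) (.leaf 1385)) (.node (.node (.leaf 221) (.leaf 1262)) (.leaf 717))) (.node (.node (.node (.leaf 929) (.leaf 1334)) (.leaf 912)) (.node (.leaf 1271) (.leaf 731))))))) (.node (.node (.node (.node (.node (.node (.node (.leaf 6) (.leaf 1204)) (.leaf 476)) (.node (.node (.leaf 837) (.leaf 1457)) (.leaf 519))) (.node (.node (.node (.leaf 78) (.leaf 886)) (.leaf 414)) (.node (.node (.leaf 595) (.leaf 1313)) (.leaf 1447)))) (.node (.node (.node (.node (.leaf 41) (.leaf 819)) (.leaf 473)) (.node (.node (.leaf 659) (.leaf 1172)) (.leaf 1426))) (.node (.node (.node (.leaf 416) (.leaf 958)) (.leaf 495)) (.node (.node (.leaf 1173) (.leaf 1454)) (.leaf 689))))) (.node (.node (.node (.node (.node (.leaf 24) (.leaf 1364))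 (.leaf 348)) (.node (.node (.leaf 415) (.leaf 1100)) (.leaf 545))) (.node (.node (.node (.leaf 97) (.leaf 924)) (.leaf 441)) (.node (.node (.leaf 592) (.leaf 1342)) (.leaf 658)))) (.node (.node (.node (.node (.leaf 60) (.leaf 849)) (.leaf 390)) (.node (.node (.leaf 1146) (.leaf 1196)) (.leaf 621))) (.node (.node (.node (.leaf 172) (.leaf 1010)) (.leaf 989)) (.node (.leaf 666) (.leaf 720)))))) (.node (.node (.node (.node (.node (.node (.leaf 15) (.leaf 956)) (.leaf 419)) (.node (.node (.leaf 164) (.leaf 1080)) (.leaf 1207))) (.node (.node (.node (.leaf 87) (.leaf 901)) (.leaf 425)) (.node (.node (.leaf 1153) (.leaf 1355)) (.leaf 643)))) (.node (.node (.node (.node (.leaf 51) (.leaf 1481)) (.leaf 381)) (.node (.node (.leaf 245) (.leaf 1164)) (.leaf 756))) (.node (.node (.node (.leaf 314) (.leaf 977)) (.leaf 482)) (.node (.leaf 602) (.leaf 702))))) (.node (.node (.node (.node (.node (.leaf 32) (.leaf 1036)) (.leaf 797)) (.node (.node (.leaf 185) (.leaf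 1122)) (.leaf 1425))) (.node (.node (.node (.leaf 788) (.leaf 943)) (.leaf 1399)) (.node (.node (.leaf 626) (.leaf 1390)) (.leaf 747)))) (.node (.node (.node (.node (.leaf 68) (.leaf 869)) (.leaf 1371)) (.node (.node (.leaf 227) (.leaf 1497)) (.leaf 1251))) (.node (.node (.node (.leaf 944) (.leaf 1042)) (.leaf 508)) (.node (.leaf 352) (.leaf 1193)))))))))) (.node (.node (.node (.node (.node (.node (.node (.node (.node (.node (.leaf 21) (.leaf 745)) (.leaf 317)) (.node (.node (.leaf 144) (.leaf 1058)) (.leaf 510))) (.node (.node (.node (.leaf 70) (.leaf 940)) (.leaf 1330)) (.node (.node (.leaf 632) (.leaf 1255)) (.leaf 1203)))) (.node (.node (.node (.node (.leaf 365) (.leaf 1296)) (.leaf 361)) (.node (.node (.leaf 188) (.leaf 1126)) (.leaf 1167))) (.node (.node (.node (.leaf 107) (.leaf 947)) (.leaf 459)) (.node (.node (.leaf 272) (.leaf 1397)) (.leaf 681))))) (.node (.node (.node (.node (.node (.leaf 211) (.leaf 1339)) (.leaf 472)) (.node (.node (.leaf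 433) (.leaf 1097)) (.leaf 535))) (.node (.node (.node (.leaf 629) (.leaf 1492)) (.leaf 427)) (.node (.node (.leaf 1213) (.leaf 1318)) (.leaf 645)))) (.node (.node (.node (.node (.leaf 493) (.leaf 1359)) (.leaf 484)) (.node (.node (.leaf 207) (.leaf 1169)) (.leaf 584))) (.node (.node (.node (.leaf 125) (.leaf 1363)) (.leaf 1028)) (.node (.leaf 1238) (.leaf 1422)))))) (.node (.node (.node (.node (.node (.node (.leaf 8) (.leaf 767)) (.leaf 874)) (.node (.node (.leaf 984) (.leaf 1473)) (.leaf 637))) (.node (.node (.node (.leaf 673) (.leaf 889)) (.leaf 979)) (.node (.node (.leaf 727) (.leaf 1304)) (.leaf 630)))) (.node (.node (.node (.node (.leaf 434) (.leaf 945)) (.leaf 372)) (.node (.node (.leaf 197) (.leaf 1199)) (.leaf 571))) (.node (.node (.node (.leaf 117) (.leaf 1321)) (.leaf 1412)) (.node (.node (.leaf 624) (.leaf 1461)) (.leaf 692))))) (.node (.node (.node (.node (.node (.leaf 286) (.leaf 1357)) (.leaf 350)) (.node (.node (.leaf 176) (.leaf 1133))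 (.leaf 1081))) (.node (.node (.node (.leaf 640) (.leaf 1344)) (.leaf 1008)) (.node (.node (.leaf 618) (.leaf 1356)) (.leaf 661)))) (.node (.node (.node (.node (.leaf 509) (.leaf 1014)) (.leaf 392)) (.node (.node (.leaf 1151) (.leaf 1227)) (.leaf 617))) (.node (.node (.node (.leaf 134) (.leaf 1012)) (.leaf 1415)) (.node (.leaf 1277) (.leaf 1194))))))) (.node (.node (.node (.node (.node (.node (.node (.leaf 72) (.leaf 753)) (.leaf 440)) (.node (.node (.leaf 800) (.leaf 1441)) (.leaf 515))) (.node (.node (.node (.leaf 612) (.leaf 882)) (.leaf 409)) (.node (.node (.leaf 1189) (.leaf 1268)) (.leaf 1434)))) (.node (.node (.node (.node (.leaf 396) (.leaf 993)) (.leaf 1360)) (.node (.node (.leaf 192) (.leaf 1208)) (.leaf 597))) (.node (.node (.node (.leaf 111) (.leaf 952)) (.leaf 771)) (.node (.node (.leaf 277) (.leaf 1424)) (.leaf 728))))) (.node (.node (.node (.node (.node (.leaf 253) (.leaf 787)) (.leaf 398)) (.node (.node (.leaf 316) (.leaf 1147)) (.leaf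 541))) (.node (.node (.node (.leaf 531) (.leaf 919)) (.leaf 1351)) (.node (.node (.leaf 258) (.leaf 1391)) (.leaf 652)))) (.node (.node (.node (.node (.leaf 522) (.leaf 1280)) (.leaf 469)) (.node (.node (.leaf 213) (.leaf 1190)) (.leaf 589))) (.node (.node (.node (.leaf 130) (.leaf 1002)) (.leaf 490)) (.node (.leaf 299) (.leaf 711)))))) (.node (.node (.node (.node (.node (.node (.leaf 12) (.leaf 876)) (.leaf 1018)) (.node (.node (.leaf 851) (.leaf 1072)) (.leaf 529))) (.node (.node (.node (.leaf 691) (.leaf 957)) (.leaf 421)) (.node (.node (.leaf 247) (.leaf 1298)) (.leaf 1237)))) (.node (.node (.node (.node (.leaf 466) (.leaf 829)) (.leaf 378)) (.node (.node (.leaf 1113) (.leaf 1157)) (.leaf 1246))) (.node (.node (.node (.leaf 121) (.leaf 968)) (.leaf 479)) (.node (.node (.leaf 517) (.leaf 1487)) (.leaf 697))))) (.node (.node (.node (.node (.node (.leaf 327) (.leaf 1328)) (.leaf 356)) (.node (.node (.leaf 182) (.leaf 1111)) (.leaf 552))) (.node (.node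 (.node (.leaf 103) (.leaf 976)) (.leaf 1405)) (.node (.node (.leaf 268) (.leaf 1382)) (.leaf 755)))) (.node (.node (.node (.node (.leaf 294) (.leaf 861)) (.leaf 397)) (.node (.node (.leaf 1161) (.leaf 1223)) (.leaf 1079))) (.node (.node (.node (.leaf 140) (.leaf 1324)) (.leaf 504)) (.node (.leaf 310) (.leaf 734)))))))) (.node (.node (.node (.node (.node (.node (.node (.node (.leaf 48) (.leaf 749)) (.leaf 347)) (.node (.node (.leaf 147) (.leaf 1051)) (.leaf 512))) (.node (.node (.node (.leaf 308) (.leaf 879)) (.leaf 407)) (.node (.node (.leaf 232) (.leaf 1451)) (.leaf 1247)))) (.node (.node (.node (.node (.leaf 386) (.leaf 1289)) (.leaf 1031)) (.node (.node (.leaf 190) (.leaf 1433)) (.leaf 559))) (.node (.node (.node (.leaf 109) (.leaf 1019)) (.leaf 461)) (.node (.node (.leaf 274) (.leaf 1456)) (.leaf 683))))) (.node (.node (.node (.node (.node (.leaf 231) (.leaf 1326)) (.leaf 341)) (.node (.node (.leaf 169) (.leaf 1170)) (.leaf 538))) (.node (.node (.node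 (.leaf 526) (.leaf 909)) (.leaf 432)) (.node (.node (.leaf 1218) (.leaf 1331)) (.leaf 648)))) (.node (.node (.node (.node (.leaf 507) (.leaf 842)) (.leaf 412)) (.node (.node (.leaf 699) (.leaf 1445)) (.leaf 1045))) (.node (.node (.node (.leaf 128) (.leaf 1477)) (.leaf 488)) (.node (.leaf 537) (.leaf 707)))))) (.node (.node (.node (.node (.node (.node (.leaf 10) (.leaf 1362)) (.leaf 331)) (.node (.node (.leaf 762) (.leaf 1068)) (.leaf 1429))) (.node (.node (.node (.leaf 198) (.leaf 928)) (.leaf 772)) (.node (.node (.leaf 244) (.leaf 1292)) (.leaf 634)))) (.node (.node (.node (.node (.leaf 449) (.leaf 825)) (.leaf 375)) (.node (.node (.leaf 210) (.leaf 1152)) (.leaf 573))) (.node (.node (.node (.leaf 119) (.leaf 1307)) (.leaf 1398)) (.node (.node (.leaf 1159) (.leaf 1476)) (.leaf 694))))) (.node (.node (.node (.node (.node (.leaf 305) (.leaf 793)) (.leaf 917)) (.node (.node (.leaf 1039) (.leaf 1106)) (.leaf 1084))) (.node (.node (.node (.leaf 101) (.leaf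 1032)) (.leaf 448)) (.node (.node (.leaf 550) (.leaf 1491)) (.leaf 668)))) (.node (.node (.node (.node (.leaf 569) (.leaf 856)) (.leaf 394)) (.node (.node (.leaf 230) (.leaf 1216)) (.leaf 603))) (.node (.node (.node (.leaf 839) (.leaf 1488)) (.leaf 859)) (.node (.leaf 664) (.leaf 730))))))) (.node (.node (.node (.node (.node (.node (.node (.leaf 96) (.leaf 758)) (.leaf 325)) (.node (.node (.leaf 152) (.leaf 1062)) (.leaf 518))) (.node (.node (.node (.leaf 302) (.leaf 927)) (.leaf 1395)) (.node (.node (.leaf 238) (.leaf 1301)) (.leaf 627)))) (.node (.node (.node (.node (.leaf 413) (.leaf 817)) (.leaf 370)) (.node (.node (.leaf 194) (.leaf 1250)) (.leaf 565))) (.node (.node (.node (.leaf 115) (.leaf 1367)) (.leaf 1376)) (.node (.node (.leaf 279) (.leaf 1436)) (.leaf 688))))) (.node (.node (.node (.node (.node (.leaf 276) (.leaf 786)) (.leaf 1340)) (.node (.node (.leaf 174) (.leaf 1099)) (.leaf 1154))) (.node (.node (.node (.leaf 743) (.leaf 923)) (.leaf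 1335)) (.node (.node (.leaf 260) (.leaf 1341)) (.leaf 1119)))) (.node (.node (.node (.node (.leaf 71) (.leaf 878)) (.leaf 1329)) (.node (.node (.leaf 215) (.leaf 1211)) (.leaf 594))) (.node (.node (.node (.leaf 132) (.leaf 1007)) (.leaf 494)) (.node (.leaf 301) (.leaf 719)))))) (.node (.node (.node (.node (.node (.node (.leaf 187) (.leaf 846)) (.leaf 336)) (.node (.node (.leaf 814) (.leaf 1459)) (.leaf 532))) (.node (.node (.node (.leaf 225) (.leaf 966)) (.leaf 804)) (.node (.node (.leaf 249) (.leaf 1308)) (.leaf 708)))) (.node (.node (.node (.node (.leaf 355) (.leaf 834)) (.leaf 833)) (.node (.node (.leaf 205) (.leaf 1175)) (.leaf 581))) (.node (.node (.node (.leaf 123) (.leaf 974)) (.leaf 868)) (.node (.leaf 639) (.leaf 701))))) (.node (.node (.node (.node (.node (.leaf 344) (.leaf 801)) (.leaf 359)) (.node (.node (.leaf 184) (.leaf 1120)) (.leaf 554))) (.node (.node (.node (.leaf 105) (.leaf 942)) (.leaf 1024)) (.node (.node (.leaf 270) (.leaf 1494))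 (.leaf 1270)))) (.node (.node (.node (.node (.leaf 262) (.leaf 867)) (.leaf 400)) (.node (.node (.leaf 226) (.leaf 1240)) (.leaf 610))) (.node (.node (.node (.leaf 142) (.leaf 1035)) (.leaf 591)) (.node (.leaf 313) (.leaf 1114))))))))) (.node (.node (.node (.node (.node (.node (.node (.node (.node (.leaf 34) (.leaf 746)) (.leaf 980)) (.node (.node (.leaf 145) (.leaf 1049)) (.leaf 511))) (.node (.node (.node (.leaf 625) (.leaf 978)) (.leaf 1361)) (.node (.node (.leaf 256) (.leaf 1471)) (.leaf 615)))) (.node (.node (.node (.node (.leaf 47) (.leaf 807)) (.leaf 363)) (.node (.node (.leaf 189) (.leaf 1185)) (.leaf 1420))) (.node (.node (.node (.leaf 108) (.leaf 990)) (.leaf 460)) (.node (.node (.leaf 273) (.leaf 1411)) (.leaf 682))))) (.node (.node (.node (.node (.node (.leaf 219) (.leaf 776)) (.leaf 340)) (.node (.node (.leaf 843) (.leaf 1143)) (.leaf 1197))) (.node (.node (.node (.leaf 516) (.leaf 906)) (.leaf 885)) (.node (.node (.leaf 265) (.leaf 1320))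 (.leaf 646)))) (.node (.node (.node (.node (.leaf 500) (.leaf 840)) (.leaf 864)) (.node (.node (.leaf 208) (.leaf 1229)) (.leaf 585))) (.node (.node (.node (.leaf 127) (.leaf 1373)) (.leaf 502)) (.node (.leaf 293) (.leaf 706)))))) (.node (.node (.node (.node (.node (.node (.leaf 9) (.leaf 1384)) (.leaf 483)) (.node (.node (.leaf 475) (.leaf 1186)) (.leaf 598))) (.node (.node (.node (.leaf 204) (.leaf 890)) (.leaf 805)) (.node (.node (.leaf 252) (.leaf 1288)) (.leaf 1460)))) (.node (.node (.node (.node (.leaf 443) (.leaf 1369)) (.leaf 827)) (.node (.node (.leaf 726) (.leaf 1464)) (.leaf 572))) (.node (.node (.node (.leaf 118) (.leaf 962)) (.leaf 982)) (.node (.node (.leaf 1257) (.leaf 1474)) (.leaf 693))))) (.node (.node (.node (.node (.node (.leaf 296) (.leaf 1358)) (.leaf 351)) (.node (.node (.leaf 178) (.leaf 1104)) (.leaf 641))) (.node (.node (.node (.leaf 217) (.leaf 935)) (.leaf 447)) (.node (.node (.leaf 523) (.leaf 1350)) (.leaf 672)))) (.node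 (.node (.node (.node (.leaf 560) (.leaf 961)) (.leaf 393)) (.node (.node (.leaf 1046) (.leaf 1210)) (.leaf 600))) (.node (.node (.node (.leaf 135) (.leaf 1037)) (.leaf 498)) (.node (.leaf 566) (.leaf 737))))))) (.node (.node (.node (.node (.node (.node (.node (.leaf 84) (.leaf 754)) (.leaf 362)) (.node (.node (.leaf 151) (.leaf 1448)) (.leaf 1430))) (.node (.node (.node (.leaf 649) (.leaf 883)) (.leaf 411)) (.node (.node (.leaf 1052) (.leaf 1275)) (.leaf 1163)))) (.node (.node (.node (.node (.leaf 405) (.leaf 910)) (.leaf 369)) (.node (.node (.leaf 193) (.leaf 1462)) (.leaf 564))) (.node (.node (.node (.leaf 831) (.leaf 955)) (.leaf 478)) (.node (.node (.leaf 278) (.leaf 1432)) (.leaf 687))))) (.node (.node (.node (.node (.node (.leaf 186) (.leaf 785)) (.leaf 346)) (.node (.node (.leaf 173) (.leaf 1141)) (.leaf 676))) (.node (.node (.node (.leaf 94) (.leaf 921)) (.leaf 438)) (.node (.node (.leaf 259) (.leaf 1370)) (.leaf 653)))) (.node (.node (.node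 (.node (.leaf 533) (.leaf 847)) (.leaf 406)) (.node (.node (.leaf 214) (.leaf 1192)) (.leaf 1098))) (.node (.node (.node (.leaf 131) (.leaf 1005)) (.leaf 492)) (.node (.leaf 300) (.leaf 1087)))))) (.node (.node (.node (.node (.node (.node (.leaf 13) (.leaf 1316)) (.leaf 429)) (.node (.node (.leaf 1004) (.leaf 1195)) (.leaf 530))) (.node (.node (.node (.leaf 95) (.leaf 897)) (.leaf 983)) (.node (.node (.leaf 248) (.leaf 1300)) (.leaf 1088)))) (.node (.node (.node (.node (.leaf 422) (.leaf 1290)) (.leaf 954)) (.node (.node (.leaf 590) (.leaf 1160)) (.leaf 1086))) (.node (.node (.node (.leaf 122) (.leaf 1310)) (.leaf 1354)) (.node (.node (.leaf 295) (.leaf 1485)) (.leaf 1254))))) (.node (.node (.node (.node (.node (.leaf 335) (.leaf 799)) (.leaf 358)) (.node (.node (.leaf 183) (.leaf 1115)) (.leaf 553))) (.node (.node (.node (.leaf 104) (.leaf 941)) (.leaf 782)) (.node (.node (.leaf 269) (.leaf 1404)) (.leaf 1071)))) (.node (.node (.node (.node (.leaf 596)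 (.leaf 884)) (.leaf 436)) (.node (.node (.leaf 715) (.leaf 1231)) (.leaf 1075))) (.node (.node (.node (.leaf 141) (.leaf 1026)) (.leaf 1198)) (.node (.leaf 311) (.leaf 738)))))))) (.node (.node (.node (.node (.node (.node (.node (.node (.leaf 58) (.leaf 1145)) (.leaf 357)) (.node (.node (.leaf 148) (.leaf 1053)) (.leaf 513))) (.node (.node (.node (.leaf 524) (.leaf 881)) (.leaf 408)) (.node (.node (.leaf 1074) (.leaf 1264)) (.leaf 1455)))) (.node (.node (.node (.node (.leaf 337) (.leaf 810)) (.leaf 376)) (.node (.node (.leaf 191) (.leaf 1139)) (.leaf 561))) (.node (.node (.node (.leaf 110) (.leaf 1407)) (.leaf 899)) (.node (.node (.leaf 275) (.leaf 1449)) (.leaf 684))))) (.node (.node (.node (.node (.node (.leaf 241) (.leaf 1482)) (.leaf 342)) (.node (.node (.leaf 455) (.leaf 1094)) (.leaf 611))) (.node (.node (.node (.leaf 601) (.leaf 915)) (.leaf 898)) (.node (.node (.leaf 257) (.leaf 1325)) (.leaf 1179)))) (.node (.node (.node (.node (.leaf 514) (.leaf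 1027)) (.leaf 1001)) (.node (.node (.leaf 212) (.leaf 1182)) (.leaf 588))) (.node (.node (.node (.leaf 129) (.leaf 995)) (.leaf 489)) (.node (.leaf 297) (.leaf 1040)))))) (.node (.node (.node (.node (.node (.node (.leaf 11) (.leaf 766)) (.leaf 332)) (.node (.node (.leaf 159) (.leaf 1070)) (.leaf 623))) (.node (.node (.node (.leaf 521) (.leaf 894)) (.leaf 420)) (.node (.node (.leaf 246) (.leaf 1295)) (.leaf 636)))) (.node (.node (.node (.node (.leaf 46) (.leaf 828)) (.leaf 377)) (.node (.node (.leaf 222) (.leaf 1248)) (.leaf 575))) (.node (.node (.node (.leaf 120) (.leaf 1401)) (.leaf 477)) (.node (.node (.leaf 1260) (.leaf 1490)) (.leaf 695))))) (.node (.node (.node (.node (.node (.leaf 315) (.leaf 1377)) (.leaf 364)) (.node (.node (.leaf 181) (.leaf 1162)) (.leaf 576))) (.node (.node (.node (.leaf 102) (.leaf 1311)) (.leaf 450)) (.node (.node (.leaf 712) (.leaf 1414)) (.leaf 670)))) (.node (.node (.node (.node (.leaf 577) (.leaf 858)) (.leaf 395)) (.node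 (.node (.leaf 1116) (.leaf 1219)) (.leaf 605))) (.node (.node (.node (.leaf 139) (.leaf 1020)) (.leaf 503)) (.node (.leaf 309) (.leaf 1276))))))) (.node (.node (.node (.node (.node (.node (.node (.leaf 7) (.leaf 759)) (.leaf 1305)) (.node (.node (.leaf 153) (.leaf 1063)) (.leaf 705))) (.node (.node (.node (.leaf 663) (.leaf 887)) (.leaf 435)) (.node (.node (.leaf 239) (.leaf 1283)) (.leaf 651)))) (.node (.node (.node (.node (.leaf 423) (.leaf 820)) (.leaf 371)) (.node (.node (.leaf 195) (.leaf 1148)) (.leaf 1224))) (.node (.node (.node (.leaf 116) (.leaf 1291)) (.leaf 1410)) (.node (.node (.leaf 280) (.leaf 1468)) (.leaf 690))))) (.node (.node (.node (.node (.node (.leaf 223) (.leaf 1393)) (.leaf 445)) (.node (.node (.leaf 175) (.leaf 1180)) (.leaf 1061))) (.node (.node (.node (.leaf 718) (.leaf 926)) (.leaf 821)) (.node (.node (.leaf 261) (.leaf 1343)) (.leaf 1078)))) (.node (.node (.node (.node (.leaf 551) (.leaf 1309)) (.leaf 391)) (.node (.node (.leaf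 216) (.leaf 1496)) (.leaf 1107))) (.node (.node (.node (.leaf 133) (.leaf 1011)) (.leaf 936)) (.node (.leaf 303) (.leaf 721)))))) (.node (.node (.node (.node (.node (.node (.leaf 199) (.leaf 773)) (.leaf 996)) (.node (.node (.leaf 319) (.leaf 1082)) (.leaf 534))) (.node (.node (.node (.leaf 709) (.leaf 1282)) (.leaf 426)) (.node (.node (.leaf 251) (.leaf 1419)) (.leaf 644)))) (.node (.node (.node (.node (.leaf 453) (.leaf 1389)) (.leaf 860)) (.node (.node (.leaf 206) (.leaf 1165)) (.leaf 582))) (.node (.node (.node (.leaf 124) (.leaf 1383)) (.leaf 778)) (.node (.leaf 1265) (.leaf 1234))))) (.node (.node (.node (.node (.node (.leaf 353) (.leaf 802)) (.leaf 360)) (.node (.node (.leaf 724) (.leaf 1130)) (.leaf 555))) (.node (.node (.node (.leaf 106) (.leaf 981)) (.leaf 456)) (.node (.node (.leaf 271) (.leaf 1416)) (.leaf 679)))) (.node (.node (.node (.node (.leaf 608) (.leaf 870)) (.leaf 401)) (.node (.node (.leaf 698) (.leaf 1239)) (.leaf 1103))) (.node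 (.node (.node (.leaf 143) (.leaf 1043)) (.leaf 583)) (.node (.leaf 916) (.leaf 744)))))))))))

/-- data -/
def lab0 : Trie (Word) := .node (.node (.node (.node (.node (.node (.node (.node (.node (.node (.node (.node (.leaf ([])) (.leaf ([]))) (.leaf ([]))) (.node (.node (.leaf ([])) (.leaf ([]))) (.leaf ([])))) (.node (.node (.node (.leaf ([])) (.leaf ([]))) (.leaf ([]))) (.node (.node (.leaf ([])) (.leaf ([]))) (.leaf ([]))))) (.node (.node (.node (.node (.leaf ([])) (.leaf ([]))) (.leaf ([]))) (.node (.node (.leaf ([])) (.leaf ([]))) (.leaf ([])))) (.node (.node (.node (.leaf ([])) (.leaf ([]))) (.leaf ([]))) (.node (.node (.leaf ([])) (.leaf ([]))) (.leaf ([])))))) (.node (.node (.node (.node (.node (.leaf ([])) (.leaf ([]))) (.leaf ([]))) (.node (.node (.leaf ([])) (.leaf ([]))) (.leaf ([])))) (.node (.node (.node (.leaf ([])) (.leaf ([]))) (.leaf ([]))) (.node (.node (.leaf ([])) (.leaf ([]))) (.leaf ([]))))) (.node (.node (.node (.node (.leaf ([]))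 (.leaf ([]))) (.leaf ([]))) (.node (.node (.leaf ([])) (.leaf ([]))) (.leaf ([])))) (.node (.node (.node (.leaf ([])) (.leaf ([]))) (.leaf ([]))) (.node (.leaf ([])) (.leaf ([]))))))) (.node (.node (.node (.node (.node (.node (.leaf ([])) (.leaf ([]))) (.leaf ([]))) (.node (.node (.leaf ([])) (.leaf ([]))) (.leaf ([])))) (.node (.node (.node (.leaf ([])) (.leaf ([]))) (.leaf ([]))) (.node (.node (.leaf ([])) (.leaf ([]))) (.leaf ([]))))) (.node (.node (.node (.node (.leaf ([])) (.leaf ([]))) (.leaf ([]))) (.node (.node (.leaf ([])) (.leaf ([]))) (.leaf ([])))) (.node (.node (.node (.leaf ([])) (.leaf ([]))) (.leaf ([]))) (.node (.node (.leaf ([])) (.leaf ([]))) (.leaf ([])))))) (.node (.node (.node (.node (.node (.leaf ([])) (.leaf ([]))) (.leaf ([]))) (.node (.node (.leaf ([])) (.leaf ([]))) (.leaf ([])))) (.node (.node (.node (.leaf ([])) (.leaf ([]))) (.leaf ([]))) (.node (.node (.leaf ([])) (.leaf ([]))) (.leaf ([]))))) (.node (.node (.node (.node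 (.leaf ([])) (.leaf ([]))) (.leaf ([]))) (.node (.node (.leaf ([])) (.leaf ([]))) (.leaf ([])))) (.node (.node (.node (.leaf ([])) (.leaf ([]))) (.leaf ([]))) (.node (.leaf ([])) (.leaf ([])))))))) (.node (.node (.node (.node (.node (.node (.node (.leaf ([])) (.leaf ([]))) (.leaf ([]))) (.node (.node (.leaf ([])) (.leaf ([]))) (.leaf ([])))) (.node (.node (.node (.leaf ([])) (.leaf ([]))) (.leaf ([]))) (.node (.node (.leaf ([])) (.leaf ([]))) (.leaf ([]))))) (.node (.node (.node (.node (.leaf ([])) (.leaf ([]))) (.leaf ([]))) (.node (.node (.leaf ([])) (.leaf ([]))) (.leaf ([])))) (.node (.node (.node (.leaf ([])) (.leaf ([]))) (.leaf ([]))) (.node (.node (.leaf ([])) (.leaf ([]))) (.leaf ([])))))) (.node (.node (.node (.node (.node (.leaf ([])) (.leaf ([]))) (.leaf ([]))) (.node (.node (.leaf ([])) (.leaf ([]))) (.leaf ([])))) (.node (.node (.node (.leaf ([])) (.leaf ([]))) (.leaf ([]))) (.node (.node (.leaf ([])) (.leaf ([]))) (.leaf ([]))))) (.node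 (.node (.node (.node (.leaf ([])) (.leaf ([]))) (.leaf ([]))) (.node (.node (.leaf ([])) (.leaf ([]))) (.leaf ([])))) (.node (.node (.node (.leaf ([])) (.leaf ([]))) (.leaf ([]))) (.node (.leaf ([])) (.leaf ([]))))))) (.node (.node (.node (.node (.node (.node (.leaf ([])) (.leaf ([]))) (.leaf ([]))) (.node (.node (.leaf ([])) (.leaf ([]))) (.leaf ([])))) (.node (.node (.node (.leaf ([])) (.leaf ([]))) (.leaf ([]))) (.node (.node (.leaf ([])) (.leaf ([]))) (.leaf ([]))))) (.node (.node (.node (.node (.leaf ([])) (.leaf ([]))) (.leaf ([]))) (.node (.node (.leaf ([])) (.leaf ([]))) (.leaf ([])))) (.node (.node (.node (.leaf ([])) (.leaf ([]))) (.leaf ([]))) (.node (.node (.leaf ([])) (.leaf ([]))) (.leaf ([])))))) (.node (.node (.node (.node (.node (.leaf ([])) (.leaf ([]))) (.leaf ([]))) (.node (.node (.leaf ([])) (.leaf ([]))) (.leaf ([])))) (.node (.node (.node (.leaf ([])) (.leaf ([]))) (.leaf ([]))) (.node (.node (.leaf ([])) (.leaf ([]))) (.leaf ([])))))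 (.node (.node (.node (.node (.leaf ([])) (.leaf ([]))) (.leaf ([]))) (.node (.node (.leaf ([])) (.leaf ([]))) (.leaf ([])))) (.node (.node (.node (.leaf ([])) (.leaf ([]))) (.leaf ([]))) (.node (.leaf ([])) (.leaf ([]))))))))) (.node (.node (.node (.node (.node (.node (.node (.node (.leaf ([])) (.leaf ([]))) (.leaf ([]))) (.node (.node (.leaf ([])) (.leaf ([]))) (.leaf ([])))) (.node (.node (.node (.leaf ([])) (.leaf ([]))) (.leaf ([]))) (.node (.node (.leaf ([])) (.leaf ([]))) (.leaf ([]))))) (.node (.node (.node (.node (.leaf ([])) (.leaf ([]))) (.leaf ([]))) (.node (.node (.leaf ([])) (.leaf ([]))) (.leaf ([])))) (.node (.node (.node (.leaf ([])) (.leaf ([]))) (.leaf ([]))) (.node (.node (.leaf ([])) (.leaf ([]))) (.leaf ([])))))) (.node (.node (.node (.node (.node (.leaf ([])) (.leaf ([]))) (.leaf ([]))) (.node (.node (.leaf ([])) (.leaf ([]))) (.leaf ([])))) (.node (.node (.node (.leaf ([])) (.leaf ([]))) (.leaf ([]))) (.node (.node (.leaf ([]))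 (.leaf ([]))) (.leaf ([]))))) (.node (.node (.node (.node (.leaf ([])) (.leaf ([]))) (.leaf ([]))) (.node (.node (.leaf ([])) (.leaf ([]))) (.leaf ([])))) (.node (.node (.node (.leaf ([])) (.leaf ([]))) (.leaf ([]))) (.node (.leaf ([])) (.leaf ([]))))))) (.node (.node (.node (.node (.node (.node (.leaf ([])) (.leaf ([]))) (.leaf ([]))) (.node (.node (.leaf ([])) (.leaf ([]))) (.leaf ([])))) (.node (.node (.node (.leaf ([])) (.leaf ([]))) (.leaf ([]))) (.node (.node (.leaf ([])) (.leaf ([]))) (.leaf ([]))))) (.node (.node (.node (.node (.leaf ([])) (.leaf ([]))) (.leaf ([]))) (.node (.node (.leaf ([])) (.leaf ([]))) (.leaf ([])))) (.node (.node (.node (.leaf ([])) (.leaf ([]))) (.leaf ([]))) (.node (.node (.leaf ([])) (.leaf ([]))) (.leaf ([])))))) (.node (.node (.node (.node (.node (.leaf ([])) (.leaf ([]))) (.leaf ([]))) (.node (.node (.leaf ([])) (.leaf ([]))) (.leaf ([])))) (.node (.node (.node (.leaf ([])) (.leaf ([]))) (.leaf ([]))) (.node (.node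 (.leaf ([])) (.leaf ([]))) (.leaf ([]))))) (.node (.node (.node (.node (.leaf ([])) (.leaf ([]))) (.leaf ([]))) (.node (.node (.leaf ([])) (.leaf ([]))) (.leaf ([])))) (.node (.node (.node (.leaf ([])) (.leaf ([]))) (.leaf ([]))) (.node (.leaf ([])) (.leaf ([])))))))) (.node (.node (.node (.node (.node (.node (.node (.leaf ([])) (.leaf ([]))) (.leaf ([]))) (.node (.node (.leaf ([])) (.leaf ([]))) (.leaf ([])))) (.node (.node (.node (.leaf ([])) (.leaf ([]))) (.leaf ([]))) (.node (.node (.leaf ([])) (.leaf ([]))) (.leaf ([]))))) (.node (.node (.node (.node (.leaf ([])) (.leaf ([]))) (.leaf ([]))) (.node (.node (.leaf ([])) (.leaf ([]))) (.leaf ([])))) (.node (.node (.node (.leaf ([])) (.leaf ([]))) (.leaf ([]))) (.node (.node (.leaf ([])) (.leaf ([]))) (.leaf ([])))))) (.node (.node (.node (.node (.node (.leaf ([])) (.leaf ([]))) (.leaf ([]))) (.node (.node (.leaf ([])) (.leaf ([]))) (.leaf ([])))) (.node (.node (.node (.leaf ([])) (.leaf ([]))) (.leaf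 ([]))) (.node (.node (.leaf ([])) (.leaf ([]))) (.leaf ([]))))) (.node (.node (.node (.node (.leaf ([])) (.leaf ([]))) (.leaf ([]))) (.node (.node (.leaf ([])) (.leaf ([]))) (.leaf ([])))) (.node (.node (.node (.leaf ([])) (.leaf ([]))) (.leaf ([]))) (.node (.leaf ([])) (.leaf ([]))))))) (.node (.node (.node (.node (.node (.node (.leaf ([])) (.leaf ([]))) (.leaf ([]))) (.node (.node (.leaf ([])) (.leaf ([]))) (.leaf ([])))) (.node (.node (.node (.leaf ([])) (.leaf ([]))) (.leaf ([]))) (.node (.node (.leaf ([])) (.leaf ([]))) (.leaf ([]))))) (.node (.node (.node (.node (.leaf ([])) (.leaf ([]))) (.leaf ([]))) (.node (.node (.leaf ([])) (.leaf ([]))) (.leaf ([])))) (.node (.node (.node (.leaf ([])) (.leaf ([]))) (.leaf ([]))) (.node (.leaf ([])) (.leaf ([])))))) (.node (.node (.node (.node (.node (.leaf ([])) (.leaf ([]))) (.leaf ([]))) (.node (.node (.leaf ([])) (.leaf ([]))) (.leaf ([])))) (.node (.node (.node (.leaf ([])) (.leaf ([]))) (.leaf ([])))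 (.node (.node (.leaf ([])) (.leaf ([]))) (.leaf ([]))))) (.node (.node (.node (.node (.leaf ([])) (.leaf ([]))) (.leaf ([]))) (.node (.node (.leaf ([])) (.leaf ([]))) (.leaf ([])))) (.node (.node (.node (.leaf ([])) (.leaf ([]))) (.leaf ([]))) (.node (.leaf ([])) (.leaf ([])))))))))) (.node (.node (.node (.node (.node (.node (.node (.node (.node (.leaf ([])) (.leaf ([]))) (.leaf ([]))) (.node (.node (.leaf ([])) (.leaf ([]))) (.leaf ([])))) (.node (.node (.node (.leaf ([])) (.leaf ([]))) (.leaf ([]))) (.node (.node (.leaf ([])) (.leaf ([]))) (.leaf ([]))))) (.node (.node (.node (.node (.leaf ([])) (.leaf ([]))) (.leaf ([]))) (.node (.node (.leaf ([])) (.leaf ([]))) (.leaf ([])))) (.node (.node (.node (.leaf ([])) (.leaf ([]))) (.leaf ([]))) (.node (.node (.leaf ([])) (.leaf ([]))) (.leaf ([])))))) (.node (.node (.node (.node (.node (.leaf ([])) (.leaf ([]))) (.leaf ([]))) (.node (.node (.leaf ([])) (.leaf ([]))) (.leaf ([])))) (.node (.node (.node (.leaf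 ([])) (.leaf ([]))) (.leaf ([]))) (.node (.node (.leaf ([])) (.leaf ([]))) (.leaf ([]))))) (.node (.node (.node (.node (.leaf ([])) (.leaf ([]))) (.leaf ([]))) (.node (.node (.leaf ([])) (.leaf ([]))) (.leaf ([])))) (.node (.node (.node (.leaf ([])) (.leaf ([]))) (.leaf ([]))) (.node (.leaf ([])) (.leaf ([]))))))) (.node (.node (.node (.node (.node (.node (.leaf ([])) (.leaf ([]))) (.leaf ([]))) (.node (.node (.leaf ([])) (.leaf ([]))) (.leaf ([])))) (.node (.node (.node (.leaf ([])) (.leaf ([]))) (.leaf ([]))) (.node (.node (.leaf ([])) (.leaf ([]))) (.leaf ([]))))) (.node (.node (.node (.node (.leaf ([])) (.leaf ([]))) (.leaf ([]))) (.node (.node (.leaf ([])) (.leaf ([]))) (.leaf ([])))) (.node (.node (.node (.leaf ([])) (.leaf ([]))) (.leaf ([]))) (.node (.node (.leaf ([])) (.leaf ([]))) (.leaf ([])))))) (.node (.node (.node (.node (.node (.leaf ([])) (.leaf ([]))) (.leaf ([]))) (.node (.node (.leaf ([])) (.leaf ([]))) (.leaf ([])))) (.node (.node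 (.node (.leaf ([])) (.leaf ([]))) (.leaf ([]))) (.node (.node (.leaf ([])) (.leaf ([]))) (.leaf ([]))))) (.node (.node (.node (.node (.leaf ([])) (.leaf ([]))) (.leaf ([]))) (.node (.node (.leaf ([])) (.leaf ([]))) (.leaf ([])))) (.node (.node (.node (.leaf ([])) (.leaf ([]))) (.leaf ([]))) (.node (.leaf ([])) (.leaf ([])))))))) (.node (.node (.node (.node (.node (.node (.node (.leaf ([])) (.leaf ([]))) (.leaf ([]))) (.node (.node (.leaf ([])) (.leaf ([]))) (.leaf ([])))) (.node (.node (.node (.leaf ([])) (.leaf ([]))) (.leaf ([]))) (.node (.node (.leaf ([])) (.leaf ([]))) (.leaf ([]))))) (.node (.node (.node (.node (.leaf ([])) (.leaf ([]))) (.leaf ([]))) (.node (.node (.leaf ([])) (.leaf ([]))) (.leaf ([])))) (.node (.node (.node (.leaf ([])) (.leaf ([]))) (.leaf ([]))) (.node (.node (.leaf ([])) (.leaf ([]))) (.leaf ([])))))) (.node (.node (.node (.node (.node (.leaf ([])) (.leaf ([]))) (.leaf ([]))) (.node (.node (.leaf ([])) (.leaf ([]))) (.leaf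 ([])))) (.node (.node (.node (.leaf ([])) (.leaf ([]))) (.leaf ([]))) (.node (.node (.leaf ([])) (.leaf ([]))) (.leaf ([]))))) (.node (.node (.node (.node (.leaf ([])) (.leaf ([]))) (.leaf ([]))) (.node (.node (.leaf ([])) (.leaf ([]))) (.leaf ([])))) (.node (.node (.node (.leaf ([])) (.leaf ([]))) (.leaf ([]))) (.node (.leaf ([])) (.leaf ([]))))))) (.node (.node (.node (.node (.node (.node (.leaf ([])) (.leaf ([]))) (.leaf ([]))) (.node (.node (.leaf ([])) (.leaf ([]))) (.leaf ([])))) (.node (.node (.node (.leaf ([])) (.leaf ([]))) (.leaf ([]))) (.node (.node (.leaf ([])) (.leaf ([]))) (.leaf ([]))))) (.node (.node (.node (.node (.leaf ([])) (.leaf ([]))) (.leaf ([]))) (.node (.node (.leaf ([])) (.leaf ([]))) (.leaf ([])))) (.node (.node (.node (.leaf ([])) (.leaf ([]))) (.leaf ([]))) (.node (.node (.leaf ([])) (.leaf ([]))) (.leaf ([])))))) (.node (.node (.node (.node (.node (.leaf ([])) (.leaf ([]))) (.leaf ([]))) (.node (.node (.leaf ([])) (.leaf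 ([]))) (.leaf ([])))) (.node (.node (.node (.leaf ([])) (.leaf ([]))) (.leaf ([]))) (.node (.node (.leaf ([])) (.leaf ([]))) (.leaf ([]))))) (.node (.node (.node (.node (.leaf ([])) (.leaf ([]))) (.leaf ([]))) (.node (.node (.leaf ([])) (.leaf ([]))) (.leaf ([])))) (.node (.node (.node (.leaf ([])) (.leaf ([]))) (.leaf ([]))) (.node (.leaf ([])) (.leaf ([]))))))))) (.node (.node (.node (.node (.node (.node (.node (.node (.leaf ([])) (.leaf ([]))) (.leaf ([]))) (.node (.node (.leaf ([])) (.leaf ([]))) (.leaf ([])))) (.node (.node (.node (.leaf ([])) (.leaf ([]))) (.leaf ([]))) (.node (.node (.leaf ([])) (.leaf ([]))) (.leaf ([]))))) (.node (.node (.node (.node (.leaf ([])) (.leaf ([]))) (.leaf ([]))) (.node (.node (.leaf ([])) (.leaf ([]))) (.leaf ([])))) (.node (.node (.node (.leaf ([])) (.leaf ([]))) (.leaf ([]))) (.node (.node (.leaf ([])) (.leaf ([]))) (.leaf ([])))))) (.node (.node (.node (.node (.node (.leaf ([])) (.leaf ([]))) (.leaf ([]))) (.node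 (.node (.leaf ([])) (.leaf ([]))) (.leaf ([])))) (.node (.node (.node (.leaf ([])) (.leaf ([]))) (.leaf ([]))) (.node (.node (.leaf ([])) (.leaf ([]))) (.leaf ([]))))) (.node (.node (.node (.node (.leaf ([])) (.leaf ([]))) (.leaf ([]))) (.node (.node (.leaf ([])) (.leaf ([]))) (.leaf ([])))) (.node (.node (.node (.leaf ([])) (.leaf ([]))) (.leaf ([]))) (.node (.leaf ([])) (.leaf ([]))))))) (.node (.node (.node (.node (.node (.node (.leaf ([])) (.leaf ([]))) (.leaf ([]))) (.node (.node (.leaf ([])) (.leaf ([]))) (.leaf ([])))) (.node (.node (.node (.leaf ([])) (.leaf ([]))) (.leaf ([]))) (.node (.node (.leaf ([])) (.leaf ([]))) (.leaf ([]))))) (.node (.node (.node (.node (.leaf ([])) (.leaf ([]))) (.leaf ([]))) (.node (.node (.leaf ([])) (.leaf ([]))) (.leaf ([])))) (.node (.node (.node (.leaf ([])) (.leaf ([]))) (.leaf ([]))) (.node (.node (.leaf ([])) (.leaf ([]))) (.leaf ([])))))) (.node (.node (.node (.node (.node (.leaf ([])) (.leaf ([]))) (.leaf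 ([]))) (.node (.node (.leaf ([])) (.leaf ([]))) (.leaf ([])))) (.node (.node (.node (.leaf ([])) (.leaf ([]))) (.leaf ([]))) (.node (.node (.leaf ([])) (.leaf ([]))) (.leaf ([]))))) (.node (.node (.node (.node (.leaf ([])) (.leaf ([]))) (.leaf ([]))) (.node (.node (.leaf ([])) (.leaf ([]))) (.leaf ([])))) (.node (.node (.node (.leaf ([])) (.leaf ([]))) (.leaf ([]))) (.node (.leaf ([])) (.leaf ([])))))))) (.node (.node (.node (.node (.node (.node (.node (.leaf ([])) (.leaf ([]))) (.leaf ([]))) (.node (.node (.leaf ([])) (.leaf ([]))) (.leaf ([])))) (.node (.node (.node (.leaf ([])) (.leaf ([]))) (.leaf ([]))) (.node (.node (.leaf ([])) (.leaf ([]))) (.leaf ([]))))) (.node (.node (.node (.node (.leaf ([])) (.leaf ([]))) (.leaf ([]))) (.node (.node (.leaf ([])) (.leaf ([]))) (.leaf ([])))) (.node (.node (.node (.leaf ([])) (.leaf ([]))) (.leaf ([]))) (.node (.node (.leaf ([])) (.leaf ([]))) (.leaf ([])))))) (.node (.node (.node (.node (.node (.leaf ([]))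 (.leaf ([]))) (.leaf ([]))) (.node (.node (.leaf ([])) (.leaf ([]))) (.leaf ([])))) (.node (.node (.node (.leaf ([])) (.leaf ([]))) (.leaf ([]))) (.node (.node (.leaf ([])) (.leaf ([]))) (.leaf ([]))))) (.node (.node (.node (.node (.leaf ([])) (.leaf ([]))) (.leaf ([]))) (.node (.node (.leaf ([])) (.leaf ([]))) (.leaf ([])))) (.node (.node (.node (.leaf ([])) (.leaf ([]))) (.leaf ([]))) (.node (.leaf ([])) (.leaf ([]))))))) (.node (.node (.node (.node (.node (.node (.leaf ([])) (.leaf ([]))) (.leaf ([]))) (.node (.node (.leaf ([])) (.leaf ([]))) (.leaf ([])))) (.node (.node (.node (.leaf ([])) (.leaf ([]))) (.leaf ([]))) (.node (.node (.leaf ([])) (.leaf ([]))) (.leaf ([]))))) (.node (.node (.node (.node (.leaf ([])) (.leaf ([]))) (.leaf ([]))) (.node (.node (.leaf ([])) (.leaf ([]))) (.leaf ([])))) (.node (.node (.node (.leaf ([])) (.leaf ([]))) (.leaf ([]))) (.node (.leaf ([])) (.leaf ([])))))) (.node (.node (.node (.node (.node (.leaf ([])) (.leaf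 ([]))) (.leaf ([]))) (.node (.node (.leaf ([])) (.leaf ([]))) (.leaf ([])))) (.node (.node (.node (.leaf ([])) (.leaf ([]))) (.leaf ([]))) (.node (.node (.leaf ([])) (.leaf ([]))) (.leaf ([]))))) (.node (.node (.node (.node (.leaf ([])) (.leaf ([]))) (.leaf ([]))) (.node (.node (.leaf ([])) (.leaf ([]))) (.leaf ([])))) (.node (.node (.node (.leaf ([])) (.leaf ([]))) (.leaf ([]))) (.node (.leaf ([])) (.leaf ([]))))))))))) (.node (.node (.node (.node (.node (.node (.node (.node (.node (.node (.leaf ([])) (.leaf ([]))) (.leaf ([]))) (.node (.node (.leaf ([])) (.leaf ([]))) (.leaf ([])))) (.node (.node (.node (.leaf ([])) (.leaf ([]))) (.leaf ([]))) (.node (.node (.leaf ([])) (.leaf ([]))) (.leaf ([]))))) (.node (.node (.node (.node (.leaf ([])) (.leaf ([]))) (.leaf ([]))) (.node (.node (.leaf ([])) (.leaf ([]))) (.leaf ([])))) (.node (.node (.node (.leaf ([])) (.leaf ([]))) (.leaf ([]))) (.node (.node (.leaf ([])) (.leaf ([]))) (.leaf ([])))))) (.node (.node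 (.node (.node (.node (.leaf ([])) (.leaf ([]))) (.leaf ([]))) (.node (.node (.leaf ([])) (.leaf ([]))) (.leaf ([])))) (.node (.node (.node (.leaf ([])) (.leaf ([]))) (.leaf ([]))) (.node (.node (.leaf ([])) (.leaf ([]))) (.leaf ([]))))) (.node (.node (.node (.node (.leaf ([])) (.leaf ([]))) (.leaf ([]))) (.node (.node (.leaf ([])) (.leaf ([]))) (.leaf ([])))) (.node (.node (.node (.leaf ([])) (.leaf ([]))) (.leaf ([]))) (.node (.leaf ([])) (.leaf ([]))))))) (.node (.node (.node (.node (.node (.node (.leaf ([])) (.leaf ([]))) (.leaf ([]))) (.node (.node (.leaf ([])) (.leaf ([]))) (.leaf ([])))) (.node (.node (.node (.leaf ([])) (.leaf ([]))) (.leaf ([]))) (.node (.node (.leaf ([])) (.leaf ([]))) (.leaf ([]))))) (.node (.node (.node (.node (.leaf ([])) (.leaf ([]))) (.leaf ([]))) (.node (.node (.leaf ([])) (.leaf ([]))) (.leaf ([])))) (.node (.node (.node (.leaf ([])) (.leaf ([]))) (.leaf ([]))) (.node (.node (.leaf ([])) (.leaf ([]))) (.leaf ([]))))))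 (.node (.node (.node (.node (.node (.leaf ([])) (.leaf ([]))) (.leaf ([]))) (.node (.node (.leaf ([])) (.leaf ([]))) (.leaf ([])))) (.node (.node (.node (.leaf ([])) (.leaf ([]))) (.leaf ([]))) (.node (.node (.leaf ([])) (.leaf ([]))) (.leaf ([]))))) (.node (.node (.node (.node (.leaf ([])) (.leaf ([]))) (.leaf ([]))) (.node (.node (.leaf ([])) (.leaf ([]))) (.leaf ([])))) (.node (.node (.node (.leaf ([])) (.leaf ([]))) (.leaf ([]))) (.node (.leaf ([])) (.leaf ([])))))))) (.node (.node (.node (.node (.node (.node (.node (.leaf ([])) (.leaf ([]))) (.leaf ([]))) (.node (.node (.leaf ([])) (.leaf ([]))) (.leaf ([])))) (.node (.node (.node (.leaf ([])) (.leaf ([]))) (.leaf ([]))) (.node (.node (.leaf ([])) (.leaf ([]))) (.leaf ([]))))) (.node (.node (.node (.node (.leaf ([])) (.leaf ([]))) (.leaf ([]))) (.node (.node (.leaf ([])) (.leaf ([]))) (.leaf ([])))) (.node (.node (.node (.leaf ([])) (.leaf ([]))) (.leaf ([]))) (.node (.node (.leaf ([])) (.leaf ([])))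 (.leaf ([])))))) (.node (.node (.node (.node (.node (.leaf ([])) (.leaf ([]))) (.leaf ([]))) (.node (.node (.leaf ([])) (.leaf ([]))) (.leaf ([])))) (.node (.node (.node (.leaf ([])) (.leaf ([]))) (.leaf ([]))) (.node (.node (.leaf ([])) (.leaf ([]))) (.leaf ([]))))) (.node (.node (.node (.node (.leaf ([])) (.leaf ([]))) (.leaf ([]))) (.node (.node (.leaf ([])) (.leaf ([]))) (.leaf ([])))) (.node (.node (.node (.leaf ([])) (.leaf ([]))) (.leaf ([]))) (.node (.leaf ([])) (.leaf ([]))))))) (.node (.node (.node (.node (.node (.node (.leaf ([])) (.leaf ([]))) (.leaf ([]))) (.node (.node (.leaf ([])) (.leaf ([]))) (.leaf ([])))) (.node (.node (.node (.leaf ([])) (.leaf ([]))) (.leaf ([]))) (.node (.node (.leaf ([])) (.leaf ([]))) (.leaf ([]))))) (.node (.node (.node (.node (.leaf ([])) (.leaf ([]))) (.leaf ([]))) (.node (.node (.leaf ([])) (.leaf ([]))) (.leaf ([])))) (.node (.node (.node (.leaf ([])) (.leaf ([]))) (.leaf ([]))) (.node (.node (.leaf ([]))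 (.leaf ([]))) (.leaf ([])))))) (.node (.node (.node (.node (.node (.leaf ([])) (.leaf ([]))) (.leaf ([]))) (.node (.node (.leaf ([])) (.leaf ([]))) (.leaf ([])))) (.node (.node (.node (.leaf ([])) (.leaf ([]))) (.leaf ([]))) (.node (.node (.leaf ([])) (.leaf ([]))) (.leaf ([]))))) (.node (.node (.node (.node (.leaf ([])) (.leaf ([]))) (.leaf ([]))) (.node (.node (.leaf ([])) (.leaf ([]))) (.leaf ([])))) (.node (.node (.node (.leaf ([])) (.leaf ([]))) (.leaf ([]))) (.node (.leaf ([])) (.leaf ([]))))))))) (.node (.node (.node (.node (.node (.node (.node (.node (.leaf ([])) (.leaf ([]))) (.leaf ([]))) (.node (.node (.leaf ([])) (.leaf ([]))) (.leaf ([])))) (.node (.node (.node (.leaf ([])) (.leaf ([]))) (.leaf ([]))) (.node (.node (.leaf ([])) (.leaf ([]))) (.leaf ([]))))) (.node (.node (.node (.node (.leaf ([])) (.leaf ([]))) (.leaf ([]))) (.node (.node (.leaf ([])) (.leaf ([]))) (.leaf ([])))) (.node (.node (.node (.leaf ([])) (.leaf ([]))) (.leaf ([])))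 (.node (.node (.leaf ([])) (.leaf ([]))) (.leaf ([])))))) (.node (.node (.node (.node (.node (.leaf ([])) (.leaf ([]))) (.leaf ([]))) (.node (.node (.leaf ([])) (.leaf ([]))) (.leaf ([])))) (.node (.node (.node (.leaf ([])) (.leaf ([]))) (.leaf ([]))) (.node (.node (.leaf ([])) (.leaf ([]))) (.leaf ([]))))) (.node (.node (.node (.node (.leaf ([])) (.leaf ([]))) (.leaf ([]))) (.node (.node (.leaf ([])) (.leaf ([]))) (.leaf ([])))) (.node (.node (.node (.leaf ([])) (.leaf ([]))) (.leaf ([]))) (.node (.leaf ([])) (.leaf ([]))))))) (.node (.node (.node (.node (.node (.node (.leaf ([])) (.leaf ([]))) (.leaf ([]))) (.node (.node (.leaf ([])) (.leaf ([]))) (.leaf ([])))) (.node (.node (.node (.leaf ([])) (.leaf ([]))) (.leaf ([]))) (.node (.node (.leaf ([])) (.leaf ([]))) (.leaf ([]))))) (.node (.node (.node (.node (.leaf ([])) (.leaf ([]))) (.leaf ([]))) (.node (.node (.leaf ([])) (.leaf ([]))) (.leaf ([])))) (.node (.node (.node (.leaf ([])) (.leaf ([])))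 (.leaf ([]))) (.node (.node (.leaf ([])) (.leaf ([]))) (.leaf ([])))))) (.node (.node (.node (.node (.node (.leaf ([])) (.leaf ([]))) (.leaf ([]))) (.node (.node (.leaf ([])) (.leaf ([]))) (.leaf ([])))) (.node (.node (.node (.leaf ([])) (.leaf ([]))) (.leaf ([]))) (.node (.node (.leaf ([])) (.leaf ([]))) (.leaf ([]))))) (.node (.node (.node (.node (.leaf ([])) (.leaf ([]))) (.leaf ([]))) (.node (.node (.leaf ([])) (.leaf ([]))) (.leaf ([])))) (.node (.node (.node (.leaf ([])) (.leaf ([]))) (.leaf ([]))) (.node (.leaf ([])) (.leaf ([])))))))) (.node (.node (.node (.node (.node (.node (.node (.leaf ([])) (.leaf ([]))) (.leaf ([]))) (.node (.node (.leaf ([])) (.leaf ([]))) (.leaf ([])))) (.node (.node (.node (.leaf ([])) (.leaf ([]))) (.leaf ([]))) (.node (.node (.leaf ([])) (.leaf ([]))) (.leaf ([]))))) (.node (.node (.node (.node (.leaf ([])) (.leaf ([]))) (.leaf ([]))) (.node (.node (.leaf ([])) (.leaf ([]))) (.leaf ([])))) (.node (.node (.node (.leaf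 ([])) (.leaf ([]))) (.leaf ([]))) (.node (.node (.leaf ([])) (.leaf ([]))) (.leaf ([])))))) (.node (.node (.node (.node (.node (.leaf ([])) (.leaf ([]))) (.leaf ([]))) (.node (.node (.leaf ([])) (.leaf ([]))) (.leaf ([])))) (.node (.node (.node (.leaf ([])) (.leaf ([]))) (.leaf ([]))) (.node (.node (.leaf ([])) (.leaf ([]))) (.leaf ([]))))) (.node (.node (.node (.node (.leaf ([])) (.leaf ([]))) (.leaf ([]))) (.node (.node (.leaf ([])) (.leaf ([]))) (.leaf ([])))) (.node (.node (.node (.leaf ([])) (.leaf ([]))) (.leaf ([]))) (.node (.leaf ([])) (.leaf ([]))))))) (.node (.node (.node (.node (.node (.node (.leaf ([])) (.leaf ([]))) (.leaf ([]))) (.node (.node (.leaf ([])) (.leaf ([]))) (.leaf ([])))) (.node (.node (.node (.leaf ([])) (.leaf ([]))) (.leaf ([]))) (.node (.node (.leaf ([])) (.leaf ([]))) (.leaf ([]))))) (.node (.node (.node (.node (.leaf ([])) (.leaf ([]))) (.leaf ([]))) (.node (.node (.leaf ([])) (.leaf ([]))) (.leaf ([])))) (.node (.node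 (.node (.leaf ([])) (.leaf ([]))) (.leaf ([]))) (.node (.leaf ([])) (.leaf ([])))))) (.node (.node (.node (.node (.node (.leaf ([])) (.leaf ([]))) (.leaf ([]))) (.node (.node (.leaf ([])) (.leaf ([]))) (.leaf ([])))) (.node (.node (.node (.leaf ([])) (.leaf ([]))) (.leaf ([]))) (.node (.node (.leaf ([])) (.leaf ([]))) (.leaf ([]))))) (.node (.node (.node (.node (.leaf ([])) (.leaf ([]))) (.leaf ([]))) (.node (.node (.leaf ([])) (.leaf ([]))) (.leaf ([])))) (.node (.node (.node (.leaf ([])) (.leaf ([]))) (.leaf ([]))) (.node (.leaf ([])) (.leaf ([])))))))))) (.node (.node (.node (.node (.node (.node (.node (.node (.node (.leaf ([])) (.leaf ([]))) (.leaf ([]))) (.node (.node (.leaf ([])) (.leaf ([]))) (.leaf ([])))) (.node (.node (.node (.leaf ([])) (.leaf ([]))) (.leaf ([]))) (.node (.node (.leaf ([])) (.leaf ([]))) (.leaf ([]))))) (.node (.node (.node (.node (.leaf ([])) (.leaf ([]))) (.leaf ([]))) (.node (.node (.leaf ([])) (.leaf ([]))) (.leaf ([]))))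 (.node (.node (.node (.leaf ([])) (.leaf ([]))) (.leaf ([]))) (.node (.node (.leaf ([])) (.leaf ([]))) (.leaf ([])))))) (.node (.node (.node (.node (.node (.leaf ([])) (.leaf ([]))) (.leaf ([]))) (.node (.node (.leaf ([])) (.leaf ([]))) (.leaf ([])))) (.node (.node (.node (.leaf ([])) (.leaf ([]))) (.leaf ([]))) (.node (.node (.leaf ([])) (.leaf ([]))) (.leaf ([]))))) (.node (.node (.node (.node (.leaf ([])) (.leaf ([]))) (.leaf ([]))) (.node (.node (.leaf ([])) (.leaf ([]))) (.leaf ([])))) (.node (.node (.node (.leaf ([])) (.leaf ([]))) (.leaf ([]))) (.node (.leaf ([])) (.leaf ([]))))))) (.node (.node (.node (.node (.node (.node (.leaf ([])) (.leaf ([]))) (.leaf ([]))) (.node (.node (.leaf ([])) (.leaf ([]))) (.leaf ([])))) (.node (.node (.node (.leaf ([])) (.leaf ([]))) (.leaf ([]))) (.node (.node (.leaf ([])) (.leaf ([]))) (.leaf ([]))))) (.node (.node (.node (.node (.leaf ([])) (.leaf ([]))) (.leaf ([]))) (.node (.node (.leaf ([])) (.leaf ([])))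 (.leaf ([])))) (.node (.node (.node (.leaf ([])) (.leaf ([]))) (.leaf ([]))) (.node (.node (.leaf ([])) (.leaf ([]))) (.leaf ([])))))) (.node (.node (.node (.node (.node (.leaf ([])) (.leaf ([]))) (.leaf ([]))) (.node (.node (.leaf ([])) (.leaf ([]))) (.leaf ([])))) (.node (.node (.node (.leaf ([])) (.leaf ([]))) (.leaf ([]))) (.node (.node (.leaf ([])) (.leaf ([]))) (.leaf ([]))))) (.node (.node (.node (.node (.leaf ([])) (.leaf ([]))) (.leaf ([]))) (.node (.node (.leaf ([])) (.leaf ([]))) (.leaf ([])))) (.node (.node (.node (.leaf ([])) (.leaf ([]))) (.leaf ([]))) (.node (.leaf ([])) (.leaf ([])))))))) (.node (.node (.node (.node (.node (.node (.node (.leaf ([])) (.leaf ([]))) (.leaf ([]))) (.node (.node (.leaf ([])) (.leaf ([]))) (.leaf ([])))) (.node (.node (.node (.leaf ([])) (.leaf ([]))) (.leaf ([]))) (.node (.node (.leaf ([])) (.leaf ([]))) (.leaf ([]))))) (.node (.node (.node (.node (.leaf ([])) (.leaf ([]))) (.leaf ([]))) (.node (.node (.leaf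 ([])) (.leaf ([]))) (.leaf ([])))) (.node (.node (.node (.leaf ([])) (.leaf ([]))) (.leaf ([]))) (.node (.node (.leaf ([])) (.leaf ([]))) (.leaf ([])))))) (.node (.node (.node (.node (.node (.leaf ([])) (.leaf ([]))) (.leaf ([]))) (.node (.node (.leaf ([])) (.leaf ([]))) (.leaf ([])))) (.node (.node (.node (.leaf ([])) (.leaf ([]))) (.leaf ([]))) (.node (.node (.leaf ([])) (.leaf ([]))) (.leaf ([]))))) (.node (.node (.node (.node (.leaf ([])) (.leaf ([]))) (.leaf ([]))) (.node (.node (.leaf ([])) (.leaf ([]))) (.leaf ([])))) (.node (.node (.node (.leaf ([])) (.leaf ([]))) (.leaf ([]))) (.node (.leaf ([])) (.leaf ([]))))))) (.node (.node (.node (.node (.node (.node (.leaf ([])) (.leaf ([]))) (.leaf ([]))) (.node (.node (.leaf ([])) (.leaf ([]))) (.leaf ([])))) (.node (.node (.node (.leaf ([])) (.leaf ([]))) (.leaf ([]))) (.node (.node (.leaf ([])) (.leaf ([]))) (.leaf ([]))))) (.node (.node (.node (.node (.leaf ([])) (.leaf ([]))) (.leaf ([]))) (.node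 (.node (.leaf ([])) (.leaf ([]))) (.leaf ([])))) (.node (.node (.node (.leaf ([])) (.leaf ([]))) (.leaf ([]))) (.node (.node (.leaf ([])) (.leaf ([]))) (.leaf ([])))))) (.node (.node (.node (.node (.node (.leaf ([])) (.leaf ([]))) (.leaf ([]))) (.node (.node (.leaf ([])) (.leaf ([]))) (.leaf ([])))) (.node (.node (.node (.leaf ([])) (.leaf ([]))) (.leaf ([]))) (.node (.node (.leaf ([])) (.leaf ([]))) (.leaf ([]))))) (.node (.node (.node (.node (.leaf ([])) (.leaf ([]))) (.leaf ([]))) (.node (.node (.leaf ([])) (.leaf ([]))) (.leaf ([])))) (.node (.node (.node (.leaf ([])) (.leaf ([]))) (.leaf ([]))) (.node (.leaf ([])) (.leaf ([]))))))))) (.node (.node (.node (.node (.node (.node (.node (.node (.leaf ([])) (.leaf ([]))) (.leaf ([]))) (.node (.node (.leaf ([])) (.leaf ([]))) (.leaf ([])))) (.node (.node (.node (.leaf ([])) (.leaf ([]))) (.leaf ([]))) (.node (.node (.leaf ([])) (.leaf ([]))) (.leaf ([]))))) (.node (.node (.node (.node (.leaf ([])) (.leaf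 ([]))) (.leaf ([]))) (.node (.node (.leaf ([])) (.leaf ([]))) (.leaf ([])))) (.node (.node (.node (.leaf ([])) (.leaf ([]))) (.leaf ([]))) (.node (.node (.leaf ([])) (.leaf ([]))) (.leaf ([])))))) (.node (.node (.node (.node (.node (.leaf ([])) (.leaf ([]))) (.leaf ([]))) (.node (.node (.leaf ([])) (.leaf ([]))) (.leaf ([])))) (.node (.node (.node (.leaf ([])) (.leaf ([]))) (.leaf ([]))) (.node (.node (.leaf ([])) (.leaf ([]))) (.leaf ([]))))) (.node (.node (.node (.node (.leaf ([])) (.leaf ([]))) (.leaf ([]))) (.node (.node (.leaf ([])) (.leaf ([]))) (.leaf ([])))) (.node (.node (.node (.leaf ([])) (.leaf ([]))) (.leaf ([]))) (.node (.leaf ([])) (.leaf ([]))))))) (.node (.node (.node (.node (.node (.node (.leaf ([])) (.leaf ([]))) (.leaf ([]))) (.node (.node (.leaf ([])) (.leaf ([]))) (.leaf ([])))) (.node (.node (.node (.leaf ([])) (.leaf ([]))) (.leaf ([]))) (.node (.node (.leaf ([])) (.leaf ([]))) (.leaf ([]))))) (.node (.node (.node (.node (.leaf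 ([])) (.leaf ([]))) (.leaf ([]))) (.node (.node (.leaf ([])) (.leaf ([]))) (.leaf ([])))) (.node (.node (.node (.leaf ([])) (.leaf ([]))) (.leaf ([]))) (.node (.node (.leaf ([])) (.leaf ([]))) (.leaf ([])))))) (.node (.node (.node (.node (.node (.leaf ([])) (.leaf ([]))) (.leaf ([]))) (.node (.node (.leaf ([])) (.leaf ([]))) (.leaf ([])))) (.node (.node (.node (.leaf ([])) (.leaf ([]))) (.leaf ([]))) (.node (.node (.leaf ([])) (.leaf ([]))) (.leaf ([]))))) (.node (.node (.node (.node (.leaf ([])) (.leaf ([]))) (.leaf ([]))) (.node (.node (.leaf ([])) (.leaf ([]))) (.leaf ([])))) (.node (.node (.node (.leaf ([])) (.leaf ([]))) (.leaf ([]))) (.node (.leaf ([])) (.leaf ([])))))))) (.node (.node (.node (.node (.node (.node (.node (.leaf ([])) (.leaf ([]))) (.leaf ([]))) (.node (.node (.leaf ([])) (.leaf ([]))) (.leaf ([])))) (.node (.node (.node (.leaf ([])) (.leaf ([]))) (.leaf ([]))) (.node (.node (.leaf ([])) (.leaf ([]))) (.leaf ([]))))) (.node (.node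 (.node (.node (.leaf ([])) (.leaf ([]))) (.leaf ([]))) (.node (.node (.leaf ([])) (.leaf ([]))) (.leaf ([])))) (.node (.node (.node (.leaf ([])) (.leaf ([]))) (.leaf ([]))) (.node (.node (.leaf ([])) (.leaf ([]))) (.leaf ([])))))) (.node (.node (.node (.node (.node (.leaf ([])) (.leaf ([]))) (.leaf ([]))) (.node (.node (.leaf ([])) (.leaf ([]))) (.leaf ([])))) (.node (.node (.node (.leaf ([])) (.leaf ([]))) (.leaf ([]))) (.node (.node (.leaf ([])) (.leaf ([]))) (.leaf ([]))))) (.node (.node (.node (.node (.leaf ([])) (.leaf ([]))) (.leaf ([]))) (.node (.node (.leaf ([])) (.leaf ([]))) (.leaf ([])))) (.node (.node (.node (.leaf ([])) (.leaf ([]))) (.leaf ([]))) (.node (.leaf ([])) (.leaf ([]))))))) (.node (.node (.node (.node (.node (.node (.leaf ([])) (.leaf ([]))) (.leaf ([]))) (.node (.node (.leaf ([])) (.leaf ([]))) (.leaf ([])))) (.node (.node (.node (.leaf ([])) (.leaf ([]))) (.leaf ([]))) (.node (.node (.leaf ([])) (.leaf ([]))) (.leaf ([])))))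 (.node (.node (.node (.node (.leaf ([])) (.leaf ([]))) (.leaf ([]))) (.node (.node (.leaf ([])) (.leaf ([]))) (.leaf ([])))) (.node (.node (.node (.leaf ([])) (.leaf ([]))) (.leaf ([]))) (.node (.leaf ([])) (.leaf ([])))))) (.node (.node (.node (.node (.node (.leaf ([])) (.leaf ([]))) (.leaf ([]))) (.node (.node (.leaf ([])) (.leaf ([]))) (.leaf ([])))) (.node (.node (.node (.leaf ([])) (.leaf ([]))) (.leaf ([]))) (.node (.node (.leaf ([])) (.leaf ([]))) (.leaf ([]))))) (.node (.node (.node (.node (.leaf ([])) (.leaf ([]))) (.leaf ([]))) (.node (.node (.leaf ([])) (.leaf ([]))) (.leaf ([])))) (.node (.node (.node (.leaf ([])) (.leaf ([]))) (.leaf ([]))) (.node (.leaf ([])) (.leaf ([])))))))))))) (.node (.node (.node (.node (.node (.node (.node (.node (.node (.node (.node (.leaf ([])) (.leaf ([]))) (.leaf ([]))) (.node (.node (.leaf ([])) (.leaf ([]))) (.leaf ([])))) (.node (.node (.node (.leaf ([])) (.leaf ([]))) (.leaf ([]))) (.node (.node (.leaf ([]))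 (.leaf ([]))) (.leaf ([]))))) (.node (.node (.node (.node (.leaf ([])) (.leaf ([]))) (.leaf ([]))) (.node (.node (.leaf ([])) (.leaf ([]))) (.leaf ([])))) (.node (.node (.node (.leaf ([])) (.leaf ([]))) (.leaf ([]))) (.node (.node (.leaf ([])) (.leaf ([]))) (.leaf ([])))))) (.node (.node (.node (.node (.node (.leaf ([])) (.leaf ([]))) (.leaf ([]))) (.node (.node (.leaf ([])) (.leaf ([]))) (.leaf ([])))) (.node (.node (.node (.leaf ([])) (.leaf ([]))) (.leaf ([]))) (.node (.node (.leaf ([])) (.leaf ([]))) (.leaf ([]))))) (.node (.node (.node (.node (.leaf ([])) (.leaf ([]))) (.leaf ([]))) (.node (.node (.leaf ([])) (.leaf ([]))) (.leaf ([])))) (.node (.node (.node (.leaf ([])) (.leaf ([]))) (.leaf ([]))) (.node (.leaf ([])) (.leaf ([]))))))) (.node (.node (.node (.node (.node (.node (.leaf ([])) (.leaf ([]))) (.leaf ([]))) (.node (.node (.leaf ([])) (.leaf ([]))) (.leaf ([])))) (.node (.node (.node (.leaf ([])) (.leaf ([]))) (.leaf ([]))) (.node (.node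 (.leaf ([])) (.leaf ([]))) (.leaf ([]))))) (.node (.node (.node (.node (.leaf ([])) (.leaf ([]))) (.leaf ([]))) (.node (.node (.leaf ([])) (.leaf ([]))) (.leaf ([])))) (.node (.node (.node (.leaf ([])) (.leaf ([]))) (.leaf ([]))) (.node (.node (.leaf ([])) (.leaf ([]))) (.leaf ([])))))) (.node (.node (.node (.node (.node (.leaf ([])) (.leaf ([]))) (.leaf ([]))) (.node (.node (.leaf ([])) (.leaf ([]))) (.leaf ([])))) (.node (.node (.node (.leaf ([])) (.leaf ([]))) (.leaf ([]))) (.node (.node (.leaf ([])) (.leaf ([]))) (.leaf ([]))))) (.node (.node (.node (.node (.leaf ([])) (.leaf ([]))) (.leaf ([]))) (.node (.node (.leaf ([])) (.leaf ([]))) (.leaf ([])))) (.node (.node (.node (.leaf ([])) (.leaf ([]))) (.leaf ([]))) (.node (.leaf ([])) (.leaf ([])))))))) (.node (.node (.node (.node (.node (.node (.node (.leaf ([])) (.leaf ([]))) (.leaf ([]))) (.node (.node (.leaf ([])) (.leaf ([]))) (.leaf ([])))) (.node (.node (.node (.leaf ([])) (.leaf ([]))) (.leaf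 ([]))) (.node (.node (.leaf ([])) (.leaf ([]))) (.leaf ([]))))) (.node (.node (.node (.node (.leaf ([])) (.leaf ([]))) (.leaf ([]))) (.node (.node (.leaf ([])) (.leaf ([]))) (.leaf ([])))) (.node (.node (.node (.leaf ([])) (.leaf ([]))) (.leaf ([]))) (.node (.node (.leaf ([])) (.leaf ([]))) (.leaf ([])))))) (.node (.node (.node (.node (.node (.leaf ([])) (.leaf ([]))) (.leaf ([]))) (.node (.node (.leaf ([])) (.leaf ([]))) (.leaf ([])))) (.node (.node (.node (.leaf ([])) (.leaf ([]))) (.leaf ([]))) (.node (.node (.leaf ([])) (.leaf ([]))) (.leaf ([]))))) (.node (.node (.node (.node (.leaf ([])) (.leaf ([]))) (.leaf ([]))) (.node (.node (.leaf ([])) (.leaf ([]))) (.leaf ([])))) (.node (.node (.node (.leaf ([])) (.leaf ([]))) (.leaf ([]))) (.node (.leaf ([])) (.leaf ([]))))))) (.node (.node (.node (.node (.node (.node (.leaf ([])) (.leaf ([]))) (.leaf ([]))) (.node (.node (.leaf ([])) (.leaf ([]))) (.leaf ([])))) (.node (.node (.node (.leaf ([])) (.leaf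 ([]))) (.leaf ([]))) (.node (.node (.leaf ([])) (.leaf ([]))) (.leaf ([]))))) (.node (.node (.node (.node (.leaf ([])) (.leaf ([]))) (.leaf ([]))) (.node (.node (.leaf ([])) (.leaf ([]))) (.leaf ([])))) (.node (.node (.node (.leaf ([])) (.leaf ([]))) (.leaf ([]))) (.node (.node (.leaf ([])) (.leaf ([]))) (.leaf ([])))))) (.node (.node (.node (.node (.node (.leaf ([])) (.leaf ([]))) (.leaf ([]))) (.node (.node (.leaf ([])) (.leaf ([]))) (.leaf ([])))) (.node (.node (.node (.leaf ([])) (.leaf ([]))) (.leaf ([]))) (.node (.node (.leaf ([])) (.leaf ([]))) (.leaf ([]))))) (.node (.node (.node (.node (.leaf ([])) (.leaf ([]))) (.leaf ([]))) (.node (.node (.leaf ([])) (.leaf ([]))) (.leaf ([])))) (.node (.node (.node (.leaf ([])) (.leaf ([]))) (.leaf ([]))) (.node (.leaf ([])) (.leaf ([]))))))))) (.node (.node (.node (.node (.node (.node (.node (.node (.leaf ([])) (.leaf ([]))) (.leaf ([]))) (.node (.node (.leaf ([])) (.leaf ([]))) (.leaf ([])))) (.node (.node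 (.node (.leaf ([])) (.leaf ([]))) (.leaf ([]))) (.node (.node (.leaf ([])) (.leaf ([]))) (.leaf ([]))))) (.node (.node (.node (.node (.leaf ([])) (.leaf ([]))) (.leaf ([]))) (.node (.node (.leaf ([])) (.leaf ([]))) (.leaf ([])))) (.node (.node (.node (.leaf ([])) (.leaf ([]))) (.leaf ([]))) (.node (.node (.leaf ([])) (.leaf ([]))) (.leaf ([])))))) (.node (.node (.node (.node (.node (.leaf ([])) (.leaf ([]))) (.leaf ([]))) (.node (.node (.leaf ([])) (.leaf ([]))) (.leaf ([])))) (.node (.node (.node (.leaf ([])) (.leaf ([]))) (.leaf ([]))) (.node (.node (.leaf ([])) (.leaf ([]))) (.leaf ([]))))) (.node (.node (.node (.node (.leaf ([])) (.leaf ([]))) (.leaf ([]))) (.node (.node (.leaf ([])) (.leaf ([]))) (.leaf ([])))) (.node (.node (.node (.leaf ([])) (.leaf ([]))) (.leaf ([]))) (.node (.leaf ([])) (.leaf ([]))))))) (.node (.node (.node (.node (.node (.node (.leaf ([])) (.leaf ([]))) (.leaf ([]))) (.node (.node (.leaf ([])) (.leaf ([]))) (.leaf ([]))))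 (.node (.node (.node (.leaf ([])) (.leaf ([]))) (.leaf ([]))) (.node (.node (.leaf ([])) (.leaf ([]))) (.leaf ([]))))) (.node (.node (.node (.node (.leaf ([])) (.leaf ([]))) (.leaf ([]))) (.node (.node (.leaf ([])) (.leaf ([]))) (.leaf ([])))) (.node (.node (.node (.leaf ([])) (.leaf ([]))) (.leaf ([]))) (.node (.node (.leaf ([])) (.leaf ([]))) (.leaf ([])))))) (.node (.node (.node (.node (.node (.leaf ([])) (.leaf ([]))) (.leaf ([]))) (.node (.node (.leaf ([])) (.leaf ([]))) (.leaf ([])))) (.node (.node (.node (.leaf ([])) (.leaf ([]))) (.leaf ([]))) (.node (.node (.leaf ([])) (.leaf ([]))) (.leaf ([]))))) (.node (.node (.node (.node (.leaf ([])) (.leaf ([]))) (.leaf ([]))) (.node (.node (.leaf ([])) (.leaf ([]))) (.leaf ([])))) (.node (.node (.node (.leaf ([])) (.leaf ([]))) (.leaf ([]))) (.node (.leaf ([])) (.leaf ([])))))))) (.node (.node (.node (.node (.node (.node (.node (.leaf ([])) (.leaf ([]))) (.leaf ([]))) (.node (.node (.leaf ([])) (.leaf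 ([]))) (.leaf ([])))) (.node (.node (.node (.leaf ([])) (.leaf ([]))) (.leaf ([]))) (.node (.node (.leaf ([])) (.leaf ([]))) (.leaf ([]))))) (.node (.node (.node (.node (.leaf ([])) (.leaf ([]))) (.leaf ([]))) (.node (.node (.leaf ([])) (.leaf ([]))) (.leaf ([])))) (.node (.node (.node (.leaf ([])) (.leaf ([]))) (.leaf ([]))) (.node (.node (.leaf ([])) (.leaf ([]))) (.leaf ([])))))) (.node (.node (.node (.node (.node (.leaf ([])) (.leaf ([]))) (.leaf ([]))) (.node (.node (.leaf ([])) (.leaf ([]))) (.leaf ([])))) (.node (.node (.node (.leaf ([])) (.leaf ([]))) (.leaf ([]))) (.node (.node (.leaf ([])) (.leaf ([]))) (.leaf ([]))))) (.node (.node (.node (.node (.leaf ([])) (.leaf ([]))) (.leaf ([]))) (.node (.node (.leaf ([])) (.leaf ([]))) (.leaf ([])))) (.node (.node (.node (.leaf ([])) (.leaf ([]))) (.leaf ([]))) (.node (.leaf ([])) (.leaf ([]))))))) (.node (.node (.node (.node (.node (.node (.leaf ([])) (.leaf ([]))) (.leaf ([]))) (.node (.node (.leaf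 ([])) (.leaf ([]))) (.leaf ([])))) (.node (.node (.node (.leaf ([])) (.leaf ([]))) (.leaf ([]))) (.node (.node (.leaf ([])) (.leaf ([]))) (.leaf ([]))))) (.node (.node (.node (.node (.leaf ([])) (.leaf ([]))) (.leaf ([]))) (.node (.node (.leaf ([])) (.leaf ([]))) (.leaf ([])))) (.node (.node (.node (.leaf ([])) (.leaf ([]))) (.leaf ([]))) (.node (.leaf ([])) (.leaf ([])))))) (.node (.node (.node (.node (.node (.leaf ([])) (.leaf ([]))) (.leaf ([]))) (.node (.node (.leaf ([])) (.leaf ([]))) (.leaf ([])))) (.node (.node (.node (.leaf ([])) (.leaf ([]))) (.leaf ([]))) (.node (.node (.leaf ([])) (.leaf ([]))) (.leaf ([]))))) (.node (.node (.node (.node (.leaf ([])) (.leaf ([]))) (.leaf ([]))) (.node (.node (.leaf ([])) (.leaf ([]))) (.leaf ([])))) (.node (.node (.node (.leaf ([])) (.leaf ([]))) (.leaf ([]))) (.node (.leaf ([])) (.leaf ([])))))))))) (.node (.node (.node (.node (.node (.node (.node (.node (.node (.leaf ([])) (.leaf ([]))) (.leaf ([]))) (.node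 (.node (.leaf ([])) (.leaf ([]))) (.leaf ([])))) (.node (.node (.node (.leaf ([])) (.leaf ([]))) (.leaf ([]))) (.node (.node (.leaf ([])) (.leaf ([]))) (.leaf ([]))))) (.node (.node (.node (.node (.leaf ([])) (.leaf ([]))) (.leaf ([]))) (.node (.node (.leaf ([])) (.leaf ([]))) (.leaf ([])))) (.node (.node (.node (.leaf ([])) (.leaf ([]))) (.leaf ([]))) (.node (.node (.leaf ([])) (.leaf ([]))) (.leaf ([])))))) (.node (.node (.node (.node (.node (.leaf ([])) (.leaf ([]))) (.leaf ([]))) (.node (.node (.leaf ([])) (.leaf ([]))) (.leaf ([])))) (.node (.node (.node (.leaf ([])) (.leaf ([]))) (.leaf ([]))) (.node (.node (.leaf ([])) (.leaf ([]))) (.leaf ([]))))) (.node (.node (.node (.node (.leaf ([])) (.leaf ([]))) (.leaf ([]))) (.node (.node (.leaf ([])) (.leaf ([]))) (.leaf ([])))) (.node (.node (.node (.leaf ([])) (.leaf ([]))) (.leaf ([]))) (.node (.leaf ([])) (.leaf ([]))))))) (.node (.node (.node (.node (.node (.node (.leaf ([])) (.leaf ([]))) (.leaf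 ([]))) (.node (.node (.leaf ([])) (.leaf ([]))) (.leaf ([])))) (.node (.node (.node (.leaf ([])) (.leaf ([]))) (.leaf ([]))) (.node (.node (.leaf ([])) (.leaf ([]))) (.leaf ([]))))) (.node (.node (.node (.node (.leaf ([])) (.leaf ([]))) (.leaf ([]))) (.node (.node (.leaf ([])) (.leaf ([]))) (.leaf ([])))) (.node (.node (.node (.leaf ([])) (.leaf ([]))) (.leaf ([]))) (.node (.node (.leaf ([])) (.leaf ([]))) (.leaf ([])))))) (.node (.node (.node (.node (.node (.leaf ([])) (.leaf ([]))) (.leaf ([]))) (.node (.node (.leaf ([])) (.leaf ([]))) (.leaf ([])))) (.node (.node (.node (.leaf ([])) (.leaf ([]))) (.leaf ([]))) (.node (.node (.leaf ([])) (.leaf ([]))) (.leaf ([]))))) (.node (.node (.node (.node (.leaf ([])) (.leaf ([]))) (.leaf ([]))) (.node (.node (.leaf ([])) (.leaf ([]))) (.leaf ([])))) (.node (.node (.node (.leaf ([])) (.leaf ([]))) (.leaf ([]))) (.node (.leaf ([])) (.leaf ([])))))))) (.node (.node (.node (.node (.node (.node (.node (.leaf ([]))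 (.leaf ([]))) (.leaf ([]))) (.node (.node (.leaf ([])) (.leaf ([]))) (.leaf ([])))) (.node (.node (.node (.leaf ([])) (.leaf ([]))) (.leaf ([]))) (.node (.node (.leaf ([])) (.leaf ([]))) (.leaf ([]))))) (.node (.node (.node (.node (.leaf ([])) (.leaf ([]))) (.leaf ([]))) (.node (.node (.leaf ([])) (.leaf ([]))) (.leaf ([])))) (.node (.node (.node (.leaf ([])) (.leaf ([]))) (.leaf ([]))) (.node (.node (.leaf ([])) (.leaf ([]))) (.leaf ([])))))) (.node (.node (.node (.node (.node (.leaf ([])) (.leaf ([]))) (.leaf ([]))) (.node (.node (.leaf ([])) (.leaf ([]))) (.leaf ([])))) (.node (.node (.node (.leaf ([])) (.leaf ([]))) (.leaf ([]))) (.node (.node (.leaf ([])) (.leaf ([]))) (.leaf ([]))))) (.node (.node (.node (.node (.leaf ([])) (.leaf ([]))) (.leaf ([]))) (.node (.node (.leaf ([])) (.leaf ([]))) (.leaf ([])))) (.node (.node (.node (.leaf ([])) (.leaf ([]))) (.leaf ([]))) (.node (.leaf ([])) (.leaf ([]))))))) (.node (.node (.node (.node (.node (.node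 (.leaf ([])) (.leaf ([]))) (.leaf ([]))) (.node (.node (.leaf ([])) (.leaf ([]))) (.leaf ([])))) (.node (.node (.node (.leaf ([])) (.leaf ([]))) (.leaf ([]))) (.node (.node (.leaf ([])) (.leaf ([]))) (.leaf ([]))))) (.node (.node (.node (.node (.leaf ([])) (.leaf ([]))) (.leaf ([]))) (.node (.node (.leaf ([])) (.leaf ([]))) (.leaf ([])))) (.node (.node (.node (.leaf ([])) (.leaf ([]))) (.leaf ([]))) (.node (.node (.leaf ([])) (.leaf ([]))) (.leaf ([])))))) (.node (.node (.node (.node (.node (.leaf ([])) (.leaf ([]))) (.leaf ([]))) (.node (.node (.leaf ([])) (.leaf ([]))) (.leaf ([])))) (.node (.node (.node (.leaf ([])) (.leaf ([]))) (.leaf ([]))) (.node (.node (.leaf ([])) (.leaf ([]))) (.leaf ([]))))) (.node (.node (.node (.node (.leaf ([])) (.leaf ([]))) (.leaf ([]))) (.node (.node (.leaf ([])) (.leaf ([]))) (.leaf ([])))) (.node (.node (.node (.leaf ([])) (.leaf ([]))) (.leaf ([]))) (.node (.leaf ([])) (.leaf ([]))))))))) (.node (.node (.node (.node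 (.node (.node (.node (.node (.leaf ([])) (.leaf ([]))) (.leaf ([]))) (.node (.node (.leaf ([])) (.leaf ([]))) (.leaf ([])))) (.node (.node (.node (.leaf ([])) (.leaf ([]))) (.leaf ([]))) (.node (.node (.leaf ([])) (.leaf ([]))) (.leaf ([]))))) (.node (.node (.node (.node (.leaf ([])) (.leaf ([]))) (.leaf ([]))) (.node (.node (.leaf ([])) (.leaf ([]))) (.leaf ([])))) (.node (.node (.node (.leaf ([])) (.leaf ([]))) (.leaf ([]))) (.node (.node (.leaf ([])) (.leaf ([]))) (.leaf ([])))))) (.node (.node (.node (.node (.node (.leaf ([])) (.leaf ([]))) (.leaf ([]))) (.node (.node (.leaf ([])) (.leaf ([]))) (.leaf ([])))) (.node (.node (.node (.leaf ([])) (.leaf ([]))) (.leaf ([]))) (.node (.node (.leaf ([])) (.leaf ([]))) (.leaf ([]))))) (.node (.node (.node (.node (.leaf ([])) (.leaf ([]))) (.leaf ([]))) (.node (.node (.leaf ([])) (.leaf ([]))) (.leaf ([])))) (.node (.node (.node (.leaf ([])) (.leaf ([]))) (.leaf ([]))) (.node (.leaf ([])) (.leaf ([])))))))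 (.node (.node (.node (.node (.node (.node (.leaf ([])) (.leaf ([]))) (.leaf ([]))) (.node (.node (.leaf ([])) (.leaf ([]))) (.leaf ([])))) (.node (.node (.node (.leaf ([])) (.leaf ([]))) (.leaf ([]))) (.node (.node (.leaf ([])) (.leaf ([]))) (.leaf ([]))))) (.node (.node (.node (.node (.leaf ([])) (.leaf ([]))) (.leaf ([]))) (.node (.node (.leaf ([])) (.leaf ([]))) (.leaf ([])))) (.node (.node (.node (.leaf ([])) (.leaf ([]))) (.leaf ([]))) (.node (.node (.leaf ([])) (.leaf ([]))) (.leaf ([])))))) (.node (.node (.node (.node (.node (.leaf ([])) (.leaf ([]))) (.leaf ([]))) (.node (.node (.leaf ([])) (.leaf ([]))) (.leaf ([])))) (.node (.node (.node (.leaf ([])) (.leaf ([]))) (.leaf ([]))) (.node (.node (.leaf ([])) (.leaf ([]))) (.leaf ([]))))) (.node (.node (.node (.node (.leaf ([])) (.leaf ([]))) (.leaf ([]))) (.node (.node (.leaf ([])) (.leaf ([]))) (.leaf ([])))) (.node (.node (.node (.leaf ([])) (.leaf ([]))) (.leaf ([]))) (.node (.leaf ([])) (.leaf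 ([])))))))) (.node (.node (.node (.node (.node (.node (.node (.leaf ([])) (.leaf ([]))) (.leaf ([]))) (.node (.node (.leaf ([])) (.leaf ([]))) (.leaf ([])))) (.node (.node (.node (.leaf ([])) (.leaf ([]))) (.leaf ([]))) (.node (.node (.leaf ([])) (.leaf ([]))) (.leaf ([]))))) (.node (.node (.node (.node (.leaf ([])) (.leaf ([]))) (.leaf ([]))) (.node (.node (.leaf ([])) (.leaf ([]))) (.leaf ([])))) (.node (.node (.node (.leaf ([])) (.leaf ([]))) (.leaf ([]))) (.node (.node (.leaf ([])) (.leaf ([]))) (.leaf ([])))))) (.node (.node (.node (.node (.node (.leaf ([])) (.leaf ([]))) (.leaf ([]))) (.node (.node (.leaf ([])) (.leaf ([]))) (.leaf ([])))) (.node (.node (.node (.leaf ([])) (.leaf ([]))) (.leaf ([]))) (.node (.node (.leaf ([])) (.leaf ([]))) (.leaf ([]))))) (.node (.node (.node (.node (.leaf ([])) (.leaf ([]))) (.leaf ([]))) (.node (.node (.leaf ([])) (.leaf ([]))) (.leaf ([])))) (.node (.node (.node (.leaf ([])) (.leaf ([]))) (.leaf ([]))) (.node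 (.leaf ([])) (.leaf ([]))))))) (.node (.node (.node (.node (.node (.node (.leaf ([])) (.leaf ([]))) (.leaf ([]))) (.node (.node (.leaf ([])) (.leaf ([]))) (.leaf ([])))) (.node (.node (.node (.leaf ([])) (.leaf ([]))) (.leaf ([]))) (.node (.node (.leaf ([])) (.leaf ([]))) (.leaf ([]))))) (.node (.node (.node (.node (.leaf ([])) (.leaf ([]))) (.leaf ([]))) (.node (.node (.leaf ([])) (.leaf ([]))) (.leaf ([])))) (.node (.node (.node (.leaf ([])) (.leaf ([]))) (.leaf ([]))) (.node (.leaf ([])) (.leaf ([])))))) (.node (.node (.node (.node (.node (.leaf ([])) (.leaf ([]))) (.leaf ([]))) (.node (.node (.leaf ([])) (.leaf ([]))) (.leaf ([])))) (.node (.node (.node (.leaf ([])) (.leaf ([]))) (.leaf ([]))) (.node (.node (.leaf ([])) (.leaf ([]))) (.leaf ([]))))) (.node (.node (.node (.node (.leaf ([])) (.leaf ([]))) (.leaf ([]))) (.node (.node (.leaf ([])) (.leaf ([]))) (.leaf ([])))) (.node (.node (.node (.leaf ([])) (.leaf ([]))) (.leaf ([]))) (.node (.leaf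 ([])) (.leaf ([]))))))))))) (.node (.node (.node (.node (.node (.node (.node (.node (.node (.node (.leaf ([])) (.leaf ([]))) (.leaf ([]))) (.node (.node (.leaf ([])) (.leaf ([]))) (.leaf ([])))) (.node (.node (.node (.leaf ([])) (.leaf ([]))) (.leaf ([]))) (.node (.node (.leaf ([])) (.leaf ([]))) (.leaf ([]))))) (.node (.node (.node (.node (.leaf ([])) (.leaf ([]))) (.leaf ([]))) (.node (.node (.leaf ([])) (.leaf ([]))) (.leaf ([])))) (.node (.node (.node (.leaf ([])) (.leaf ([]))) (.leaf ([]))) (.node (.node (.leaf ([])) (.leaf ([]))) (.leaf ([])))))) (.node (.node (.node (.node (.node (.leaf ([])) (.leaf ([]))) (.leaf ([]))) (.node (.node (.leaf ([])) (.leaf ([]))) (.leaf ([])))) (.node (.node (.node (.leaf ([])) (.leaf ([]))) (.leaf ([]))) (.node (.node (.leaf ([])) (.leaf ([]))) (.leaf ([]))))) (.node (.node (.node (.node (.leaf ([])) (.leaf ([]))) (.leaf ([]))) (.node (.node (.leaf ([])) (.leaf ([]))) (.leaf ([])))) (.node (.node (.node (.leaf ([]))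 (.leaf ([]))) (.leaf ([]))) (.node (.leaf ([])) (.leaf ([]))))))) (.node (.node (.node (.node (.node (.node (.leaf ([])) (.leaf ([]))) (.leaf ([]))) (.node (.node (.leaf ([])) (.leaf ([]))) (.leaf ([])))) (.node (.node (.node (.leaf ([])) (.leaf ([]))) (.leaf ([]))) (.node (.node (.leaf ([])) (.leaf ([]))) (.leaf ([]))))) (.node (.node (.node (.node (.leaf ([])) (.leaf ([]))) (.leaf ([]))) (.node (.node (.leaf ([])) (.leaf ([]))) (.leaf ([])))) (.node (.node (.node (.leaf ([])) (.leaf ([]))) (.leaf ([]))) (.node (.node (.leaf ([])) (.leaf ([]))) (.leaf ([])))))) (.node (.node (.node (.node (.node (.leaf ([])) (.leaf ([]))) (.leaf ([]))) (.node (.node (.leaf ([])) (.leaf ([]))) (.leaf ([])))) (.node (.node (.node (.leaf ([])) (.leaf ([]))) (.leaf ([]))) (.node (.node (.leaf ([])) (.leaf ([]))) (.leaf ([]))))) (.node (.node (.node (.node (.leaf ([])) (.leaf ([]))) (.leaf ([]))) (.node (.node (.leaf ([])) (.leaf ([]))) (.leaf ([])))) (.node (.node (.node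 (.leaf ([])) (.leaf ([]))) (.leaf ([]))) (.node (.leaf ([])) (.leaf ([])))))))) (.node (.node (.node (.node (.node (.node (.node (.leaf ([])) (.leaf ([]))) (.leaf ([]))) (.node (.node (.leaf ([])) (.leaf ([]))) (.leaf ([])))) (.node (.node (.node (.leaf ([])) (.leaf ([]))) (.leaf ([]))) (.node (.node (.leaf ([])) (.leaf ([]))) (.leaf ([]))))) (.node (.node (.node (.node (.leaf ([])) (.leaf ([]))) (.leaf ([]))) (.node (.node (.leaf ([])) (.leaf ([]))) (.leaf ([])))) (.node (.node (.node (.leaf ([])) (.leaf ([]))) (.leaf ([]))) (.node (.node (.leaf ([])) (.leaf ([]))) (.leaf ([])))))) (.node (.node (.node (.node (.node (.leaf ([])) (.leaf ([]))) (.leaf ([]))) (.node (.node (.leaf ([])) (.leaf ([]))) (.leaf ([])))) (.node (.node (.node (.leaf ([])) (.leaf ([]))) (.leaf ([]))) (.node (.node (.leaf ([])) (.leaf ([]))) (.leaf ([]))))) (.node (.node (.node (.node (.leaf ([])) (.leaf ([]))) (.leaf ([]))) (.node (.node (.leaf ([])) (.leaf ([]))) (.leaf ([]))))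 (.node (.node (.node (.leaf ([])) (.leaf ([]))) (.leaf ([]))) (.node (.leaf ([])) (.leaf ([]))))))) (.node (.node (.node (.node (.node (.node (.leaf ([])) (.leaf ([]))) (.leaf ([]))) (.node (.node (.leaf ([])) (.leaf ([]))) (.leaf ([])))) (.node (.node (.node (.leaf ([])) (.leaf ([]))) (.leaf ([]))) (.node (.node (.leaf ([])) (.leaf ([]))) (.leaf ([]))))) (.node (.node (.node (.node (.leaf ([])) (.leaf ([]))) (.leaf ([]))) (.node (.node (.leaf ([])) (.leaf ([]))) (.leaf ([])))) (.node (.node (.node (.leaf ([])) (.leaf ([]))) (.leaf ([]))) (.node (.node (.leaf ([])) (.leaf ([]))) (.leaf ([])))))) (.node (.node (.node (.node (.node (.leaf ([])) (.leaf ([]))) (.leaf ([]))) (.node (.node (.leaf ([])) (.leaf ([]))) (.leaf ([])))) (.node (.node (.node (.leaf ([])) (.leaf ([]))) (.leaf ([]))) (.node (.node (.leaf ([])) (.leaf ([]))) (.leaf ([]))))) (.node (.node (.node (.node (.leaf ([])) (.leaf ([]))) (.leaf ([]))) (.node (.node (.leaf ([])) (.leaf ([])))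 (.leaf ([])))) (.node (.node (.node (.leaf ([])) (.leaf ([]))) (.leaf ([]))) (.node (.leaf ([])) (.leaf ([]))))))))) (.node (.node (.node (.node (.node (.node (.node (.node (.leaf ([])) (.leaf ([]))) (.leaf ([]))) (.node (.node (.leaf ([])) (.leaf ([]))) (.leaf ([])))) (.node (.node (.node (.leaf ([])) (.leaf ([]))) (.leaf ([]))) (.node (.node (.leaf ([])) (.leaf ([]))) (.leaf ([]))))) (.node (.node (.node (.node (.leaf ([])) (.leaf ([]))) (.leaf ([]))) (.node (.node (.leaf ([])) (.leaf ([]))) (.leaf ([])))) (.node (.node (.node (.leaf ([])) (.leaf ([]))) (.leaf ([]))) (.node (.node (.leaf ([])) (.leaf ([]))) (.leaf ([])))))) (.node (.node (.node (.node (.node (.leaf ([])) (.leaf ([]))) (.leaf ([]))) (.node (.node (.leaf ([])) (.leaf ([]))) (.leaf ([])))) (.node (.node (.node (.leaf ([])) (.leaf ([]))) (.leaf ([]))) (.node (.node (.leaf ([])) (.leaf ([]))) (.leaf ([]))))) (.node (.node (.node (.node (.leaf ([])) (.leaf ([]))) (.leaf ([]))) (.node (.node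 (.leaf ([])) (.leaf ([]))) (.leaf ([])))) (.node (.node (.node (.leaf ([])) (.leaf ([]))) (.leaf ([]))) (.node (.leaf ([])) (.leaf ([]))))))) (.node (.node (.node (.node (.node (.node (.leaf ([])) (.leaf ([]))) (.leaf ([]))) (.node (.node (.leaf ([])) (.leaf ([]))) (.leaf ([])))) (.node (.node (.node (.leaf ([])) (.leaf ([]))) (.leaf ([]))) (.node (.node (.leaf ([])) (.leaf ([]))) (.leaf ([]))))) (.node (.node (.node (.node (.leaf ([])) (.leaf ([]))) (.leaf ([]))) (.node (.node (.leaf ([])) (.leaf ([]))) (.leaf ([])))) (.node (.node (.node (.leaf ([])) (.leaf ([]))) (.leaf ([]))) (.node (.node (.leaf ([])) (.leaf ([]))) (.leaf ([])))))) (.node (.node (.node (.node (.node (.leaf ([])) (.leaf ([]))) (.leaf ([]))) (.node (.node (.leaf ([])) (.leaf ([]))) (.leaf ([])))) (.node (.node (.node (.leaf ([])) (.leaf ([]))) (.leaf ([]))) (.node (.node (.leaf ([])) (.leaf ([]))) (.leaf ([]))))) (.node (.node (.node (.node (.leaf ([])) (.leaf ([]))) (.leaf ([])))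 (.node (.node (.leaf ([])) (.leaf ([]))) (.leaf ([])))) (.node (.node (.node (.leaf ([])) (.leaf ([]))) (.leaf ([]))) (.node (.leaf ([])) (.leaf ([])))))))) (.node (.node (.node (.node (.node (.node (.node (.leaf ([])) (.leaf ([]))) (.leaf ([]))) (.node (.node (.leaf ([])) (.leaf ([]))) (.leaf ([])))) (.node (.node (.node (.leaf ([])) (.leaf ([]))) (.leaf ([]))) (.node (.node (.leaf ([])) (.leaf ([]))) (.leaf ([]))))) (.node (.node (.node (.node (.leaf ([])) (.leaf ([]))) (.leaf ([]))) (.node (.node (.leaf ([])) (.leaf ([]))) (.leaf ([])))) (.node (.node (.node (.leaf ([])) (.leaf ([]))) (.leaf ([]))) (.node (.node (.leaf ([])) (.leaf ([]))) (.leaf ([])))))) (.node (.node (.node (.node (.node (.leaf ([])) (.leaf ([]))) (.leaf ([]))) (.node (.node (.leaf ([])) (.leaf ([]))) (.leaf ([])))) (.node (.node (.node (.leaf ([])) (.leaf ([]))) (.leaf ([]))) (.node (.node (.leaf ([])) (.leaf ([]))) (.leaf ([]))))) (.node (.node (.node (.node (.leaf ([])) (.leaf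 ([]))) (.leaf ([]))) (.node (.node (.leaf ([])) (.leaf ([]))) (.leaf ([])))) (.node (.node (.node (.leaf ([])) (.leaf ([]))) (.leaf ([]))) (.node (.leaf ([])) (.leaf ([]))))))) (.node (.node (.node (.node (.node (.node (.leaf ([])) (.leaf ([]))) (.leaf ([]))) (.node (.node (.leaf ([])) (.leaf ([]))) (.leaf ([])))) (.node (.node (.node (.leaf ([])) (.leaf ([]))) (.leaf ([]))) (.node (.node (.leaf ([])) (.leaf ([]))) (.leaf ([]))))) (.node (.node (.node (.node (.leaf ([])) (.leaf ([]))) (.leaf ([]))) (.node (.node (.leaf ([])) (.leaf ([]))) (.leaf ([])))) (.node (.node (.node (.leaf ([])) (.leaf ([]))) (.leaf ([]))) (.node (.leaf ([])) (.leaf ([])))))) (.node (.node (.node (.node (.node (.leaf ([])) (.leaf ([]))) (.leaf ([]))) (.node (.node (.leaf ([])) (.leaf ([]))) (.leaf ([])))) (.node (.node (.node (.leaf ([])) (.leaf ([]))) (.leaf ([]))) (.node (.node (.leaf ([])) (.leaf ([]))) (.leaf ([]))))) (.node (.node (.node (.node (.leaf ([])) (.leaf ([])))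 (.leaf ([]))) (.node (.node (.leaf ([])) (.leaf ([]))) (.leaf ([])))) (.node (.node (.node (.leaf ([])) (.leaf ([]))) (.leaf ([]))) (.node (.leaf ([])) (.leaf ([])))))))))) (.node (.node (.node (.node (.node (.node (.node (.node (.node (.leaf ([])) (.leaf ([]))) (.leaf ([]))) (.node (.node (.leaf ([])) (.leaf ([]))) (.leaf ([])))) (.node (.node (.node (.leaf ([])) (.leaf ([]))) (.leaf ([]))) (.node (.node (.leaf ([])) (.leaf ([]))) (.leaf ([]))))) (.node (.node (.node (.node (.leaf ([])) (.leaf ([]))) (.leaf ([]))) (.node (.node (.leaf ([])) (.leaf ([]))) (.leaf ([])))) (.node (.node (.node (.leaf ([])) (.leaf ([]))) (.leaf ([]))) (.node (.node (.leaf ([])) (.leaf ([]))) (.leaf ([])))))) (.node (.node (.node (.node (.node (.leaf ([])) (.leaf ([]))) (.leaf ([]))) (.node (.node (.leaf ([])) (.leaf ([]))) (.leaf ([])))) (.node (.node (.node (.leaf ([])) (.leaf ([]))) (.leaf ([]))) (.node (.node (.leaf ([])) (.leaf ([]))) (.leaf ([]))))) (.node (.node (.node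 (.node (.leaf ([])) (.leaf ([]))) (.leaf ([]))) (.node (.node (.leaf ([])) (.leaf ([]))) (.leaf ([])))) (.node (.node (.node (.leaf ([])) (.leaf ([]))) (.leaf ([]))) (.node (.leaf ([])) (.leaf ([]))))))) (.node (.node (.node (.node (.node (.node (.leaf ([])) (.leaf ([]))) (.leaf ([]))) (.node (.node (.leaf ([])) (.leaf ([]))) (.leaf ([])))) (.node (.node (.node (.leaf ([])) (.leaf ([]))) (.leaf ([]))) (.node (.node (.leaf ([])) (.leaf ([]))) (.leaf ([]))))) (.node (.node (.node (.node (.leaf ([])) (.leaf ([]))) (.leaf ([]))) (.node (.node (.leaf ([])) (.leaf ([]))) (.leaf ([])))) (.node (.node (.node (.leaf ([])) (.leaf ([]))) (.leaf ([]))) (.node (.node (.leaf ([])) (.leaf ([]))) (.leaf ([])))))) (.node (.node (.node (.node (.node (.leaf ([])) (.leaf ([]))) (.leaf ([]))) (.node (.node (.leaf ([])) (.leaf ([]))) (.leaf ([])))) (.node (.node (.node (.leaf ([])) (.leaf ([]))) (.leaf ([]))) (.node (.node (.leaf ([])) (.leaf ([]))) (.leaf ([]))))) (.node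 (.node (.node (.node (.leaf ([])) (.leaf ([]))) (.leaf ([]))) (.node (.node (.leaf ([])) (.leaf ([]))) (.leaf ([])))) (.node (.node (.node (.leaf ([])) (.leaf ([]))) (.leaf ([]))) (.node (.leaf ([])) (.leaf ([])))))))) (.node (.node (.node (.node (.node (.node (.node (.leaf ([])) (.leaf ([]))) (.leaf ([]))) (.node (.node (.leaf ([])) (.leaf ([]))) (.leaf ([])))) (.node (.node (.node (.leaf ([])) (.leaf ([]))) (.leaf ([]))) (.node (.node (.leaf ([])) (.leaf ([]))) (.leaf ([]))))) (.node (.node (.node (.node (.leaf ([])) (.leaf ([]))) (.leaf ([]))) (.node (.node (.leaf ([])) (.leaf ([]))) (.leaf ([])))) (.node (.node (.node (.leaf ([])) (.leaf ([]))) (.leaf ([]))) (.node (.node (.leaf ([])) (.leaf ([]))) (.leaf ([])))))) (.node (.node (.node (.node (.node (.leaf ([])) (.leaf ([]))) (.leaf ([]))) (.node (.node (.leaf ([])) (.leaf ([]))) (.leaf ([])))) (.node (.node (.node (.leaf ([])) (.leaf ([]))) (.leaf ([]))) (.node (.node (.leaf ([])) (.leaf ([])))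 (.leaf ([]))))) (.node (.node (.node (.node (.leaf ([])) (.leaf ([]))) (.leaf ([]))) (.node (.node (.leaf ([])) (.leaf ([]))) (.leaf ([])))) (.node (.node (.node (.leaf ([])) (.leaf ([]))) (.leaf ([]))) (.node (.leaf ([])) (.leaf ([]))))))) (.node (.node (.node (.node (.node (.node (.leaf ([])) (.leaf ([]))) (.leaf ([]))) (.node (.node (.leaf ([])) (.leaf ([]))) (.leaf ([])))) (.node (.node (.node (.leaf ([])) (.leaf ([]))) (.leaf ([]))) (.node (.node (.leaf ([])) (.leaf ([]))) (.leaf ([]))))) (.node (.node (.node (.node (.leaf ([])) (.leaf ([]))) (.leaf ([]))) (.node (.node (.leaf ([])) (.leaf ([]))) (.leaf ([])))) (.node (.node (.node (.leaf ([])) (.leaf ([]))) (.leaf ([]))) (.node (.node (.leaf ([])) (.leaf ([]))) (.leaf ([])))))) (.node (.node (.node (.node (.node (.leaf ([])) (.leaf ([]))) (.leaf ([]))) (.node (.node (.leaf ([])) (.leaf ([]))) (.leaf ([])))) (.node (.node (.node (.leaf ([])) (.leaf ([]))) (.leaf ([]))) (.node (.node (.leaf ([]))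 (.leaf ([]))) (.leaf ([]))))) (.node (.node (.node (.node (.leaf ([])) (.leaf ([]))) (.leaf ([]))) (.node (.node (.leaf ([])) (.leaf ([]))) (.leaf ([])))) (.node (.node (.node (.leaf ([])) (.leaf ([]))) (.leaf ([]))) (.node (.leaf ([])) (.leaf ([]))))))))) (.node (.node (.node (.node (.node (.node (.node (.node (.leaf ([])) (.leaf ([]))) (.leaf ([]))) (.node (.node (.leaf ([])) (.leaf ([]))) (.leaf ([])))) (.node (.node (.node (.leaf ([])) (.leaf ([]))) (.leaf ([]))) (.node (.node (.leaf ([])) (.leaf ([]))) (.leaf ([]))))) (.node (.node (.node (.node (.leaf ([])) (.leaf ([]))) (.leaf ([]))) (.node (.node (.leaf ([])) (.leaf ([]))) (.leaf ([])))) (.node (.node (.node (.leaf ([])) (.leaf ([]))) (.leaf ([]))) (.node (.node (.leaf ([])) (.leaf ([]))) (.leaf ([])))))) (.node (.node (.node (.node (.node (.leaf ([])) (.leaf ([]))) (.leaf ([]))) (.node (.node (.leaf ([])) (.leaf ([]))) (.leaf ([])))) (.node (.node (.node (.leaf ([])) (.leaf ([]))) (.leaf ([])))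 (.node (.node (.leaf ([])) (.leaf ([]))) (.leaf ([]))))) (.node (.node (.node (.node (.leaf ([])) (.leaf ([]))) (.leaf ([]))) (.node (.node (.leaf ([])) (.leaf ([]))) (.leaf ([])))) (.node (.node (.node (.leaf ([])) (.leaf ([]))) (.leaf ([]))) (.node (.leaf ([])) (.leaf ([]))))))) (.node (.node (.node (.node (.node (.node (.leaf ([])) (.leaf ([]))) (.leaf ([]))) (.node (.node (.leaf ([])) (.leaf ([]))) (.leaf ([])))) (.node (.node (.node (.leaf ([])) (.leaf ([]))) (.leaf ([]))) (.node (.node (.leaf ([])) (.leaf ([]))) (.leaf ([]))))) (.node (.node (.node (.node (.leaf ([])) (.leaf ([]))) (.leaf ([]))) (.node (.node (.leaf ([])) (.leaf ([]))) (.leaf ([])))) (.node (.node (.node (.leaf ([])) (.leaf ([]))) (.leaf ([]))) (.node (.node (.leaf ([])) (.leaf ([]))) (.leaf ([])))))) (.node (.node (.node (.node (.node (.leaf ([])) (.leaf ([]))) (.leaf ([]))) (.node (.node (.leaf ([])) (.leaf ([]))) (.leaf ([])))) (.node (.node (.node (.leaf ([])) (.leaf ([])))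 (.leaf ([]))) (.node (.node (.leaf ([])) (.leaf ([]))) (.leaf ([]))))) (.node (.node (.node (.node (.leaf ([])) (.leaf ([]))) (.leaf ([]))) (.node (.node (.leaf ([])) (.leaf ([]))) (.leaf ([])))) (.node (.node (.node (.leaf ([])) (.leaf ([]))) (.leaf ([]))) (.node (.leaf ([])) (.leaf ([])))))))) (.node (.node (.node (.node (.node (.node (.node (.leaf ([])) (.leaf ([]))) (.leaf ([]))) (.node (.node (.leaf ([])) (.leaf ([]))) (.leaf ([])))) (.node (.node (.node (.leaf ([])) (.leaf ([]))) (.leaf ([]))) (.node (.node (.leaf ([])) (.leaf ([]))) (.leaf ([]))))) (.node (.node (.node (.node (.leaf ([])) (.leaf ([]))) (.leaf ([]))) (.node (.node (.leaf ([])) (.leaf ([]))) (.leaf ([])))) (.node (.node (.node (.leaf ([])) (.leaf ([]))) (.leaf ([]))) (.node (.node (.leaf ([])) (.leaf ([]))) (.leaf ([])))))) (.node (.node (.node (.node (.node (.leaf ([])) (.leaf ([]))) (.leaf ([]))) (.node (.node (.leaf ([])) (.leaf ([]))) (.leaf ([])))) (.node (.node (.node (.leaf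 ([])) (.leaf ([]))) (.leaf ([]))) (.node (.node (.leaf ([])) (.leaf ([]))) (.leaf ([]))))) (.node (.node (.node (.node (.leaf ([])) (.leaf ([]))) (.leaf ([]))) (.node (.node (.leaf ([])) (.leaf ([]))) (.leaf ([])))) (.node (.node (.node (.leaf ([])) (.leaf ([]))) (.leaf ([]))) (.node (.leaf ([])) (.leaf ([]))))))) (.node (.node (.node (.node (.node (.node (.leaf ([])) (.leaf ([]))) (.leaf ([]))) (.node (.node (.leaf ([])) (.leaf ([]))) (.leaf ([])))) (.node (.node (.node (.leaf ([])) (.leaf ([]))) (.leaf ([]))) (.node (.node (.leaf ([])) (.leaf ([]))) (.leaf ([]))))) (.node (.node (.node (.node (.leaf ([])) (.leaf ([]))) (.leaf ([]))) (.node (.node (.leaf ([])) (.leaf ([]))) (.leaf ([])))) (.node (.node (.node (.leaf ([])) (.leaf ([]))) (.leaf ([]))) (.node (.leaf ([])) (.leaf ([])))))) (.node (.node (.node (.node (.node (.leaf ([])) (.leaf ([]))) (.leaf ([]))) (.node (.node (.leaf ([])) (.leaf ([]))) (.leaf ([])))) (.node (.node (.node (.leaf ([]))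 (.leaf ([]))) (.leaf ([]))) (.node (.node (.leaf ([])) (.leaf ([]))) (.leaf ([]))))) (.node (.node (.node (.node (.leaf ([])) (.leaf ([]))) (.leaf ([]))) (.node (.node (.leaf ([])) (.leaf ([]))) (.leaf ([])))) (.node (.node (.node (.leaf ([])) (.leaf ([]))) (.leaf ([]))) (.node (.leaf ([])) (.leaf ([]))))))))))))

/-- data -/
def val0 : Trie (Vec) := .node (.node (.node (.node (.node (.node (.node (.node (.node (.node (.node (.node (.leaf ([])) (.leaf ([]))) (.leaf ([]))) (.node (.node (.leaf ([])) (.leaf ([2, (-1), 2]))) (.leaf ([1])))) (.node (.node (.node (.leaf ([])) (.leaf ([]))) (.leaf ([(-1), 1, (-2)]))) (.node (.node (.leaf ([])) (.leaf ([(-3), 2, (-2), (-3)]))) (.leaf ([]))))) (.node (.node (.node (.node (.leaf ([])) (.leaf ([2, (-1), 2]))) (.leaf ([]))) (.node (.node (.leaf ([])) (.leaf ([(-11), 11, (-21), (-1)]))) (.leaf ([0, 0, 1, (-1)])))) (.node (.node (.node (.leaf ([])) (.leaf ([1]))) (.leaf ([]))) (.node (.node (.leaf ([])) (.leaf ([(-1),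 0, 1, (-3)]))) (.leaf ([])))))) (.node (.node (.node (.node (.node (.leaf ([])) (.leaf ([2, 1, (-5), 5]))) (.leaf ([]))) (.node (.node (.leaf ([])) (.leaf ([0, 0, 0, (-1)]))) (.leaf ([(-1), 1, (-2), (-1)])))) (.node (.node (.node (.leaf ([0, 0, 1, (-1)])) (.leaf ([1, (-1), 2]))) (.leaf ([1, (-1), 2, (-1)]))) (.node (.node (.leaf ([])) (.leaf ([]))) (.leaf ([]))))) (.node (.node (.node (.node (.leaf ([])) (.leaf ([1, 1, (-3), 2]))) (.leaf ([]))) (.node (.node (.leaf ([])) (.leaf ([1, (-2), 5, (-2)]))) (.leaf ([])))) (.node (.node (.node (.leaf ([])) (.leaf ([(-1), 1, (-1), (-1)]))) (.leaf ([0, 0, 1, (-1)]))) (.node (.leaf ([])) (.leaf ([4, (-7), 18, (-7)]))))))) (.node (.node (.node (.node (.node (.node (.leaf ([])) (.leaf ([0, 2, (-7), 3]))) (.leaf ([]))) (.node (.node (.leaf ([])) (.leaf ([(-9), 4, (-3), (-10)]))) (.leaf ([2, 1, (-5), 5])))) (.node (.node (.node (.leaf ([])) (.leaf ([1]))) (.leaf ([1]))) (.node (.node (.leaf ([])) (.leaf ([(-1), 1,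 (-1), (-1)]))) (.leaf ([1]))))) (.node (.node (.node (.node (.leaf ([])) (.leaf ([3, 0, (-3), 5]))) (.leaf ([]))) (.node (.node (.leaf ([])) (.leaf ([14, (-3), (-4), 21]))) (.leaf ([1])))) (.node (.node (.node (.leaf ([])) (.leaf ([(-1), 2, (-3)]))) (.leaf ([1, 0, (-1), 2]))) (.node (.node (.leaf ([0, 0, 1, (-1)])) (.leaf ([(-2), 1, (-1), (-2)]))) (.leaf ([1])))))) (.node (.node (.node (.node (.node (.leaf ([])) (.leaf ([]))) (.leaf ([0, 1, (-2), 1]))) (.node (.node (.leaf ([])) (.leaf ([]))) (.leaf ([2, 0, 0, 2])))) (.node (.node (.node (.leaf ([])) (.leaf ([(-7), 4, (-4), (-7)]))) (.leaf ([]))) (.node (.node (.leaf ([2, (-1), 0, 1])) (.leaf ([]))) (.leaf ([]))))) (.node (.node (.node (.node (.leaf ([0, (-1), 3, (-2)])) (.leaf ([]))) (.leaf ([]))) (.node (.node (.leaf ([])) (.leaf ([(-2), 0, 2, (-5)]))) (.leaf ([1])))) (.node (.node (.node (.leaf ([])) (.leaf ([1, (-2), 5, (-2)]))) (.leaf ([]))) (.node (.leaf ([])) (.leaf ([1])))))))) (.node (.node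 (.node (.node (.node (.node (.node (.leaf ([])) (.leaf ([1]))) (.leaf ([]))) (.node (.node (.leaf ([])) (.leaf ([(-1), 0, 1, (-3)]))) (.leaf ([])))) (.node (.node (.node (.leaf ([(-1), 1, (-2)])) (.leaf ([0, 0, 0, (-1)]))) (.leaf ([]))) (.node (.node (.leaf ([])) (.leaf ([9, (-8), 14, 1]))) (.leaf ([0, 1, (-2), 1]))))) (.node (.node (.node (.node (.leaf ([])) (.leaf ([]))) (.leaf ([]))) (.node (.node (.leaf ([1])) (.leaf ([5, (-3), 5, 3]))) (.leaf ([7, (-4), 4, 5])))) (.node (.node (.node (.leaf ([1])) (.leaf ([0, (-1), 4, (-3)]))) (.leaf ([1, (-1), 2]))) (.node (.node (.leaf ([])) (.leaf ([0, 4, (-11), 6]))) (.leaf ([2, (-3), 7, (-2)])))))) (.node (.node (.node (.node (.node (.leaf ([])) (.leaf ([]))) (.leaf ([2, (-1), 2]))) (.node (.node (.leaf ([])) (.leaf ([5, 1, (-8), 11]))) (.leaf ([])))) (.node (.node (.node (.leaf ([])) (.leaf ([(-1), 0, 1, (-2)]))) (.leaf ([(-2), 1, (-1), (-2)]))) (.node (.node (.leaf ([1])) (.leaf ([1, (-1), 2, (-1)]))) (.leaf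 ([1]))))) (.node (.node (.node (.node (.leaf ([])) (.leaf ([]))) (.leaf ([0, 0, 1, (-1)]))) (.node (.node (.leaf ([])) (.leaf ([2, (-3), 7, (-3)]))) (.leaf ([1, (-1), 2, (-1)])))) (.node (.node (.node (.leaf ([1])) (.leaf ([1, (-1), 2]))) (.leaf ([1]))) (.node (.leaf ([1])) (.leaf ([4, (-5), 11, (-2)]))))))) (.node (.node (.node (.node (.node (.node (.leaf ([])) (.leaf ([]))) (.leaf ([]))) (.node (.node (.leaf ([])) (.leaf ([(-6), 4, (-5), (-5)]))) (.leaf ([])))) (.node (.node (.node (.leaf ([])) (.leaf ([8, (-4), 4, 7]))) (.leaf ([1]))) (.node (.node (.leaf ([])) (.leaf ([5, (-3), 5, 2]))) (.leaf ([0, (-1), 3, (-2)]))))) (.node (.node (.node (.node (.leaf ([])) (.leaf ([]))) (.leaf ([1, (-1), 2, (-1)]))) (.node (.node (.leaf ([])) (.leaf ([1, 0, (-1), 2]))) (.leaf ([])))) (.node (.node (.node (.leaf ([])) (.leaf ([2, (-4), 10, (-4)]))) (.leaf ([0, (-1), 3, (-2)]))) (.node (.node (.leaf ([])) (.leaf ([(-1), 1, (-1), (-2)]))) (.leaf ([2, 0, (-3), 4]))))))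 (.node (.node (.node (.node (.node (.leaf ([])) (.leaf ([2, 0, (-1), 3]))) (.leaf ([(-2), 1, 0, (-3)]))) (.node (.node (.leaf ([2, (-1), 0, 1])) (.leaf ([0, 0, 0, (-1)]))) (.leaf ([])))) (.node (.node (.node (.leaf ([])) (.leaf ([1]))) (.leaf ([(-1), 0, 1, (-2)]))) (.node (.node (.leaf ([])) (.leaf ([(-6), 3, (-3), (-6)]))) (.leaf ([]))))) (.node (.node (.node (.node (.leaf ([])) (.leaf ([1]))) (.leaf ([]))) (.node (.node (.leaf ([])) (.leaf ([(-22), 10, (-8), (-24)]))) (.leaf ([2, (-1), 3, 1])))) (.node (.node (.node (.leaf ([])) (.leaf ([10, (-10), 20, (-1)]))) (.leaf ([1]))) (.node (.leaf ([])) (.leaf ([(-4), 3, (-4), (-2)]))))))))) (.node (.node (.node (.node (.node (.node (.node (.node (.leaf ([])) (.leaf ([]))) (.leaf ([]))) (.node (.node (.leaf ([])) (.leaf ([6, (-1), (-2), 9]))) (.leaf ([])))) (.node (.node (.node (.leaf ([])) (.leaf ([]))) (.leaf ([1]))) (.node (.node (.leaf ([])) (.leaf ([7, (-3), 3, 8]))) (.leaf ([]))))) (.node (.node (.node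 (.node (.leaf ([])) (.leaf ([]))) (.leaf ([]))) (.node (.node (.leaf ([])) (.leaf ([(-1), 0, 2, (-2)]))) (.leaf ([])))) (.node (.node (.node (.leaf ([2, (-1), 0, 1])) (.leaf ([0, 1, (-2), 1]))) (.leaf ([]))) (.node (.node (.leaf ([])) (.leaf ([(-9), 9, (-17), (-1)]))) (.leaf ([])))))) (.node (.node (.node (.node (.node (.leaf ([])) (.leaf ([]))) (.leaf ([]))) (.node (.node (.leaf ([])) (.leaf ([2, 0, (-1), 2]))) (.leaf ([1, 0, (-2), 1])))) (.node (.node (.node (.leaf ([])) (.leaf ([2, (-1), 0, 1]))) (.leaf ([]))) (.node (.node (.leaf ([])) (.leaf ([2, (-1), 2]))) (.leaf ([]))))) (.node (.node (.node (.node (.leaf ([])) (.leaf ([(-1), 0, 1, (-2)]))) (.leaf ([]))) (.node (.node (.leaf ([])) (.leaf ([3, 0, (-4), 5]))) (.leaf ([2, (-1), 2])))) (.node (.node (.node (.leaf ([])) (.leaf ([(-1), (-1), 6, (-5)]))) (.leaf ([2, (-2), 4]))) (.node (.leaf ([])) (.leaf ([(-1), 0, 1, (-2)]))))))) (.node (.node (.node (.node (.node (.node (.leaf ([])) (.leaf ([1])))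 (.leaf ([0, 0, 1, (-2)]))) (.node (.node (.leaf ([])) (.leaf ([1]))) (.leaf ([])))) (.node (.node (.node (.leaf ([])) (.leaf ([]))) (.leaf ([3, (-3), 6, (-1)]))) (.node (.node (.leaf ([])) (.leaf ([4, (-5), 12, (-4)]))) (.leaf ([1]))))) (.node (.node (.node (.node (.leaf ([])) (.leaf ([]))) (.leaf ([]))) (.node (.node (.leaf ([1, (-1), 2, (-1)])) (.leaf ([(-2), 1, 0, (-3)]))) (.leaf ([])))) (.node (.node (.node (.leaf ([1])) (.leaf ([]))) (.leaf ([1, 1, (-5), 4]))) (.node (.node (.leaf ([])) (.leaf ([3, (-2), 3, 2]))) (.leaf ([(-3), 2, (-3), (-2)])))))) (.node (.node (.node (.node (.node (.leaf ([])) (.leaf ([(-1), 0, 2, (-3)]))) (.leaf ([]))) (.node (.node (.leaf ([])) (.leaf ([0, 0, 1, (-1)]))) (.leaf ([3, (-2), 2, 2])))) (.node (.node (.node (.leaf ([])) (.leaf ([(-3), 1, 1, (-5)]))) (.leaf ([]))) (.node (.node (.leaf ([])) (.leaf ([]))) (.leaf ([14, (-8), 9, 12]))))) (.node (.node (.node (.node (.leaf ([])) (.leaf ([1]))) (.leaf ([]))) (.node (.node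 (.leaf ([])) (.leaf ([(-3), 2, (-3), (-3)]))) (.leaf ([])))) (.node (.node (.node (.leaf ([])) (.leaf ([(-2), 0, 2, (-4)]))) (.leaf ([]))) (.node (.leaf ([])) (.leaf ([])))))))) (.node (.node (.node (.node (.node (.node (.node (.leaf ([])) (.leaf ([(-1), 1, 0, (-1)]))) (.leaf ([(-1), 0, 1, (-3)]))) (.node (.node (.leaf ([1, (-1), 2])) (.leaf ([(-1), 2, (-5), 1]))) (.leaf ([])))) (.node (.node (.node (.leaf ([])) (.leaf ([(-7), 6, (-10), (-3)]))) (.leaf ([]))) (.node (.node (.leaf ([0, 1, (-2), 1])) (.leaf ([]))) (.leaf ([]))))) (.node (.node (.node (.node (.leaf ([])) (.leaf ([(-1), 1, (-1), (-1)]))) (.leaf ([3, (-2), 2, 1]))) (.node (.node (.leaf ([])) (.leaf ([(-2), 0, 4, (-5)]))) (.leaf ([])))) (.node (.node (.node (.leaf ([])) (.leaf ([5, (-1), (-2), 8]))) (.leaf ([(-2), 0, 2, (-4)]))) (.node (.node (.leaf ([])) (.leaf ([]))) (.leaf ([1, 0, (-1), 2])))))) (.node (.node (.node (.node (.node (.leaf ([])) (.leaf ([]))) (.leaf ([1]))) (.node (.node (.leaf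 ([])) (.leaf ([8, (-5), 8, 4]))) (.leaf ([])))) (.node (.node (.node (.leaf ([])) (.leaf ([2, 0, (-1), 2]))) (.leaf ([]))) (.node (.node (.leaf ([])) (.leaf ([4, (-2), 3, 2]))) (.leaf ([4, (-3), 5, 2]))))) (.node (.node (.node (.node (.leaf ([])) (.leaf ([1]))) (.leaf ([]))) (.node (.node (.leaf ([])) (.leaf ([]))) (.leaf ([4, (-2), 1, 3])))) (.node (.node (.node (.leaf ([])) (.leaf ([]))) (.leaf ([]))) (.node (.leaf ([])) (.leaf ([(-3), 2, (-3), (-2)]))))))) (.node (.node (.node (.node (.node (.node (.leaf ([])) (.leaf ([]))) (.leaf ([]))) (.node (.node (.leaf ([])) (.leaf ([2, 0, (-1), 2]))) (.leaf ([1])))) (.node (.node (.node (.leaf ([])) (.leaf ([8, (-5), 7, 6]))) (.leaf ([]))) (.node (.node (.leaf ([])) (.leaf ([2, 0, (-1), 2]))) (.leaf ([0, 0, 1, (-1)]))))) (.node (.node (.node (.node (.leaf ([])) (.leaf ([4, (-1), (-1), 5]))) (.leaf ([]))) (.node (.node (.leaf ([])) (.leaf ([1]))) (.leaf ([])))) (.node (.node (.node (.leaf ([1])) (.leaf ([2,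 (-1), 2, 1]))) (.leaf ([]))) (.node (.leaf ([(-4), (-1), 8, (-11)])) (.leaf ([])))))) (.node (.node (.node (.node (.node (.leaf ([])) (.leaf ([]))) (.leaf ([]))) (.node (.node (.leaf ([1])) (.leaf ([(-1), 1, (-1), (-1)]))) (.leaf ([])))) (.node (.node (.node (.leaf ([1])) (.leaf ([(-2), 0, 2, (-4)]))) (.leaf ([]))) (.node (.node (.leaf ([1])) (.leaf ([(-1), 1, (-1), (-2)]))) (.leaf ([]))))) (.node (.node (.node (.node (.leaf ([])) (.leaf ([0, (-2), 6, (-4)]))) (.leaf ([1]))) (.node (.node (.leaf ([])) (.leaf ([2, (-1), 1, 1]))) (.leaf ([])))) (.node (.node (.node (.leaf ([])) (.leaf ([1]))) (.leaf ([]))) (.node (.leaf ([4, (-3), 4, 1])) (.leaf ([])))))))))) (.node (.node (.node (.node (.node (.node (.node (.node (.node (.leaf ([])) (.leaf ([1]))) (.leaf ([]))) (.node (.node (.leaf ([])) (.leaf ([]))) (.leaf ([])))) (.node (.node (.node (.leaf ([])) (.leaf ([4, (-2), 3, 2]))) (.leaf ([(-1), 1, (-2)]))) (.node (.node (.leaf ([])) (.leaf ([0, 1, (-2), 1])))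 (.leaf ([5, 0, (-4), 8]))))) (.node (.node (.node (.node (.leaf ([])) (.leaf ([]))) (.leaf ([1]))) (.node (.node (.leaf ([])) (.leaf ([]))) (.leaf ([])))) (.node (.node (.node (.leaf ([])) (.leaf ([(-7), 3, (-2), (-8)]))) (.leaf ([(-1), 1, (-2)]))) (.node (.node (.leaf ([1])) (.leaf ([1, (-3), 8, (-5)]))) (.leaf ([])))))) (.node (.node (.node (.node (.node (.leaf ([])) (.leaf ([2, 0, (-1), 2]))) (.leaf ([]))) (.node (.node (.leaf ([])) (.leaf ([3, 2, (-8), 8]))) (.leaf ([])))) (.node (.node (.node (.leaf ([(-1), 1, 0, (-1)])) (.leaf ([9, (-5), 7, 7]))) (.leaf ([1]))) (.node (.node (.leaf ([])) (.leaf ([]))) (.leaf ([1]))))) (.node (.node (.node (.node (.leaf ([])) (.leaf ([2, (-1), 0, 1]))) (.leaf ([3, (-2), 2, 2]))) (.node (.node (.leaf ([1])) (.leaf ([(-2), 2, (-4), (-1)]))) (.leaf ([1])))) (.node (.node (.node (.leaf ([])) (.leaf ([1]))) (.leaf ([(-1), 1, 0, (-1)]))) (.node (.leaf ([])) (.leaf ([]))))))) (.node (.node (.node (.node (.node (.node (.leaf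 ([])) (.leaf ([(-3), 1, 0, (-5)]))) (.leaf ([]))) (.node (.node (.leaf ([])) (.leaf ([]))) (.leaf ([])))) (.node (.node (.node (.leaf ([])) (.leaf ([(-1), 0, 0, (-3)]))) (.leaf ([(-1), 1, 0, (-1)]))) (.node (.node (.leaf ([(-1), 1, (-1), (-1)])) (.leaf ([(-1), 2, (-5), 1]))) (.leaf ([(-3), 1, 0, (-4)]))))) (.node (.node (.node (.node (.leaf ([])) (.leaf ([]))) (.leaf ([2, (-1), 0, 1]))) (.node (.node (.leaf ([])) (.leaf ([1, (-2), 6, (-3)]))) (.leaf ([])))) (.node (.node (.node (.leaf ([])) (.leaf ([1]))) (.leaf ([]))) (.node (.node (.leaf ([])) (.leaf ([10, 0, (-9), 18]))) (.leaf ([1, 0, (-2), 1])))))) (.node (.node (.node (.node (.node (.leaf ([])) (.leaf ([0, 0, 1, (-2)]))) (.leaf ([]))) (.node (.node (.leaf ([1])) (.leaf ([(-1), 1, (-3)]))) (.leaf ([1, 0, (-1), 1])))) (.node (.node (.node (.leaf ([(-1), 0, 1, (-2)])) (.leaf ([(-2), 0, 2, (-5)]))) (.leaf ([(-4), 0, 4, (-8)]))) (.node (.node (.leaf ([])) (.leaf ([3, (-1), 0, 4]))) (.leaf ([]))))) (.node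 (.node (.node (.node (.leaf ([])) (.leaf ([(-1), 1, (-2)]))) (.leaf ([1]))) (.node (.node (.leaf ([])) (.leaf ([(-1), (-1), 5, (-5)]))) (.leaf ([])))) (.node (.node (.node (.leaf ([1])) (.leaf ([]))) (.leaf ([]))) (.node (.leaf ([(-1), 3, (-7), 3])) (.leaf ([(-4), 1, 2, (-7)])))))))) (.node (.node (.node (.node (.node (.node (.node (.leaf ([])) (.leaf ([0, 0, 2, (-1)]))) (.leaf ([]))) (.node (.node (.leaf ([1])) (.leaf ([]))) (.leaf ([1])))) (.node (.node (.node (.leaf ([])) (.leaf ([]))) (.leaf ([1]))) (.node (.node (.leaf ([])) (.leaf ([(-9), 10, (-20), 1]))) (.leaf ([(-1), 2, (-4), 1]))))) (.node (.node (.node (.node (.leaf ([])) (.leaf ([]))) (.leaf ([1]))) (.node (.node (.leaf ([])) (.leaf ([(-7), 4, (-5), (-7)]))) (.leaf ([1])))) (.node (.node (.node (.leaf ([])) (.leaf ([1]))) (.leaf ([(-1), 1, (-2), (-1)]))) (.node (.node (.leaf ([1, 0, (-1), 2])) (.leaf ([28, (-14), 14, 27]))) (.leaf ([(-10), 5, (-4), (-10)])))))) (.node (.node (.node (.node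 (.node (.leaf ([])) (.leaf ([1]))) (.leaf ([]))) (.node (.node (.leaf ([])) (.leaf ([]))) (.leaf ([])))) (.node (.node (.node (.leaf ([])) (.leaf ([]))) (.leaf ([]))) (.node (.node (.leaf ([])) (.leaf ([12, (-7), 10, 8]))) (.leaf ([]))))) (.node (.node (.node (.node (.leaf ([])) (.leaf ([(-1), 0, 1, (-2)]))) (.leaf ([(-1), 1, 0, (-1)]))) (.node (.node (.leaf ([])) (.leaf ([]))) (.leaf ([1])))) (.node (.node (.node (.leaf ([])) (.leaf ([(-3), 2, (-3), (-3)]))) (.leaf ([]))) (.node (.leaf ([])) (.leaf ([7, (-3), 2, 7]))))))) (.node (.node (.node (.node (.node (.node (.leaf ([])) (.leaf ([]))) (.leaf ([]))) (.node (.node (.leaf ([])) (.leaf ([]))) (.leaf ([])))) (.node (.node (.node (.leaf ([1, (-1), 2, (-1)])) (.leaf ([]))) (.leaf ([1, (-1), 2, (-1)]))) (.node (.node (.leaf ([])) (.leaf ([]))) (.leaf ([]))))) (.node (.node (.node (.node (.leaf ([])) (.leaf ([(-8), 1, 6, (-15)]))) (.leaf ([(-4), 3, (-5), (-2)]))) (.node (.node (.leaf ([0, 0, 1, (-1)]))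 (.leaf ([]))) (.leaf ([(-2), 0, 3, (-5)])))) (.node (.node (.node (.leaf ([])) (.leaf ([(-1), 1, (-1), (-1)]))) (.leaf ([7, (-4), 5, 6]))) (.node (.node (.leaf ([])) (.leaf ([(-12), 19, (-44), 12]))) (.leaf ([])))))) (.node (.node (.node (.node (.node (.leaf ([])) (.leaf ([(-1), 1, 0, (-1)]))) (.leaf ([]))) (.node (.node (.leaf ([])) (.leaf ([2, 0, (-2), 3]))) (.leaf ([2, 0, (-1), 2])))) (.node (.node (.node (.leaf ([])) (.leaf ([1, 1, (-3), 3]))) (.leaf ([]))) (.node (.node (.leaf ([9, (-4), 4, 9])) (.leaf ([(-1), 2, (-5), 2]))) (.leaf ([3, (-1), 1, 2]))))) (.node (.node (.node (.node (.leaf ([])) (.leaf ([]))) (.leaf ([]))) (.node (.node (.leaf ([])) (.leaf ([(-3), 3, (-5), (-1)]))) (.leaf ([])))) (.node (.node (.node (.leaf ([])) (.leaf ([1, (-1), 2, (-1)]))) (.leaf ([]))) (.node (.leaf ([])) (.leaf ([]))))))))) (.node (.node (.node (.node (.node (.node (.node (.node (.leaf ([])) (.leaf ([0, 0, 1, (-1)]))) (.leaf ([]))) (.node (.node (.leaf ([]))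 (.leaf ([0, 0, 1, (-2)]))) (.leaf ([])))) (.node (.node (.node (.leaf ([])) (.leaf ([0, 1, (-3)]))) (.leaf ([]))) (.node (.node (.leaf ([])) (.leaf ([(-2), 1, (-1), (-2)]))) (.leaf ([]))))) (.node (.node (.node (.node (.leaf ([0, 1, (-3), 2])) (.leaf ([2, (-3), 7, (-3)]))) (.leaf ([]))) (.node (.node (.leaf ([])) (.leaf ([(-2), 0, 2, (-5)]))) (.leaf ([])))) (.node (.node (.node (.leaf ([])) (.leaf ([(-1), 2, (-4), 1]))) (.leaf ([]))) (.node (.node (.leaf ([])) (.leaf ([0, 1, (-2)]))) (.leaf ([])))))) (.node (.node (.node (.node (.node (.leaf ([])) (.leaf ([(-4), (-1), 6, (-11)]))) (.leaf ([]))) (.node (.node (.leaf ([])) (.leaf ([(-1), 1, (-1), (-1)]))) (.leaf ([])))) (.node (.node (.node (.leaf ([])) (.leaf ([(-3), 4, (-9), 2]))) (.leaf ([]))) (.node (.node (.leaf ([])) (.leaf ([6, (-2), 1, 7]))) (.leaf ([(-1), 1, (-2)]))))) (.node (.node (.node (.node (.leaf ([])) (.leaf ([0, (-1), 3, (-2)]))) (.leaf ([]))) (.node (.node (.leaf ([])) (.leaf ([1, (-5),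 15, (-10)]))) (.leaf ([1, 3, (-10), 8])))) (.node (.node (.node (.leaf ([])) (.leaf ([(-2), 2, (-2), (-1)]))) (.leaf ([]))) (.node (.leaf ([])) (.leaf ([2, 0, (-2), 3]))))))) (.node (.node (.node (.node (.node (.node (.leaf ([1])) (.leaf ([2, (-1), 1, 1]))) (.leaf ([1]))) (.node (.node (.leaf ([])) (.leaf ([(-1), 1, (-2), (-1)]))) (.leaf ([(-1), 1, 0, (-1)])))) (.node (.node (.node (.leaf ([])) (.leaf ([3, (-2), 2, 2]))) (.leaf ([]))) (.node (.node (.leaf ([])) (.leaf ([(-1), 1, (-1), (-1)]))) (.leaf ([0, (-1), 3, (-2)]))))) (.node (.node (.node (.node (.leaf ([])) (.leaf ([(-1), 1, (-2)]))) (.leaf ([]))) (.node (.node (.leaf ([])) (.leaf ([1]))) (.leaf ([1])))) (.node (.node (.node (.leaf ([])) (.leaf ([(-1), 1, (-2)]))) (.leaf ([1]))) (.node (.node (.leaf ([])) (.leaf ([1, 2, (-6), 5]))) (.leaf ([])))))) (.node (.node (.node (.node (.node (.leaf ([])) (.leaf ([1, 0, (-1), 1]))) (.leaf ([(-1), 1, (-1), (-1)]))) (.node (.node (.leaf ([])) (.leaf ([0,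 (-1), 3, (-2)]))) (.leaf ([])))) (.node (.node (.node (.leaf ([])) (.leaf ([(-6), 3, (-3), (-6)]))) (.leaf ([]))) (.node (.node (.leaf ([])) (.leaf ([(-3), 3, (-5), (-1)]))) (.leaf ([]))))) (.node (.node (.node (.node (.leaf ([])) (.leaf ([]))) (.leaf ([]))) (.node (.node (.leaf ([])) (.leaf ([]))) (.leaf ([0, (-1), 3, (-2)])))) (.node (.node (.node (.leaf ([])) (.leaf ([1, (-3), 7, (-4)]))) (.leaf ([1]))) (.node (.leaf ([])) (.leaf ([])))))))) (.node (.node (.node (.node (.node (.node (.node (.leaf ([])) (.leaf ([(-2), 0, 2, (-4)]))) (.leaf ([0, 1, (-2), 1]))) (.node (.node (.leaf ([])) (.leaf ([1]))) (.leaf ([])))) (.node (.node (.node (.leaf ([])) (.leaf ([4, (-3), 5, 2]))) (.leaf ([1, (-1), 3, (-1)]))) (.node (.node (.leaf ([])) (.leaf ([]))) (.leaf ([1, (-1), 2, (-1)]))))) (.node (.node (.node (.node (.leaf ([])) (.leaf ([]))) (.leaf ([]))) (.node (.node (.leaf ([])) (.leaf ([1, 0, (-1), 1]))) (.leaf ([(-1), 1, (-2), (-1)])))) (.node (.node (.node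 (.leaf ([])) (.leaf ([1, 0, (-1), 2]))) (.leaf ([0, 0, 1, (-1)]))) (.node (.node (.leaf ([])) (.leaf ([17, (-11), 15, 11]))) (.leaf ([(-2), 2, (-4)])))))) (.node (.node (.node (.node (.node (.leaf ([0, (-1), 3, (-2)])) (.leaf ([]))) (.leaf ([]))) (.node (.node (.leaf ([])) (.leaf ([4, (-3), 6, 1]))) (.leaf ([])))) (.node (.node (.node (.leaf ([])) (.leaf ([]))) (.leaf ([]))) (.node (.node (.leaf ([])) (.leaf ([(-5), 1, 2, (-9)]))) (.leaf ([]))))) (.node (.node (.node (.node (.leaf ([])) (.leaf ([]))) (.leaf ([]))) (.node (.node (.leaf ([1])) (.leaf ([]))) (.leaf ([])))) (.node (.node (.node (.leaf ([1, 0, (-1), 1])) (.leaf ([]))) (.leaf ([(-1), 0, 1, (-2)]))) (.node (.leaf ([1])) (.leaf ([(-8), 5, (-7), (-6)]))))))) (.node (.node (.node (.node (.node (.node (.leaf ([])) (.leaf ([]))) (.leaf ([1, 2, (-7), 5]))) (.node (.node (.leaf ([])) (.leaf ([(-3), 5, (-12), 3]))) (.leaf ([])))) (.node (.node (.node (.leaf ([])) (.leaf ([0, 0, 0, (-1)]))) (.leaf ([2,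 (-1), 1, 2]))) (.node (.node (.leaf ([1])) (.leaf ([1]))) (.leaf ([(-1), 1, 0, (-1)]))))) (.node (.node (.node (.node (.leaf ([(-1), (-1), 4, (-4)])) (.leaf ([0, 0, 0, (-1)]))) (.leaf ([1, 0, 0, 2]))) (.node (.node (.leaf ([1, 0, (-1), 1])) (.leaf ([4, (-1), (-1), 6]))) (.leaf ([1, 0, (-2), 1])))) (.node (.node (.node (.leaf ([])) (.leaf ([(-1), 0, 1, (-2)]))) (.leaf ([1, (-1), 2]))) (.node (.leaf ([])) (.leaf ([2, (-1), 1, 2])))))) (.node (.node (.node (.node (.node (.leaf ([])) (.leaf ([1]))) (.leaf ([]))) (.node (.node (.leaf ([1, 0, (-1), 1])) (.leaf ([11, (-5), 5, 11]))) (.leaf ([])))) (.node (.node (.node (.leaf ([])) (.leaf ([(-1), 0, 1, (-3)]))) (.leaf ([0, (-2), 6, (-4)]))) (.node (.node (.leaf ([(-2), 1, (-1), (-2)])) (.leaf ([1, (-2), 5, (-2)]))) (.leaf ([]))))) (.node (.node (.node (.node (.leaf ([])) (.leaf ([]))) (.leaf ([]))) (.node (.node (.leaf ([])) (.leaf ([1, (-1), 2, (-1)]))) (.leaf ([0, 1, (-3), 1])))) (.node (.node (.node (.leaf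 ([1])) (.leaf ([(-13), 7, (-7), (-14)]))) (.leaf ([3, (-2), 2, 1]))) (.node (.leaf ([])) (.leaf ([(-2), 0, 4, (-5)]))))))))))) (.node (.node (.node (.node (.node (.node (.node (.node (.node (.node (.leaf ([])) (.leaf ([0, (-2), 7, (-5)]))) (.leaf ([]))) (.node (.node (.leaf ([])) (.leaf ([(-7), 5, (-8), (-5)]))) (.leaf ([])))) (.node (.node (.node (.leaf ([])) (.leaf ([]))) (.leaf ([1, 0, (-1), 1]))) (.node (.node (.leaf ([])) (.leaf ([0, 0, 1, (-1)]))) (.leaf ([(-5), 5, (-9), (-1)]))))) (.node (.node (.node (.node (.leaf ([])) (.leaf ([1, (-1), 2, (-1)]))) (.leaf ([]))) (.node (.node (.leaf ([])) (.leaf ([]))) (.leaf ([1])))) (.node (.node (.node (.leaf ([])) (.leaf ([]))) (.leaf ([]))) (.node (.node (.leaf ([])) (.leaf ([(-6), 1, 2, (-10)]))) (.leaf ([0, 0, (-1)])))))) (.node (.node (.node (.node (.node (.leaf ([])) (.leaf ([]))) (.leaf ([]))) (.node (.node (.leaf ([])) (.leaf ([2, (-2), 4, (-1)]))) (.leaf ([])))) (.node (.node (.node (.leaf ([]))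 (.leaf ([2, 0, (-2), 3]))) (.leaf ([0, (-1), 3, (-2)]))) (.node (.node (.leaf ([])) (.leaf ([5, (-3), 6, 2]))) (.leaf ([]))))) (.node (.node (.node (.node (.leaf ([1])) (.leaf ([(-3), 1, 0, (-4)]))) (.leaf ([1]))) (.node (.node (.leaf ([])) (.leaf ([1, (-4), 11, (-6)]))) (.leaf ([7, (-5), 8, 4])))) (.node (.node (.node (.leaf ([])) (.leaf ([3, (-2), 2, 1]))) (.leaf ([(-2), 1, (-1), (-2)]))) (.node (.leaf ([])) (.leaf ([]))))))) (.node (.node (.node (.node (.node (.node (.leaf ([])) (.leaf ([(-1), 1, (-2), (-1)]))) (.leaf ([2, (-1), 0, 1]))) (.node (.node (.leaf ([])) (.leaf ([2, (-1), 0, 1]))) (.leaf ([])))) (.node (.node (.node (.leaf ([])) (.leaf ([(-3), 2, (-4), (-2)]))) (.leaf ([]))) (.node (.node (.leaf ([])) (.leaf ([(-2), 3, (-8), 1]))) (.leaf ([1, 1, (-3), 2]))))) (.node (.node (.node (.node (.leaf ([])) (.leaf ([9, (-7), 11, 3]))) (.leaf ([(-2), 1, (-2), (-2)]))) (.node (.node (.leaf ([])) (.leaf ([2, (-2), 3, (-1)]))) (.leaf ([])))) (.node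 (.node (.node (.leaf ([2, (-2), 4])) (.leaf ([]))) (.leaf ([(-2), 2, (-4)]))) (.node (.node (.leaf ([])) (.leaf ([0, 4, (-11), 6]))) (.leaf ([0, (-1), 2, (-2)])))))) (.node (.node (.node (.node (.node (.leaf ([1])) (.leaf ([2, (-1), 0, 1]))) (.leaf ([]))) (.node (.node (.leaf ([])) (.leaf ([]))) (.leaf ([1, 0, (-2), 1])))) (.node (.node (.node (.leaf ([])) (.leaf ([4, (-2), 4, 3]))) (.leaf ([(-2), 1, (-1), (-2)]))) (.node (.node (.leaf ([])) (.leaf ([2, (-1), 1, 2]))) (.leaf ([(-3), 0, 3, (-7)]))))) (.node (.node (.node (.node (.leaf ([])) (.leaf ([]))) (.leaf ([5, (-3), 5, 3]))) (.node (.node (.leaf ([])) (.leaf ([(-3), 2, (-2), (-4)]))) (.leaf ([1, 2, (-7), 5])))) (.node (.node (.node (.leaf ([])) (.leaf ([(-3), 5, (-11), 3]))) (.leaf ([]))) (.node (.leaf ([])) (.leaf ([1, 0, (-1), 2])))))))) (.node (.node (.node (.node (.node (.node (.node (.leaf ([])) (.leaf ([(-1), 1, 0, (-1)]))) (.leaf ([]))) (.node (.node (.leaf ([])) (.leaf ([(-2), 1, 0, (-4)])))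 (.leaf ([])))) (.node (.node (.node (.leaf ([])) (.leaf ([0, 1, (-2), 1]))) (.leaf ([(-1), 0, 2, (-3)]))) (.node (.node (.leaf ([])) (.leaf ([(-1), (-2), 7, (-6)]))) (.leaf ([(-2), 1, 0, (-3)]))))) (.node (.node (.node (.node (.leaf ([1])) (.leaf ([]))) (.leaf ([]))) (.node (.node (.leaf ([])) (.leaf ([1]))) (.leaf ([])))) (.node (.node (.node (.leaf ([])) (.leaf ([2, (-5), 14, (-6)]))) (.leaf ([(-2), 2, (-2), (-1)]))) (.node (.node (.leaf ([0, 0, 1, (-1)])) (.leaf ([0, 0, 1, (-2)]))) (.leaf ([(-3), 1, 1, (-5)])))))) (.node (.node (.node (.node (.node (.leaf ([])) (.leaf ([]))) (.leaf ([]))) (.node (.node (.leaf ([1])) (.leaf ([]))) (.leaf ([])))) (.node (.node (.node (.leaf ([1])) (.leaf ([(-6), 9, (-20), 5]))) (.leaf ([1]))) (.node (.node (.leaf ([])) (.leaf ([1, 2, (-8), 5]))) (.leaf ([]))))) (.node (.node (.node (.node (.leaf ([])) (.leaf ([2, (-1), 1, 2]))) (.leaf ([2, 0, (-1), 2]))) (.node (.node (.leaf ([])) (.leaf ([]))) (.leaf ([0, (-1), 3,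 (-2)])))) (.node (.node (.node (.leaf ([0, 0, 1, (-1)])) (.leaf ([(-2), 1, (-1), (-2)]))) (.leaf ([]))) (.node (.leaf ([])) (.leaf ([(-2), 1, 0, (-2)]))))))) (.node (.node (.node (.node (.node (.node (.leaf ([])) (.leaf ([3, (-1), 1, 2]))) (.leaf ([]))) (.node (.node (.leaf ([1])) (.leaf ([(-1), 0, 2, (-3)]))) (.leaf ([1, 2, (-6), 4])))) (.node (.node (.node (.leaf ([])) (.leaf ([(-3), 4, (-8), 1]))) (.leaf ([]))) (.node (.node (.leaf ([])) (.leaf ([(-1), 0, 2, (-3)]))) (.leaf ([1]))))) (.node (.node (.node (.node (.leaf ([])) (.leaf ([0, 1, (-2), 1]))) (.leaf ([]))) (.node (.node (.leaf ([1])) (.leaf ([0, 1, (-1)]))) (.leaf ([])))) (.node (.node (.node (.leaf ([])) (.leaf ([4, (-5), 11, (-2)]))) (.leaf ([]))) (.node (.node (.leaf ([])) (.leaf ([(-1), 1, (-1), (-2)]))) (.leaf ([0, 0, 0, (-1)])))))) (.node (.node (.node (.node (.node (.leaf ([])) (.leaf ([(-5), 2, 0, (-7)]))) (.leaf ([]))) (.node (.node (.leaf ([1, 0, (-1), 1])) (.leaf ([1, (-1), 2])))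 (.leaf ([0, 0, 1, (-1)])))) (.node (.node (.node (.leaf ([1, (-1), 3, (-2)])) (.leaf ([2, 1, (-3), 4]))) (.leaf ([2, (-3), 7, (-3)]))) (.node (.node (.leaf ([0, 1, (-3), 2])) (.leaf ([(-1), 0, 2, (-3)]))) (.leaf ([]))))) (.node (.node (.node (.node (.leaf ([])) (.leaf ([]))) (.leaf ([(-2), 3, (-6), 1]))) (.node (.node (.leaf ([1])) (.leaf ([(-10), 3, 2, (-15)]))) (.leaf ([])))) (.node (.node (.node (.leaf ([])) (.leaf ([2, (-1), 0, 1]))) (.leaf ([]))) (.node (.leaf ([])) (.leaf ([1, 0, 1, 1]))))))))) (.node (.node (.node (.node (.node (.node (.node (.node (.leaf ([])) (.leaf ([2, 0, 0, 3]))) (.leaf ([]))) (.node (.node (.leaf ([])) (.leaf ([4, (-1), 0, 5]))) (.leaf ([])))) (.node (.node (.node (.leaf ([])) (.leaf ([(-1), 1, (-1), (-1)]))) (.leaf ([]))) (.node (.node (.leaf ([])) (.leaf ([(-4), 0, 4, (-8)]))) (.leaf ([(-1), 1, (-2)]))))) (.node (.node (.node (.node (.leaf ([])) (.leaf ([2, (-1), 1, 1]))) (.leaf ([]))) (.node (.node (.leaf ([(-1), 0, 2,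 (-4)])) (.leaf ([(-2), 0, 4, (-5)]))) (.leaf ([])))) (.node (.node (.node (.leaf ([1, 0, (-1), 1])) (.leaf ([2, 1, (-6), 5]))) (.leaf ([0, 1, (-2), 1]))) (.node (.node (.leaf ([])) (.leaf ([]))) (.leaf ([0, 1, (-2), 1])))))) (.node (.node (.node (.node (.node (.leaf ([])) (.leaf ([1]))) (.leaf ([]))) (.node (.node (.leaf ([(-1), 1, (-1), (-1)])) (.leaf ([1]))) (.leaf ([])))) (.node (.node (.node (.leaf ([])) (.leaf ([(-1), 1, (-1), (-1)]))) (.leaf ([2, (-2), 4]))) (.node (.node (.leaf ([])) (.leaf ([(-6), 4, (-6), (-4)]))) (.leaf ([(-3), 1, 0, (-4)]))))) (.node (.node (.node (.node (.leaf ([1])) (.leaf ([]))) (.leaf ([(-2), 2, (-4), (-1)]))) (.node (.node (.leaf ([3, (-2), 4, 1])) (.leaf ([(-5), 7, (-16), 4]))) (.leaf ([2, (-2), 4, (-1)])))) (.node (.node (.node (.leaf ([])) (.leaf ([(-3), 3, (-5), (-1)]))) (.leaf ([(-1), 1, 0, (-1)]))) (.node (.leaf ([])) (.leaf ([1, (-1), 2]))))))) (.node (.node (.node (.node (.node (.node (.leaf ([])) (.leaf ([2,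 (-1), 2]))) (.leaf ([]))) (.node (.node (.leaf ([2, 0, (-2), 4])) (.leaf ([]))) (.leaf ([])))) (.node (.node (.node (.leaf ([])) (.leaf ([]))) (.leaf ([2, (-1), 0, 1]))) (.node (.node (.leaf ([])) (.leaf ([2, (-1), 2]))) (.leaf ([(-1), 1, (-2)]))))) (.node (.node (.node (.node (.leaf ([1])) (.leaf ([]))) (.leaf ([1, 1, (-4), 3]))) (.node (.node (.leaf ([])) (.leaf ([1, (-1), 4, (-2)]))) (.leaf ([(-1), 0, 2, (-3)])))) (.node (.node (.node (.leaf ([])) (.leaf ([(-1), 0, 0, (-2)]))) (.leaf ([2, (-1), 0, 1]))) (.node (.node (.leaf ([])) (.leaf ([3, (-3), 6, (-1)]))) (.leaf ([])))))) (.node (.node (.node (.node (.node (.leaf ([])) (.leaf ([]))) (.leaf ([]))) (.node (.node (.leaf ([])) (.leaf ([]))) (.leaf ([])))) (.node (.node (.node (.leaf ([])) (.leaf ([1]))) (.leaf ([]))) (.node (.node (.leaf ([])) (.leaf ([(-7), 6, (-11), (-3)]))) (.leaf ([]))))) (.node (.node (.node (.node (.leaf ([])) (.leaf ([(-1), 0, 0, (-3)]))) (.leaf ([]))) (.node (.node (.leaf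 ([])) (.leaf ([(-6), 3, (-4), (-6)]))) (.leaf ([])))) (.node (.node (.node (.leaf ([0, 1, (-2), 1])) (.leaf ([]))) (.leaf ([(-1), 1, 0, (-1)]))) (.node (.leaf ([1])) (.leaf ([])))))))) (.node (.node (.node (.node (.node (.node (.node (.leaf ([])) (.leaf ([(-2), 2, (-2), (-1)]))) (.leaf ([]))) (.node (.node (.leaf ([])) (.leaf ([(-1), 0, 2, (-4)]))) (.leaf ([1, 0, 0, 1])))) (.node (.node (.node (.leaf ([])) (.leaf ([3, (-1), 1, 2]))) (.leaf ([]))) (.node (.node (.leaf ([])) (.leaf ([17, (-1), (-14), 31]))) (.leaf ([(-2), 0, 2, (-4)]))))) (.node (.node (.node (.node (.leaf ([])) (.leaf ([]))) (.leaf ([]))) (.node (.node (.leaf ([])) (.leaf ([(-3), 2, (-2), (-4)]))) (.leaf ([])))) (.node (.node (.node (.leaf ([])) (.leaf ([1]))) (.leaf ([1, (-1), 2, (-1)]))) (.node (.node (.leaf ([])) (.leaf ([1]))) (.leaf ([])))))) (.node (.node (.node (.node (.node (.leaf ([])) (.leaf ([(-2), 3, (-6), 1]))) (.leaf ([]))) (.node (.node (.leaf ([])) (.leaf ([4, (-2), 3,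 3]))) (.leaf ([1])))) (.node (.node (.node (.leaf ([])) (.leaf ([(-1), 0, 2, (-2)]))) (.leaf ([]))) (.node (.node (.leaf ([])) (.leaf ([]))) (.leaf ([1]))))) (.node (.node (.node (.node (.leaf ([])) (.leaf ([4, (-1), 0, 5]))) (.leaf ([]))) (.node (.node (.leaf ([])) (.leaf ([0, (-1), 3, (-2)]))) (.leaf ([(-1), 1, (-2)])))) (.node (.node (.node (.leaf ([])) (.leaf ([(-7), 6, (-9), (-3)]))) (.leaf ([]))) (.node (.leaf ([])) (.leaf ([2, 0, (-2), 3]))))))) (.node (.node (.node (.node (.node (.node (.leaf ([])) (.leaf ([1]))) (.leaf ([]))) (.node (.node (.leaf ([])) (.leaf ([]))) (.leaf ([1, 0, 0, 1])))) (.node (.node (.node (.leaf ([])) (.leaf ([]))) (.leaf ([3, (-1), 0, 3]))) (.node (.node (.leaf ([])) (.leaf ([(-2), 1, (-1), (-3)]))) (.leaf ([(-2), 1, (-1), (-2)]))))) (.node (.node (.node (.node (.leaf ([])) (.leaf ([(-2), 0, 2, (-4)]))) (.leaf ([(-2), 1, (-1), (-2)]))) (.node (.node (.leaf ([])) (.leaf ([(-3), (-2), 9, (-10)]))) (.leaf ([(-1), 1, 0, (-1)]))))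 (.node (.node (.node (.leaf ([])) (.leaf ([(-1), 0, 1, (-2)]))) (.leaf ([2, (-1), 1, 2]))) (.node (.leaf ([])) (.leaf ([0, (-2), 6, (-5)])))))) (.node (.node (.node (.node (.node (.leaf ([])) (.leaf ([3, (-1), 0, 4]))) (.leaf ([]))) (.node (.node (.leaf ([])) (.leaf ([(-1), 2, (-5), 2]))) (.leaf ([])))) (.node (.node (.node (.leaf ([])) (.leaf ([(-3), 5, (-8), 2]))) (.leaf ([7, (-7), 15, (-1)]))) (.node (.node (.leaf ([])) (.leaf ([8, (-4), 3, 7]))) (.leaf ([1]))))) (.node (.node (.node (.node (.leaf ([])) (.leaf ([6, (-2), (-1), 8]))) (.leaf ([]))) (.node (.node (.leaf ([])) (.leaf ([12, (-8), 12, 7]))) (.leaf ([1, 0, (-1), 2])))) (.node (.node (.node (.leaf ([])) (.leaf ([(-8), 8, (-14), (-1)]))) (.leaf ([1, 0, (-1), 1]))) (.node (.leaf ([])) (.leaf ([1, (-1), 3])))))))))) (.node (.node (.node (.node (.node (.node (.node (.node (.node (.leaf ([])) (.leaf ([(-2), 1, (-1), (-2)]))) (.leaf ([1]))) (.node (.node (.leaf ([])) (.leaf ([]))) (.leaf ([0, 0,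 1, (-1)])))) (.node (.node (.node (.leaf ([])) (.leaf ([1]))) (.leaf ([]))) (.node (.node (.leaf ([2, 1, (-4), 4])) (.leaf ([(-3), 2, (-3), (-2)]))) (.leaf ([]))))) (.node (.node (.node (.node (.leaf ([])) (.leaf ([1, 0, (-2), 1]))) (.leaf ([1, 0, 0, 1]))) (.node (.node (.leaf ([])) (.leaf ([2, 0, (-1), 2]))) (.leaf ([])))) (.node (.node (.node (.leaf ([])) (.leaf ([(-3), 2, (-3), (-2)]))) (.leaf ([]))) (.node (.node (.leaf ([3, (-2), 2, 2])) (.leaf ([(-10), 8, (-13), (-5)]))) (.leaf ([])))))) (.node (.node (.node (.node (.node (.leaf ([1])) (.leaf ([(-1), 1, 0, (-1)]))) (.leaf ([]))) (.node (.node (.leaf ([])) (.leaf ([(-3), 3, (-6), (-1)]))) (.leaf ([1])))) (.node (.node (.node (.leaf ([])) (.leaf ([(-7), 7, (-13), (-1)]))) (.leaf ([]))) (.node (.node (.leaf ([])) (.leaf ([3, 1, (-6), 7]))) (.leaf ([]))))) (.node (.node (.node (.node (.leaf ([])) (.leaf ([1, (-1), 2]))) (.leaf ([]))) (.node (.node (.leaf ([])) (.leaf ([(-1), 1, (-1), (-1)]))) (.leaf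 ([])))) (.node (.node (.node (.leaf ([(-2), 2, (-4), (-1)])) (.leaf ([(-4), 0, 4, (-8)]))) (.leaf ([(-1), (-1), 3, (-4)]))) (.node (.leaf ([(-1), 1, (-2)])) (.leaf ([0, 0, 0, (-1)]))))))) (.node (.node (.node (.node (.node (.node (.leaf ([])) (.leaf ([(-1), 0, 0, (-3)]))) (.leaf ([]))) (.node (.node (.leaf ([])) (.leaf ([0, (-1), 3, (-2)]))) (.leaf ([(-5), 1, 3, (-9)])))) (.node (.node (.node (.leaf ([1])) (.leaf ([]))) (.leaf ([]))) (.node (.node (.leaf ([])) (.leaf ([0, (-2), 7, (-6)]))) (.leaf ([2, (-1), 0, 1]))))) (.node (.node (.node (.node (.leaf ([])) (.leaf ([4, (-1), 0, 4]))) (.leaf ([]))) (.node (.node (.leaf ([])) (.leaf ([]))) (.leaf ([1, 0, (-1), 1])))) (.node (.node (.node (.leaf ([])) (.leaf ([]))) (.leaf ([]))) (.node (.node (.leaf ([1])) (.leaf ([21, (-3), (-11), 34]))) (.leaf ([])))))) (.node (.node (.node (.node (.node (.leaf ([])) (.leaf ([]))) (.leaf ([]))) (.node (.node (.leaf ([])) (.leaf ([1, 2, (-6), 4]))) (.leaf ([1])))) (.node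 (.node (.node (.leaf ([])) (.leaf ([]))) (.leaf ([(-6), 4, (-4), (-5)]))) (.node (.node (.leaf ([1])) (.leaf ([0, 2, (-5), 2]))) (.leaf ([1, (-2), 5, (-2)]))))) (.node (.node (.node (.node (.leaf ([1])) (.leaf ([(-1), 0, 1, (-2)]))) (.leaf ([]))) (.node (.node (.leaf ([])) (.leaf ([5, (-2), 3, 5]))) (.leaf ([])))) (.node (.node (.node (.leaf ([])) (.leaf ([(-2), (-1), 5, (-6)]))) (.leaf ([(-1), 2, (-5), 2]))) (.node (.leaf ([])) (.leaf ([(-1), 0, 1, (-2)])))))))) (.node (.node (.node (.node (.node (.node (.node (.leaf ([])) (.leaf ([]))) (.leaf ([1]))) (.node (.node (.leaf ([])) (.leaf ([1]))) (.leaf ([])))) (.node (.node (.node (.leaf ([1])) (.leaf ([]))) (.leaf ([]))) (.node (.node (.leaf ([])) (.leaf ([2, (-3), 8, (-2)]))) (.leaf ([(-13), 8, (-11), (-10)]))))) (.node (.node (.node (.node (.leaf ([])) (.leaf ([0, (-1), 3, (-2)]))) (.leaf ([]))) (.node (.node (.leaf ([0, 1, (-2), 1])) (.leaf ([1]))) (.leaf ([])))) (.node (.node (.node (.leaf ([])) (.leaf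 ([(-3), 2, (-3), (-3)]))) (.leaf ([]))) (.node (.node (.leaf ([(-1), 1, 0, (-1)])) (.leaf ([]))) (.leaf ([(-1), 1, 0, (-1)])))))) (.node (.node (.node (.node (.node (.leaf ([])) (.leaf ([]))) (.leaf ([]))) (.node (.node (.leaf ([(-1), 1, 0, (-1)])) (.leaf ([1, (-2), 6, (-4)]))) (.leaf ([5, (-3), 4, 3])))) (.node (.node (.node (.leaf ([])) (.leaf ([]))) (.leaf ([]))) (.node (.node (.leaf ([])) (.leaf ([7, (-6), 12]))) (.leaf ([]))))) (.node (.node (.node (.node (.leaf ([])) (.leaf ([(-1), 1, 0, (-1)]))) (.leaf ([]))) (.node (.node (.leaf ([(-1), 0, 1, (-2)])) (.leaf ([]))) (.leaf ([])))) (.node (.node (.node (.leaf ([(-1), 1, 0, (-1)])) (.leaf ([(-2), 1, 0, (-2)]))) (.leaf ([(-3), 1, 0, (-4)]))) (.node (.leaf ([(-1), 0, 1, (-2)])) (.leaf ([2, (-1), 0, 1]))))))) (.node (.node (.node (.node (.node (.node (.leaf ([])) (.leaf ([1]))) (.leaf ([1, 0, (-1), 1]))) (.node (.node (.leaf ([])) (.leaf ([]))) (.leaf ([])))) (.node (.node (.node (.leaf ([])) (.leaf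 ([(-6), 6, (-12), (-1)]))) (.leaf ([1, (-1), 2]))) (.node (.node (.leaf ([(-1), 1, (-2)])) (.leaf ([1, 0, (-1), 1]))) (.leaf ([2, (-1), 1, 2]))))) (.node (.node (.node (.node (.leaf ([])) (.leaf ([0, 0, 1, (-2)]))) (.leaf ([1]))) (.node (.node (.leaf ([])) (.leaf ([(-4), 4, (-8)]))) (.leaf ([1])))) (.node (.node (.node (.leaf ([])) (.leaf ([1, 1, (-4), 4]))) (.leaf ([1]))) (.node (.node (.leaf ([])) (.leaf ([2, 0, (-1), 2]))) (.leaf ([1, (-1), 3, (-1)])))))) (.node (.node (.node (.node (.node (.leaf ([1])) (.leaf ([(-1), 1, (-1), (-2)]))) (.leaf ([(-1), 1, 0, (-1)]))) (.node (.node (.leaf ([])) (.leaf ([(-2), 1, 0, (-3)]))) (.leaf ([(-1), 1, 0, (-1)])))) (.node (.node (.node (.leaf ([])) (.leaf ([(-2), 0, 4, (-5)]))) (.leaf ([1]))) (.node (.node (.leaf ([])) (.leaf ([(-2), 5, (-12), 4]))) (.leaf ([1]))))) (.node (.node (.node (.node (.leaf ([])) (.leaf ([(-3), 3, (-6), (-1)]))) (.leaf ([]))) (.node (.node (.leaf ([1, (-1), 2])) (.leaf ([1, 0, 0, 1])))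 (.leaf ([(-2), 1, (-1), (-3)])))) (.node (.node (.node (.leaf ([(-1), 0, 1, (-2)])) (.leaf ([(-1), 1, (-1), (-1)]))) (.leaf ([]))) (.node (.leaf ([])) (.leaf ([(-3), 2, (-2), (-2)]))))))))) (.node (.node (.node (.node (.node (.node (.node (.node (.leaf ([1])) (.leaf ([0, 0, 2, (-1)]))) (.leaf ([1, 0, (-1), 1]))) (.node (.node (.leaf ([])) (.leaf ([]))) (.leaf ([])))) (.node (.node (.node (.leaf ([])) (.leaf ([]))) (.leaf ([(-1), 0, 1, (-2)]))) (.node (.node (.leaf ([1])) (.leaf ([8, (-6), 11, 3]))) (.leaf ([]))))) (.node (.node (.node (.node (.leaf ([])) (.leaf ([]))) (.leaf ([(-1), 1, (-2), (-1)]))) (.node (.node (.leaf ([])) (.leaf ([1, (-2), 5, (-3)]))) (.leaf ([3, (-1), 1, 3])))) (.node (.node (.node (.leaf ([])) (.leaf ([]))) (.leaf ([(-1), 0, 1, (-2)]))) (.node (.node (.leaf ([])) (.leaf ([0, 1, (-2)]))) (.leaf ([])))))) (.node (.node (.node (.node (.node (.leaf ([])) (.leaf ([]))) (.leaf ([]))) (.node (.node (.leaf ([])) (.leaf ([]))) (.leaf ([2,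 (-1), 0, 1])))) (.node (.node (.node (.leaf ([])) (.leaf ([(-1), 2, (-4), 1]))) (.leaf ([]))) (.node (.node (.leaf ([])) (.leaf ([0, (-1), 3, (-2)]))) (.leaf ([(-1), 0, 1, (-2)]))))) (.node (.node (.node (.node (.leaf ([])) (.leaf ([1]))) (.leaf ([]))) (.node (.node (.leaf ([])) (.leaf ([(-1), 0, 1, (-2)]))) (.leaf ([2, (-1), 2])))) (.node (.node (.node (.leaf ([])) (.leaf ([(-1), 0, 1, (-2)]))) (.leaf ([]))) (.node (.leaf ([])) (.leaf ([1]))))))) (.node (.node (.node (.node (.node (.node (.leaf ([])) (.leaf ([0, 2, (-6), 3]))) (.leaf ([]))) (.node (.node (.leaf ([])) (.leaf ([(-1), 1, 0, (-1)]))) (.leaf ([])))) (.node (.node (.node (.leaf ([])) (.leaf ([1, 1, (-4), 3]))) (.leaf ([(-6), 2, 0, (-8)]))) (.node (.node (.leaf ([(-1), 1, 0, (-1)])) (.leaf ([11, (-2), (-4), 17]))) (.leaf ([]))))) (.node (.node (.node (.node (.leaf ([])) (.leaf ([(-2), 3, (-7), 1]))) (.leaf ([]))) (.node (.node (.leaf ([])) (.leaf ([1]))) (.leaf ([])))) (.node (.node (.node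 (.leaf ([])) (.leaf ([7, (-3), 1, 7]))) (.leaf ([]))) (.node (.node (.leaf ([])) (.leaf ([5, 2, (-11), 12]))) (.leaf ([0, (-2), 5, (-4)])))))) (.node (.node (.node (.node (.node (.leaf ([])) (.leaf ([]))) (.leaf ([]))) (.node (.node (.leaf ([])) (.leaf ([]))) (.leaf ([3, (-3), 6, (-1)])))) (.node (.node (.node (.leaf ([])) (.leaf ([(-11), 10, (-17), (-3)]))) (.leaf ([]))) (.node (.node (.leaf ([0, (-1), 3, (-2)])) (.leaf ([5, (-3), 4, 2]))) (.leaf ([]))))) (.node (.node (.node (.node (.leaf ([])) (.leaf ([(-4), 4, (-8)]))) (.leaf ([]))) (.node (.node (.leaf ([2, (-1), 1, 1])) (.leaf ([9, (-3), 1, 11]))) (.leaf ([(-3), 1, 0, (-4)])))) (.node (.node (.node (.leaf ([])) (.leaf ([3, (-4), 9, (-2)]))) (.leaf ([]))) (.node (.leaf ([(-1), 1, 0, (-1)])) (.leaf ([(-1), 0, 1, (-2)])))))))) (.node (.node (.node (.node (.node (.node (.node (.leaf ([])) (.leaf ([1, (-1), 5]))) (.leaf ([]))) (.node (.node (.leaf ([])) (.leaf ([2, 0, (-1), 2]))) (.leaf ([2, (-2), 3,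 (-1)])))) (.node (.node (.node (.leaf ([])) (.leaf ([(-2), 1, 0, (-3)]))) (.leaf ([0, 1, (-2), 1]))) (.node (.node (.leaf ([])) (.leaf ([]))) (.leaf ([0, 0, 1, (-1)]))))) (.node (.node (.node (.node (.leaf ([])) (.leaf ([2, 0, (-1), 2]))) (.leaf ([]))) (.node (.node (.leaf ([])) (.leaf ([]))) (.leaf ([])))) (.node (.node (.node (.leaf ([])) (.leaf ([(-1), 1, (-1), (-2)]))) (.leaf ([1]))) (.node (.node (.leaf ([])) (.leaf ([(-1), 2, (-5)]))) (.leaf ([(-2), 2, (-3), (-1)])))))) (.node (.node (.node (.node (.node (.leaf ([])) (.leaf ([1]))) (.leaf ([]))) (.node (.node (.leaf ([(-4), 0, 4, (-8)])) (.leaf ([2, (-1), 0, 1]))) (.leaf ([(-1), 1, (-1), (-2)])))) (.node (.node (.node (.leaf ([])) (.leaf ([(-3), 2, (-2), (-2)]))) (.leaf ([(-2), 2, (-4)]))) (.node (.node (.leaf ([(-2), 1, (-2), (-2)])) (.leaf ([]))) (.leaf ([1, (-3), 5, (-4)]))))) (.node (.node (.node (.node (.leaf ([])) (.leaf ([1]))) (.leaf ([0, 0, 1, (-1)]))) (.node (.node (.leaf ([])) (.leaf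 ([]))) (.leaf ([])))) (.node (.node (.node (.leaf ([])) (.leaf ([]))) (.leaf ([1]))) (.node (.leaf ([])) (.leaf ([0, (-1), 4, (-4)]))))))) (.node (.node (.node (.node (.node (.node (.leaf ([])) (.leaf ([(-3), 1, 0, (-5)]))) (.leaf ([1]))) (.node (.node (.leaf ([1])) (.leaf ([1, 0, 0, 1]))) (.leaf ([0, 2, (-7), 3])))) (.node (.node (.node (.leaf ([1])) (.leaf ([(-2), 3, (-7), 2]))) (.leaf ([1]))) (.node (.node (.leaf ([])) (.leaf ([1]))) (.leaf ([0, 1, (-2)]))))) (.node (.node (.node (.node (.leaf ([])) (.leaf ([1]))) (.leaf ([]))) (.node (.node (.leaf ([])) (.leaf ([4, (-2), 3, 3]))) (.leaf ([2, (-3), 7, (-3)])))) (.node (.node (.node (.leaf ([])) (.leaf ([1, (-1), 2, (-1)]))) (.leaf ([1]))) (.node (.leaf ([1])) (.leaf ([4, (-6), 14, (-4)])))))) (.node (.node (.node (.node (.node (.leaf ([])) (.leaf ([]))) (.leaf ([3, (-1), 0, 4]))) (.node (.node (.leaf ([])) (.leaf ([2, 2, (-7), 6]))) (.leaf ([])))) (.node (.node (.node (.leaf ([])) (.leaf ([(-1), 0,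 1, (-3)]))) (.leaf ([]))) (.node (.node (.leaf ([1, 0, 0, 2])) (.leaf ([(-6), 4, (-5), (-5)]))) (.leaf ([]))))) (.node (.node (.node (.node (.leaf ([1])) (.leaf ([]))) (.leaf ([]))) (.node (.node (.leaf ([])) (.leaf ([(-2), 1, (-1), (-2)]))) (.leaf ([])))) (.node (.node (.node (.leaf ([])) (.leaf ([4, (-3), 4, 1]))) (.leaf ([2, (-2), 4, (-1)]))) (.node (.leaf ([])) (.leaf ([(-1), 1, (-2), (-1)])))))))))))) (.node (.node (.node (.node (.node (.node (.node (.node (.node (.node (.node (.leaf ([])) (.leaf ([7, 1, (-9), 15]))) (.leaf ([]))) (.node (.node (.leaf ([(-3), 0, 3, (-6)])) (.leaf ([(-1), 0, 1, (-3)]))) (.leaf ([])))) (.node (.node (.node (.leaf ([])) (.leaf ([]))) (.leaf ([1, 0, 1]))) (.node (.node (.leaf ([])) (.leaf ([5, (-1), (-1), 8]))) (.leaf ([]))))) (.node (.node (.node (.node (.leaf ([])) (.leaf ([0, (-1), 3, (-3)]))) (.leaf ([(-3), 3, (-5)]))) (.node (.node (.leaf ([(-1), 1, 0, (-1)])) (.leaf ([2, 0, (-2), 3]))) (.leaf ([0, 1, (-1)]))))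 (.node (.node (.node (.leaf ([])) (.leaf ([]))) (.leaf ([(-2), 3, (-5), 2]))) (.node (.node (.leaf ([])) (.leaf ([0, 1, (-1)]))) (.leaf ([0, 0, 2, (-1)])))))) (.node (.node (.node (.node (.node (.leaf ([])) (.leaf ([3, (-1), 1, 3]))) (.leaf ([]))) (.node (.node (.leaf ([])) (.leaf ([0, 1]))) (.leaf ([4, (-1), 0, 4])))) (.node (.node (.node (.leaf ([])) (.leaf ([1, 0, 1]))) (.leaf ([0, 0, 1]))) (.node (.node (.leaf ([0, 1, (-1), 1])) (.leaf ([15, (-6), 4, 17]))) (.leaf ([0, 0, 2]))))) (.node (.node (.node (.node (.leaf ([0, 1])) (.leaf ([]))) (.leaf ([0, 1]))) (.node (.node (.leaf ([0, 0, 1])) (.leaf ([1, 0, 2]))) (.leaf ([0, 0, 1, (-1)])))) (.node (.node (.node (.leaf ([])) (.leaf ([(-1), 0, 2, (-2)]))) (.leaf ([]))) (.node (.leaf ([8, (-2), (-1), 12])) (.leaf ([]))))))) (.node (.node (.node (.node (.node (.node (.leaf ([])) (.leaf ([1, 1, (-4), 3]))) (.leaf ([]))) (.node (.node (.leaf ([])) (.leaf ([(-9), 6, (-8), (-7)]))) (.leaf ([0, 0, 1, (-1)]))))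 (.node (.node (.node (.leaf ([])) (.leaf ([1, (-1), 3, (-1)]))) (.leaf ([(-1), 1, (-1)]))) (.node (.node (.leaf ([])) (.leaf ([]))) (.leaf ([1, 1, (-4), 3]))))) (.node (.node (.node (.node (.leaf ([])) (.leaf ([]))) (.leaf ([2, (-1), 2, 1]))) (.node (.node (.leaf ([])) (.leaf ([0, 1]))) (.leaf ([])))) (.node (.node (.node (.leaf ([])) (.leaf ([4, (-4), 10, (-1)]))) (.leaf ([]))) (.node (.node (.leaf ([(-1), 1, (-1)])) (.leaf ([21, (-10), 10, 20]))) (.leaf ([(-2), 1, (-2), (-2)])))))) (.node (.node (.node (.node (.node (.leaf ([0, 1])) (.leaf ([]))) (.leaf ([0, 1]))) (.node (.node (.leaf ([(-1), 1, (-1)])) (.leaf ([3, (-3), 7, (-1)]))) (.leaf ([2, (-1), 3, 1])))) (.node (.node (.node (.leaf ([])) (.leaf ([0, 1, (-1), 1]))) (.leaf ([]))) (.node (.node (.leaf ([])) (.leaf ([(-1), 0, 2, (-2)]))) (.leaf ([0, 1]))))) (.node (.node (.node (.node (.leaf ([])) (.leaf ([]))) (.leaf ([2, (-1), 2, 1]))) (.node (.node (.leaf ([(-2), 1, (-1), (-2)])) (.leaf ([1, 0,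 0, 1]))) (.leaf ([])))) (.node (.node (.node (.leaf ([(-1), 1, (-1)])) (.leaf ([]))) (.leaf ([(-5), 3, (-3), (-4)]))) (.node (.leaf ([])) (.leaf ([1, 0, 0, 1])))))))) (.node (.node (.node (.node (.node (.node (.node (.leaf ([])) (.leaf ([0, 0, 1]))) (.leaf ([]))) (.node (.node (.leaf ([])) (.leaf ([]))) (.leaf ([])))) (.node (.node (.node (.leaf ([])) (.leaf ([]))) (.leaf ([]))) (.node (.node (.leaf ([])) (.leaf ([26, (-12), 10, 28]))) (.leaf ([0, 1]))))) (.node (.node (.node (.node (.leaf ([0, 1])) (.leaf ([]))) (.leaf ([]))) (.node (.node (.leaf ([])) (.leaf ([5, (-3), 4, 3]))) (.leaf ([])))) (.node (.node (.node (.leaf ([])) (.leaf ([1, (-1), 3, (-1)]))) (.leaf ([0, 1, (-1), 1]))) (.node (.node (.leaf ([])) (.leaf ([(-7), 5, (-7), (-5)]))) (.leaf ([])))))) (.node (.node (.node (.node (.node (.leaf ([])) (.leaf ([(-1), 1, 0, (-2)]))) (.leaf ([]))) (.node (.node (.leaf ([0, 1])) (.leaf ([]))) (.leaf ([0, 0, 1, (-1)])))) (.node (.node (.node (.leaf ([0,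 1])) (.leaf ([]))) (.leaf ([]))) (.node (.node (.leaf ([])) (.leaf ([1, (-1), 4, (-1)]))) (.leaf ([0, 0, 1, (-1)]))))) (.node (.node (.node (.node (.leaf ([])) (.leaf ([5, (-4), 8, 2]))) (.leaf ([]))) (.node (.node (.leaf ([])) (.leaf ([0, 1, (-1), 1]))) (.leaf ([0, 0, 1])))) (.node (.node (.node (.leaf ([])) (.leaf ([(-1), 0, 4, (-3)]))) (.leaf ([]))) (.node (.leaf ([])) (.leaf ([(-4), 2, (-1), (-4)]))))))) (.node (.node (.node (.node (.node (.node (.leaf ([])) (.leaf ([]))) (.leaf ([2, 0, (-2), 3]))) (.node (.node (.leaf ([])) (.leaf ([0, 0, 2]))) (.leaf ([])))) (.node (.node (.node (.leaf ([])) (.leaf ([0, 2, (-6), 4]))) (.leaf ([1, (-1), 2, (-1)]))) (.node (.node (.leaf ([])) (.leaf ([]))) (.leaf ([]))))) (.node (.node (.node (.node (.leaf ([])) (.leaf ([4, (-4), 8]))) (.leaf ([]))) (.node (.node (.leaf ([0, 1])) (.leaf ([1, (-1), 4, (-2)]))) (.leaf ([])))) (.node (.node (.node (.leaf ([])) (.leaf ([0, 0, 1]))) (.leaf ([1, (-1), 2]))) (.node (.node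 (.leaf ([(-1), 0, 2, (-2)])) (.leaf ([2, 1, (-4), 4]))) (.leaf ([0, 1])))))) (.node (.node (.node (.node (.node (.leaf ([])) (.leaf ([]))) (.leaf ([0, 0, 1]))) (.node (.node (.leaf ([])) (.leaf ([]))) (.leaf ([])))) (.node (.node (.node (.leaf ([])) (.leaf ([0, 0, 1]))) (.leaf ([]))) (.node (.node (.leaf ([6, (-4), 7, 4])) (.leaf ([16, (-7), 6, 17]))) (.leaf ([]))))) (.node (.node (.node (.node (.leaf ([])) (.leaf ([]))) (.leaf ([3, (-2), 4, 1]))) (.node (.node (.leaf ([0, 0, 1])) (.leaf ([(-2), 0, 2, (-4)]))) (.leaf ([0, 1])))) (.node (.node (.node (.leaf ([])) (.leaf ([1, 0, 0, 1]))) (.leaf ([]))) (.node (.leaf ([])) (.leaf ([(-2), 1, 2, (-3)]))))))))) (.node (.node (.node (.node (.node (.node (.node (.node (.leaf ([])) (.leaf ([0, 1, (-2), 1]))) (.leaf ([1, 0, 1]))) (.node (.node (.leaf ([])) (.leaf ([(-1), 1, (-1), (-1)]))) (.leaf ([1, 0, 0, 1])))) (.node (.node (.node (.leaf ([])) (.leaf ([]))) (.leaf ([]))) (.node (.node (.leaf ([])) (.leaf ([0,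 1]))) (.leaf ([3, 1, (-3), 6]))))) (.node (.node (.node (.node (.leaf ([])) (.leaf ([11, (-5), 3, 12]))) (.leaf ([0, 1, (-1), 1]))) (.node (.node (.leaf ([])) (.leaf ([0, (-1), 6, (-3)]))) (.leaf ([])))) (.node (.node (.node (.leaf ([])) (.leaf ([0, 1]))) (.leaf ([(-3), 1, 0, (-4)]))) (.node (.node (.leaf ([(-1), (-1), 5, (-4)])) (.leaf ([(-28), 17, (-21), (-22)]))) (.leaf ([])))))) (.node (.node (.node (.node (.node (.leaf ([])) (.leaf ([]))) (.leaf ([]))) (.node (.node (.leaf ([])) (.leaf ([1, 0, 1, 1]))) (.leaf ([0, 1, (-2), 1])))) (.node (.node (.node (.leaf ([])) (.leaf ([]))) (.leaf ([(-3), 2, (-3), (-2)]))) (.node (.node (.leaf ([])) (.leaf ([]))) (.leaf ([]))))) (.node (.node (.node (.node (.leaf ([])) (.leaf ([4, (-1), 0, 5]))) (.leaf ([0, 1, (-1)]))) (.node (.node (.leaf ([])) (.leaf ([1, (-1), 2]))) (.leaf ([2, 0, (-2), 3])))) (.node (.node (.node (.leaf ([])) (.leaf ([0, 1]))) (.leaf ([(-1), 2, (-2), 1]))) (.node (.leaf ([(-3), 1, 1, (-4)]))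 (.leaf ([(-1), 0, 3, (-3)]))))))) (.node (.node (.node (.node (.node (.node (.leaf ([])) (.leaf ([]))) (.leaf ([]))) (.node (.node (.leaf ([0, 1])) (.leaf ([]))) (.leaf ([0, 1])))) (.node (.node (.node (.leaf ([])) (.leaf ([(-3), 1, 1, (-4)]))) (.leaf ([]))) (.node (.node (.leaf ([0, 0, 1])) (.leaf ([2, (-2), 6, (-2)]))) (.leaf ([(-1), 1, (-1), (-1)]))))) (.node (.node (.node (.node (.leaf ([0, 1])) (.leaf ([(-1), (-4), 14, (-11)]))) (.leaf ([0, 1]))) (.node (.node (.leaf ([])) (.leaf ([2, (-2), 5, (-1)]))) (.leaf ([0, 0, 1, (-1)])))) (.node (.node (.node (.leaf ([])) (.leaf ([(-2), 6, (-16), 8]))) (.leaf ([0, 1, (-1), 1]))) (.node (.node (.leaf ([])) (.leaf ([0, 1]))) (.leaf ([(-1), 2, (-3), 1])))))) (.node (.node (.node (.node (.node (.leaf ([])) (.leaf ([0, 1]))) (.leaf ([]))) (.node (.node (.leaf ([0, 1, (-1), 1])) (.leaf ([19, (-11), 14, 16]))) (.leaf ([])))) (.node (.node (.node (.leaf ([0, 1])) (.leaf ([(-4), 4, (-8), (-1)]))) (.leaf ([]))) (.node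 (.node (.leaf ([(-1), 1, (-2)])) (.leaf ([2, (-1), 3]))) (.leaf ([]))))) (.node (.node (.node (.node (.leaf ([])) (.leaf ([0, 0, 1, (-1)]))) (.leaf ([(-1), 1, (-2)]))) (.node (.node (.leaf ([])) (.leaf ([0, (-5), 16, (-11)]))) (.leaf ([4, (-2), 3, 4])))) (.node (.node (.node (.leaf ([])) (.leaf ([]))) (.leaf ([(-2), 1, 1, (-2)]))) (.node (.leaf ([0, 1])) (.leaf ([])))))))) (.node (.node (.node (.node (.node (.node (.node (.leaf ([])) (.leaf ([(-4), 3, (-2), (-2)]))) (.leaf ([(-1), 0, 3, (-4)]))) (.node (.node (.leaf ([])) (.leaf ([]))) (.leaf ([])))) (.node (.node (.node (.leaf ([])) (.leaf ([]))) (.leaf ([]))) (.node (.node (.leaf ([0, 1])) (.leaf ([2, (-1), 3]))) (.leaf ([1, 0, 1]))))) (.node (.node (.node (.node (.leaf ([])) (.leaf ([]))) (.leaf ([]))) (.node (.node (.leaf ([])) (.leaf ([(-5), 2, 0, (-6)]))) (.leaf ([])))) (.node (.node (.node (.leaf ([(-1), 1, 0, (-1)])) (.leaf ([0, 0, 1, (-1)]))) (.leaf ([]))) (.node (.node (.leaf ([])) (.leaf ([(-8),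 3, 1, (-12)]))) (.leaf ([])))))) (.node (.node (.node (.node (.node (.leaf ([])) (.leaf ([]))) (.leaf ([]))) (.node (.node (.leaf ([])) (.leaf ([1, 3, (-9), 7]))) (.leaf ([1, 0, 1])))) (.node (.node (.node (.leaf ([(-1), 0, 2, (-2)])) (.leaf ([]))) (.leaf ([]))) (.node (.node (.leaf ([1, 0, 0, 1])) (.leaf ([21, (-13), 19, 15]))) (.leaf ([0, 0, 1]))))) (.node (.node (.node (.node (.leaf ([])) (.leaf ([7, (-4), 6, 6]))) (.leaf ([]))) (.node (.node (.leaf ([0, 0, 1])) (.leaf ([(-6), 9, (-20), 6]))) (.leaf ([(-3), 2, (-3), (-2)])))) (.node (.node (.node (.leaf ([])) (.leaf ([0, 1]))) (.leaf ([1, (-1), 3]))) (.node (.leaf ([])) (.leaf ([0, 1]))))))) (.node (.node (.node (.node (.node (.node (.leaf ([])) (.leaf ([1, (-1), 4, (-2)]))) (.leaf ([1, 0, 0, 1]))) (.node (.node (.leaf ([])) (.leaf ([0, 0, 1]))) (.leaf ([])))) (.node (.node (.node (.leaf ([])) (.leaf ([2, 0, (-1), 4]))) (.leaf ([]))) (.node (.node (.leaf ([3, (-1), 1, 4])) (.leaf ([]))) (.leaf ([])))))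 (.node (.node (.node (.node (.leaf ([])) (.leaf ([5, (-3), 6, 2]))) (.leaf ([1, 0, 0, 2]))) (.node (.node (.leaf ([])) (.leaf ([]))) (.leaf ([(-3), 2, (-1), (-3)])))) (.node (.node (.node (.leaf ([])) (.leaf ([0, 1]))) (.leaf ([10, (-4), 3, 12]))) (.node (.leaf ([0, 1, (-2), 2])) (.leaf ([0, (-1), 5, (-4)])))))) (.node (.node (.node (.node (.node (.leaf ([])) (.leaf ([0, 0, 1, (-1)]))) (.leaf ([]))) (.node (.node (.leaf ([1, (-1), 2, (-1)])) (.leaf ([0, 1]))) (.leaf ([])))) (.node (.node (.node (.leaf ([])) (.leaf ([0, 1, 0, 1]))) (.leaf ([]))) (.node (.node (.leaf ([])) (.leaf ([(-1), 7, (-19), 12]))) (.leaf ([3, (-1), 1, 4]))))) (.node (.node (.node (.node (.leaf ([])) (.leaf ([]))) (.leaf ([]))) (.node (.node (.leaf ([])) (.leaf ([6, (-8), 18, (-4)]))) (.leaf ([])))) (.node (.node (.node (.leaf ([0, 0, 1])) (.leaf ([1, 0, 0, 1]))) (.leaf ([4, (-3), 5, 1]))) (.node (.leaf ([])) (.leaf ([])))))))))) (.node (.node (.node (.node (.node (.node (.node (.node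 (.node (.leaf ([])) (.leaf ([]))) (.leaf ([0, 1]))) (.node (.node (.leaf ([])) (.leaf ([1, 1, (-3), 3]))) (.leaf ([])))) (.node (.node (.node (.leaf ([])) (.leaf ([1, 0, 1, 1]))) (.leaf ([]))) (.node (.node (.leaf ([0, 1])) (.leaf ([0, 1]))) (.leaf ([(-4), 5, (-10), 1]))))) (.node (.node (.node (.node (.leaf ([])) (.leaf ([]))) (.leaf ([]))) (.node (.node (.leaf ([])) (.leaf ([4, (-1), 1, 4]))) (.leaf ([])))) (.node (.node (.node (.leaf ([])) (.leaf ([0, 1]))) (.leaf ([]))) (.node (.node (.leaf ([])) (.leaf ([12, (-12), 24]))) (.leaf ([])))))) (.node (.node (.node (.node (.node (.leaf ([0, 1])) (.leaf ([(-11), 6, (-6), (-10)]))) (.leaf ([]))) (.node (.node (.leaf ([(-1), 1, (-1)])) (.leaf ([]))) (.leaf ([])))) (.node (.node (.node (.leaf ([])) (.leaf ([6, (-3), 4, 6]))) (.leaf ([1, 0, 0, 1]))) (.node (.node (.leaf ([])) (.leaf ([0, 0, 1, (-1)]))) (.leaf ([]))))) (.node (.node (.node (.node (.leaf ([])) (.leaf ([]))) (.leaf ([]))) (.node (.node (.leaf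 ([])) (.leaf ([(-3), 3, (-4), (-1)]))) (.leaf ([(-1), 1, (-2), (-1)])))) (.node (.node (.node (.leaf ([])) (.leaf ([10, (-3), (-2), 14]))) (.leaf ([]))) (.node (.leaf ([])) (.leaf ([2, (-1), 2, 1]))))))) (.node (.node (.node (.node (.node (.node (.leaf ([])) (.leaf ([]))) (.leaf ([]))) (.node (.node (.leaf ([])) (.leaf ([]))) (.leaf ([])))) (.node (.node (.node (.leaf ([0, 1])) (.leaf ([(-7), 3, (-1), (-8)]))) (.leaf ([]))) (.node (.node (.leaf ([])) (.leaf ([3, 0, (-1), 4]))) (.leaf ([(-2), 2, (-3), (-1)]))))) (.node (.node (.node (.node (.leaf ([])) (.leaf ([]))) (.leaf ([]))) (.node (.node (.leaf ([])) (.leaf ([0, 0, 2, (-1)]))) (.leaf ([])))) (.node (.node (.node (.leaf ([0, 0, 1])) (.leaf ([(-10), 6, (-8), (-9)]))) (.leaf ([0, 1, (-2), 1]))) (.node (.node (.leaf ([0, 1])) (.leaf ([(-15), 13, (-23), (-4)]))) (.leaf ([(-1), 1, (-1)])))))) (.node (.node (.node (.node (.node (.leaf ([])) (.leaf ([1, 0, 1]))) (.leaf ([12, (-6), 6, 12]))) (.node (.node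 (.leaf ([])) (.leaf ([3, 0, (-1), 4]))) (.leaf ([0, 1])))) (.node (.node (.node (.leaf ([])) (.leaf ([]))) (.leaf ([]))) (.node (.node (.leaf ([0, 1])) (.leaf ([]))) (.leaf ([(-6), 3, (-3), (-6)]))))) (.node (.node (.node (.node (.leaf ([0, 1])) (.leaf ([2, (-1), 3, 1]))) (.leaf ([1, 0, (-1), 1]))) (.node (.node (.leaf ([])) (.leaf ([]))) (.leaf ([])))) (.node (.node (.node (.leaf ([])) (.leaf ([5, (-6), 14, (-2)]))) (.leaf ([]))) (.node (.leaf ([])) (.leaf ([])))))))) (.node (.node (.node (.node (.node (.node (.node (.leaf ([])) (.leaf ([(-3), 1, 2, (-4)]))) (.leaf ([0, 1]))) (.node (.node (.leaf ([])) (.leaf ([(-1), 0, 2, (-3)]))) (.leaf ([0, 0, 1, (-1)])))) (.node (.node (.node (.leaf ([0, 1])) (.leaf ([(-5), 3, (-4), (-4)]))) (.leaf ([]))) (.node (.node (.leaf ([])) (.leaf ([]))) (.leaf ([]))))) (.node (.node (.node (.node (.leaf ([])) (.leaf ([1, 1, (-3), 3]))) (.leaf ([]))) (.node (.node (.leaf ([])) (.leaf ([(-6), 3, (-1), (-8)]))) (.leaf ([]))))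 (.node (.node (.node (.leaf ([])) (.leaf ([]))) (.leaf ([]))) (.node (.node (.leaf ([0, 0, 1])) (.leaf ([0, 1]))) (.leaf ([0, 1])))))) (.node (.node (.node (.node (.node (.leaf ([])) (.leaf ([]))) (.leaf ([]))) (.node (.node (.leaf ([(-1), 1, (-1)])) (.leaf ([3, (-1), 3, 2]))) (.leaf ([])))) (.node (.node (.node (.leaf ([(-5), 3, (-3), (-4)])) (.leaf ([(-5), 3, (-2), (-5)]))) (.leaf ([]))) (.node (.node (.leaf ([])) (.leaf ([11, (-6), 9, 9]))) (.leaf ([(-1), 1, 0, (-1)]))))) (.node (.node (.node (.node (.leaf ([])) (.leaf ([0, 0, 1]))) (.leaf ([(-2), 2, (-2), (-1)]))) (.node (.node (.leaf ([(-1), 1, (-1)])) (.leaf ([(-2), 2, (-3)]))) (.leaf ([1, 0, 0, 1])))) (.node (.node (.node (.leaf ([0, 0, 1])) (.leaf ([(-4), 2, 0, (-5)]))) (.leaf ([]))) (.node (.leaf ([])) (.leaf ([]))))))) (.node (.node (.node (.node (.node (.node (.leaf ([])) (.leaf ([5, 0, (-3), 8]))) (.leaf ([]))) (.node (.node (.leaf ([])) (.leaf ([(-2), 2, (-3), (-1)]))) (.leaf ([(-5), 1,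 3, (-8)])))) (.node (.node (.node (.leaf ([])) (.leaf ([(-1), 4, (-9), 4]))) (.leaf ([0, 0, 1, (-1)]))) (.node (.node (.leaf ([1, 0, 0, 1])) (.leaf ([(-6), 4, (-4), (-6)]))) (.leaf ([1, 0, 0, 2]))))) (.node (.node (.node (.node (.leaf ([])) (.leaf ([0, (-2), 6, (-5)]))) (.leaf ([(-1), 1, (-1), (-1)]))) (.node (.node (.leaf ([])) (.leaf ([(-2), 3, (-7), 2]))) (.leaf ([])))) (.node (.node (.node (.leaf ([])) (.leaf ([1, 0, 1]))) (.leaf ([]))) (.node (.node (.leaf ([])) (.leaf ([(-2), 9, (-24), 12]))) (.leaf ([])))))) (.node (.node (.node (.node (.node (.leaf ([0, 1])) (.leaf ([]))) (.leaf ([(-1), 1, (-1)]))) (.node (.node (.leaf ([0, 0, 1, (-1)])) (.leaf ([]))) (.leaf ([0, 0, 1])))) (.node (.node (.node (.leaf ([1, 0, 1])) (.leaf ([]))) (.leaf ([1, (-1), 4, (-1)]))) (.node (.node (.leaf ([0, 0, 1])) (.leaf ([]))) (.leaf ([1, 0, 1, 1]))))) (.node (.node (.node (.node (.leaf ([])) (.leaf ([0, 1]))) (.leaf ([]))) (.node (.node (.leaf ([])) (.leaf ([(-1),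 2, (-4), 1]))) (.leaf ([])))) (.node (.node (.node (.leaf ([(-1), 1, (-1)])) (.leaf ([0, 1]))) (.leaf ([1, 1, (-3), 2]))) (.node (.leaf ([])) (.leaf ([1, (-2), 8, (-3)]))))))))) (.node (.node (.node (.node (.node (.node (.node (.node (.leaf ([])) (.leaf ([(-1), 0, 2, (-2)]))) (.leaf ([]))) (.node (.node (.leaf ([1, 0, 0, 1])) (.leaf ([]))) (.leaf ([(-2), 0, 3, (-5)])))) (.node (.node (.node (.leaf ([])) (.leaf ([(-6), 3, (-3), (-6)]))) (.leaf ([]))) (.node (.node (.leaf ([])) (.leaf ([(-1), 1, (-1)]))) (.leaf ([]))))) (.node (.node (.node (.node (.leaf ([])) (.leaf ([]))) (.leaf ([]))) (.node (.node (.leaf ([0, 0, 1])) (.leaf ([]))) (.leaf ([0, 1, (-2), 1])))) (.node (.node (.node (.leaf ([0, 0, 1, (-1)])) (.leaf ([0, 0, 2, (-1)]))) (.leaf ([]))) (.node (.node (.leaf ([])) (.leaf ([3, (-1), 2, 2]))) (.leaf ([(-1), 1, (-2)])))))) (.node (.node (.node (.node (.node (.leaf ([])) (.leaf ([]))) (.leaf ([3, (-1), 1, 3]))) (.node (.node (.leaf ([(-2), 1, 1,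 (-3)])) (.leaf ([]))) (.leaf ([0, 1, (-1)])))) (.node (.node (.node (.leaf ([])) (.leaf ([]))) (.leaf ([4, (-3), 4, 2]))) (.node (.node (.leaf ([1, 0, 1])) (.leaf ([2, (-2), 6, (-2)]))) (.leaf ([2, 0, 0, 3]))))) (.node (.node (.node (.node (.leaf ([])) (.leaf ([]))) (.leaf ([1, 1, (-3), 3]))) (.node (.node (.leaf ([])) (.leaf ([]))) (.leaf ([])))) (.node (.node (.node (.leaf ([0, 0, 1])) (.leaf ([(-4), 3, (-3), (-3)]))) (.leaf ([0, 0, 2]))) (.node (.leaf ([])) (.leaf ([]))))))) (.node (.node (.node (.node (.node (.node (.leaf ([])) (.leaf ([0, 1, (-1)]))) (.leaf ([]))) (.node (.node (.leaf ([])) (.leaf ([(-4), 4, (-7)]))) (.leaf ([])))) (.node (.node (.node (.leaf ([(-1), 1, (-1)])) (.leaf ([3, 0, (-1), 4]))) (.leaf ([0, 0, 1, (-1)]))) (.node (.node (.leaf ([(-2), 2, (-3)])) (.leaf ([0, 1]))) (.leaf ([(-1), 1, (-1), (-1)]))))) (.node (.node (.node (.node (.leaf ([])) (.leaf ([]))) (.leaf ([3, 1, (-6), 8]))) (.node (.node (.leaf ([])) (.leaf ([]))) (.leaf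 ([])))) (.node (.node (.node (.leaf ([])) (.leaf ([11, (-2), (-3), 16]))) (.leaf ([(-2), 2, (-3), (-1)]))) (.node (.node (.leaf ([0, 0, 1])) (.leaf ([(-7), 6, (-9), (-3)]))) (.leaf ([2, (-1), 2, 1])))))) (.node (.node (.node (.node (.node (.leaf ([])) (.leaf ([1, 1, (-2), 3]))) (.leaf ([4, (-2), 2, 3]))) (.node (.node (.leaf ([])) (.leaf ([3, 2, (-8), 9]))) (.leaf ([0, 1, (-1)])))) (.node (.node (.node (.leaf ([])) (.leaf ([(-11), 6, (-6), (-10)]))) (.leaf ([]))) (.node (.node (.leaf ([])) (.leaf ([(-1), 2, (-4), 1]))) (.leaf ([]))))) (.node (.node (.node (.node (.leaf ([])) (.leaf ([(-1), 1, 0, (-1)]))) (.leaf ([]))) (.node (.node (.leaf ([])) (.leaf ([1, 0, 1]))) (.leaf ([])))) (.node (.node (.node (.leaf ([])) (.leaf ([0, (-2), 8, (-5)]))) (.leaf ([]))) (.node (.leaf ([1, 1, (-3), 4])) (.leaf ([1, (-3), 9, (-4)])))))))) (.node (.node (.node (.node (.node (.node (.node (.leaf ([0, 1])) (.leaf ([0, 1, 0, 1]))) (.leaf ([0, 0, 2, (-2)]))) (.node (.node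 (.leaf ([])) (.leaf ([2, 0, (-2), 3]))) (.leaf ([(-2), 3, (-6), 1])))) (.node (.node (.node (.leaf ([])) (.leaf ([]))) (.leaf ([]))) (.node (.node (.leaf ([0, 1, (-3), 2])) (.leaf ([4, (-1), 0, 4]))) (.leaf ([(-1), 1, (-2)]))))) (.node (.node (.node (.node (.leaf ([])) (.leaf ([]))) (.leaf ([1, 0, 0, 1]))) (.node (.node (.leaf ([])) (.leaf ([3, (-3), 7, (-1)]))) (.leaf ([(-3), 1, 1, (-4)])))) (.node (.node (.node (.leaf ([])) (.leaf ([(-6), 3, (-1), (-8)]))) (.leaf ([1, 0, 1]))) (.node (.node (.leaf ([0, 0, 1])) (.leaf ([3, 0, (-1), 4]))) (.leaf ([])))))) (.node (.node (.node (.node (.node (.leaf ([])) (.leaf ([]))) (.leaf ([(-1), 1, (-1), (-1)]))) (.node (.node (.leaf ([1, 0, 0, 1])) (.leaf ([(-1), 1, 1, (-1)]))) (.leaf ([7, (-4), 7, 4])))) (.node (.node (.node (.leaf ([])) (.leaf ([0, (-1), 6, (-3)]))) (.leaf ([]))) (.node (.node (.leaf ([3, (-2), 2, 2])) (.leaf ([(-3), 1, 1, (-4)]))) (.leaf ([]))))) (.node (.node (.node (.node (.leaf ([])) (.leaf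 ([0, 1]))) (.leaf ([0, 1]))) (.node (.node (.leaf ([])) (.leaf ([]))) (.leaf ([1, 0, (-2), 2])))) (.node (.node (.node (.leaf ([])) (.leaf ([(-1), 1, (-1)]))) (.leaf ([0, 0, 1]))) (.node (.leaf ([])) (.leaf ([]))))))) (.node (.node (.node (.node (.node (.node (.leaf ([])) (.leaf ([(-3), 2, (-1), (-4)]))) (.leaf ([0, 0, 1]))) (.node (.node (.leaf ([0, 1])) (.leaf ([2, (-1), 2, 1]))) (.leaf ([])))) (.node (.node (.node (.leaf ([0, 1])) (.leaf ([]))) (.leaf ([]))) (.node (.node (.leaf ([])) (.leaf ([(-3), 4, (-8), 1]))) (.leaf ([]))))) (.node (.node (.node (.node (.leaf ([])) (.leaf ([(-1), 1, (-2)]))) (.leaf ([]))) (.node (.node (.leaf ([])) (.leaf ([9, (-3), 2, 10]))) (.leaf ([0, (-1), 4, (-3)])))) (.node (.node (.node (.leaf ([(-1), 1, (-2)])) (.leaf ([0, 1, (-2), 1]))) (.leaf ([]))) (.node (.leaf ([0, 0, 1])) (.leaf ([2, (-3), 8, (-2)])))))) (.node (.node (.node (.node (.node (.leaf ([])) (.leaf ([5, (-3), 4, 3]))) (.leaf ([1, 0, 0, 1]))) (.node (.node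 (.leaf ([])) (.leaf ([]))) (.leaf ([(-10), 5, (-4), (-10)])))) (.node (.node (.node (.leaf ([])) (.leaf ([]))) (.leaf ([]))) (.node (.node (.leaf ([])) (.leaf ([0, 1]))) (.leaf ([]))))) (.node (.node (.node (.node (.leaf ([0, 1])) (.leaf ([]))) (.leaf ([]))) (.node (.node (.leaf ([])) (.leaf ([9, (-3), 0, 12]))) (.leaf ([])))) (.node (.node (.node (.leaf ([])) (.leaf ([0, 1]))) (.leaf ([]))) (.node (.leaf ([])) (.leaf ([(-2), 1, 2, (-3)]))))))))))) (.node (.node (.node (.node (.node (.node (.node (.node (.node (.node (.leaf ([])) (.leaf ([]))) (.leaf ([]))) (.node (.node (.leaf ([])) (.leaf ([]))) (.leaf ([])))) (.node (.node (.node (.leaf ([])) (.leaf ([0, 1, (-1)]))) (.leaf ([(-3), 1, 1, (-4)]))) (.node (.node (.leaf ([])) (.leaf ([0, 1]))) (.leaf ([]))))) (.node (.node (.node (.node (.leaf ([])) (.leaf ([0, 0, 1]))) (.leaf ([0, 1]))) (.node (.node (.leaf ([])) (.leaf ([4, (-1), 1, 4]))) (.leaf ([1, 0, (-1), 1])))) (.node (.node (.node (.leaf ([]))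 (.leaf ([2, (-2), 5, (-1)]))) (.leaf ([(-3), 2, (-1), (-2)]))) (.node (.node (.leaf ([0, 1])) (.leaf ([(-4), 2, 0, (-5)]))) (.leaf ([(-2), 2, (-4)])))))) (.node (.node (.node (.node (.node (.leaf ([])) (.leaf ([]))) (.leaf ([]))) (.node (.node (.leaf ([(-3), 0, 3, (-6)])) (.leaf ([0, 1, (-3), 2]))) (.leaf ([])))) (.node (.node (.node (.leaf ([0, 0, 1])) (.leaf ([]))) (.leaf ([0, 1]))) (.node (.node (.leaf ([])) (.leaf ([5, (-1), 0, 7]))) (.leaf ([0, 1]))))) (.node (.node (.node (.node (.leaf ([])) (.leaf ([(-2), 3, (-6), 1]))) (.leaf ([]))) (.node (.node (.leaf ([0, 1])) (.leaf ([0, 1, (-2), 1]))) (.leaf ([0, 1])))) (.node (.node (.node (.leaf ([(-1), 1, (-1), (-1)])) (.leaf ([1, 4, (-13), 10]))) (.leaf ([0, 0, 1]))) (.node (.leaf ([])) (.leaf ([(-3), 2, (-2), (-2)]))))))) (.node (.node (.node (.node (.node (.node (.leaf ([])) (.leaf ([(-1), 0, 2, (-4)]))) (.leaf ([]))) (.node (.node (.leaf ([])) (.leaf ([(-1), 2, (-4), 1]))) (.leaf ([])))) (.node (.node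 (.node (.leaf ([])) (.leaf ([]))) (.leaf ([(-1), 1, 0, (-1)]))) (.node (.node (.leaf ([])) (.leaf ([4, 0, (-3), 6]))) (.leaf ([]))))) (.node (.node (.node (.node (.leaf ([])) (.leaf ([1, (-1), 4, (-1)]))) (.leaf ([1, 0, 0, 1]))) (.node (.node (.leaf ([0, 1, (-1)])) (.leaf ([2, (-2), 5, (-2)]))) (.leaf ([])))) (.node (.node (.node (.leaf ([])) (.leaf ([0, 1, (-2), 1]))) (.leaf ([]))) (.node (.node (.leaf ([0, 0, 2])) (.leaf ([2, 3, (-9), 9]))) (.leaf ([])))))) (.node (.node (.node (.node (.node (.leaf ([])) (.leaf ([]))) (.leaf ([]))) (.node (.node (.leaf ([0, 1])) (.leaf ([4, 0, (-3), 6]))) (.leaf ([])))) (.node (.node (.node (.leaf ([(-1), 1, (-1)])) (.leaf ([(-2), 1, 2, (-3)]))) (.leaf ([]))) (.node (.node (.leaf ([0, 0, 1, (-1)])) (.leaf ([(-1), 2, (-3), 1]))) (.leaf ([(-2), 2, (-4)]))))) (.node (.node (.node (.node (.leaf ([0, 0, 1])) (.leaf ([]))) (.leaf ([0, 1]))) (.node (.node (.leaf ([])) (.leaf ([1, 2, (-6), 5]))) (.leaf ([])))) (.node (.node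 (.node (.leaf ([0, 1])) (.leaf ([0, 1]))) (.leaf ([]))) (.node (.leaf ([])) (.leaf ([5, (-3), 3, 4])))))))) (.node (.node (.node (.node (.node (.node (.node (.leaf ([])) (.leaf ([(-1), 0, 2, (-2)]))) (.leaf ([3, (-2), 5]))) (.node (.node (.leaf ([0, 0, 1])) (.leaf ([(-4), 4, (-7), (-1)]))) (.leaf ([0, 0, 0, (-1)])))) (.node (.node (.node (.leaf ([0, 0, 1])) (.leaf ([0, 1]))) (.leaf ([0, 1]))) (.node (.node (.leaf ([])) (.leaf ([(-1), 1, 0, (-1)]))) (.leaf ([]))))) (.node (.node (.node (.node (.leaf ([])) (.leaf ([5, (-2), 2, 6]))) (.leaf ([]))) (.node (.node (.leaf ([])) (.leaf ([(-3), 3, (-5), (-1)]))) (.leaf ([0, 0, 1])))) (.node (.node (.node (.leaf ([])) (.leaf ([0, 1]))) (.leaf ([(-2), 1, 1, (-2)]))) (.node (.node (.leaf ([])) (.leaf ([1, 0, 2]))) (.leaf ([(-5), 3, (-3), (-4)])))))) (.node (.node (.node (.node (.node (.leaf ([])) (.leaf ([(-4), 1, 2, (-7)]))) (.leaf ([]))) (.node (.node (.leaf ([])) (.leaf ([1, 0, 0, 1]))) (.leaf ([0, 1])))) (.node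 (.node (.node (.leaf ([])) (.leaf ([2, 0, (-2), 3]))) (.leaf ([]))) (.node (.node (.leaf ([])) (.leaf ([12, (-9), 15, 6]))) (.leaf ([(-3), 4, (-8), 2]))))) (.node (.node (.node (.node (.leaf ([])) (.leaf ([]))) (.leaf ([0, 0, 1]))) (.node (.node (.leaf ([])) (.leaf ([0, 1]))) (.leaf ([0, 1])))) (.node (.node (.node (.leaf ([])) (.leaf ([0, 1]))) (.leaf ([]))) (.node (.leaf ([])) (.leaf ([(-7), 3, 0, (-9)]))))))) (.node (.node (.node (.node (.node (.node (.leaf ([])) (.leaf ([]))) (.leaf ([(-1), 3, (-8), 3]))) (.node (.node (.leaf ([])) (.leaf ([0, 1]))) (.leaf ([])))) (.node (.node (.node (.leaf ([])) (.leaf ([(-1), 3, (-8), 4]))) (.leaf ([]))) (.node (.node (.leaf ([])) (.leaf ([0, 0, 0, (-1)]))) (.leaf ([]))))) (.node (.node (.node (.node (.leaf ([])) (.leaf ([0, 1]))) (.leaf ([2, 1, (-3), 4]))) (.node (.node (.leaf ([])) (.leaf ([(-5), 2, 1, (-7)]))) (.leaf ([0, 0, 2, (-1)])))) (.node (.node (.node (.leaf ([1, (-1), 2, (-1)])) (.leaf ([12, (-8), 14,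 6]))) (.leaf ([]))) (.node (.node (.leaf ([(-1), 1, (-1)])) (.leaf ([0, 1, (-1)]))) (.leaf ([(-5), 3, (-4), (-4)])))))) (.node (.node (.node (.node (.node (.leaf ([])) (.leaf ([(-1), 1, 0, (-1)]))) (.leaf ([0, 1]))) (.node (.node (.leaf ([])) (.leaf ([1, 0, 1]))) (.leaf ([])))) (.node (.node (.node (.leaf ([])) (.leaf ([1, 0, 0, 1]))) (.leaf ([]))) (.node (.node (.leaf ([])) (.leaf ([0, (-1), 4, (-2)]))) (.leaf ([0, 1, (-1)]))))) (.node (.node (.node (.node (.leaf ([])) (.leaf ([0, 1, (-1), 1]))) (.leaf ([1, 1, (-2), 2]))) (.node (.node (.leaf ([])) (.leaf ([0, (-2), 8, (-5)]))) (.leaf ([])))) (.node (.node (.node (.leaf ([])) (.leaf ([9, (-3), 1, 11]))) (.leaf ([]))) (.node (.leaf ([1, (-1), 2, (-1)])) (.leaf ([0, 1]))))))))) (.node (.node (.node (.node (.node (.node (.node (.node (.leaf ([])) (.leaf ([0, 1, (-1), 1]))) (.leaf ([0, 0, 0, (-1)]))) (.node (.node (.leaf ([])) (.leaf ([1, 1, (-3), 3]))) (.leaf ([])))) (.node (.node (.node (.leaf ([])) (.leaf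 ([]))) (.leaf ([]))) (.node (.node (.leaf ([])) (.leaf ([0, 0, 1, (-1)]))) (.leaf ([]))))) (.node (.node (.node (.node (.leaf ([])) (.leaf ([]))) (.leaf ([]))) (.node (.node (.leaf ([])) (.leaf ([(-2), 1, 2, (-3)]))) (.leaf ([2, 0, 0, 2])))) (.node (.node (.node (.leaf ([])) (.leaf ([0, 2, (-5), 2]))) (.leaf ([0, 1]))) (.node (.node (.leaf ([0, 1, (-1)])) (.leaf ([4, (-2), 3, 2]))) (.leaf ([0, 1])))))) (.node (.node (.node (.node (.node (.leaf ([])) (.leaf ([1, 0, (-1), 1]))) (.leaf ([]))) (.node (.node (.leaf ([])) (.leaf ([2, (-1), 2, 1]))) (.leaf ([1, 0, 1, 1])))) (.node (.node (.node (.leaf ([])) (.leaf ([0, 1]))) (.leaf ([]))) (.node (.node (.leaf ([])) (.leaf ([8, (-8), 17, (-1)]))) (.leaf ([(-2), (-1), 6, (-6)]))))) (.node (.node (.node (.node (.leaf ([])) (.leaf ([]))) (.leaf ([]))) (.node (.node (.leaf ([(-1), 0, 2, (-2)])) (.leaf ([(-4), 4, (-6), (-1)]))) (.leaf ([])))) (.node (.node (.node (.leaf ([])) (.leaf ([]))) (.leaf ([(-1), 1, (-1)])))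 (.node (.leaf ([])) (.leaf ([1, 0, 1]))))))) (.node (.node (.node (.node (.node (.node (.leaf ([0, 1])) (.leaf ([2, (-1), 2, 1]))) (.leaf ([0, 1]))) (.node (.node (.leaf ([])) (.leaf ([(-11), 7, (-9), (-8)]))) (.leaf ([0, 0, 1])))) (.node (.node (.node (.leaf ([(-2), 0, 2, (-4)])) (.leaf ([4, 0, (-3), 6]))) (.leaf ([]))) (.node (.node (.leaf ([0, 1])) (.leaf ([0, 1, (-1)]))) (.leaf ([(-1), 1, (-1), (-1)]))))) (.node (.node (.node (.node (.leaf ([])) (.leaf ([2, 0, 1, 2]))) (.leaf ([(-5), 4, (-7), (-2)]))) (.node (.node (.leaf ([])) (.leaf ([0, 1]))) (.leaf ([0, 1])))) (.node (.node (.node (.leaf ([])) (.leaf ([(-1), 0, 2, (-3)]))) (.leaf ([]))) (.node (.node (.leaf ([(-4), 0, 4, (-8)])) (.leaf ([20, (-17), 31, 6]))) (.leaf ([1, 1, (-3), 4])))))) (.node (.node (.node (.node (.node (.leaf ([])) (.leaf ([(-1), 1, 0, (-1)]))) (.leaf ([]))) (.node (.node (.leaf ([])) (.leaf ([10, (-6), 10, 6]))) (.leaf ([3, (-2), 3, 1])))) (.node (.node (.node (.leaf ([]))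 (.leaf ([]))) (.leaf ([]))) (.node (.node (.leaf ([0, 2, (-6), 4])) (.leaf ([(-5), 2, (-1), (-6)]))) (.leaf ([]))))) (.node (.node (.node (.node (.leaf ([])) (.leaf ([(-2), 3, (-6), 2]))) (.leaf ([1, 0, 1]))) (.node (.node (.leaf ([0, 1, (-2), 1])) (.leaf ([]))) (.leaf ([3, (-1), 1, 3])))) (.node (.node (.node (.leaf ([(-1), 0, 2, (-2)])) (.leaf ([(-22), 12, (-12), (-20)]))) (.leaf ([]))) (.node (.leaf ([(-1), 1, (-1)])) (.leaf ([4, 0, (-3), 8])))))))) (.node (.node (.node (.node (.node (.node (.node (.leaf ([])) (.leaf ([(-6), 4, (-5), (-4)]))) (.leaf ([]))) (.node (.node (.leaf ([])) (.leaf ([]))) (.leaf ([0, 1])))) (.node (.node (.node (.leaf ([])) (.leaf ([]))) (.leaf ([]))) (.node (.node (.leaf ([])) (.leaf ([]))) (.leaf ([]))))) (.node (.node (.node (.node (.leaf ([])) (.leaf ([]))) (.leaf ([]))) (.node (.node (.leaf ([1, (-1), 2, (-1)])) (.leaf ([(-2), 2, (-1), (-1)]))) (.leaf ([1, 0, 1, 1])))) (.node (.node (.node (.leaf ([])) (.leaf ([]))) (.leaf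 ([(-1), 1, (-2)]))) (.node (.node (.leaf ([])) (.leaf ([]))) (.leaf ([])))))) (.node (.node (.node (.node (.node (.leaf ([])) (.leaf ([(-2), 2, (-2), (-1)]))) (.leaf ([]))) (.node (.node (.leaf ([])) (.leaf ([]))) (.leaf ([])))) (.node (.node (.node (.leaf ([])) (.leaf ([1, (-2), 8, (-3)]))) (.leaf ([4, (-2), 3, 4]))) (.node (.node (.leaf ([0, 0, 1])) (.leaf ([0, 1]))) (.leaf ([]))))) (.node (.node (.node (.node (.leaf ([])) (.leaf ([0, 0, 2]))) (.leaf ([2, (-2), 5]))) (.node (.node (.leaf ([0, 1])) (.leaf ([(-10), 3, 3, (-15)]))) (.leaf ([3, 0, (-2), 5])))) (.node (.node (.node (.leaf ([])) (.leaf ([]))) (.leaf ([]))) (.node (.leaf ([0, 1])) (.leaf ([]))))))) (.node (.node (.node (.node (.node (.node (.leaf ([])) (.leaf ([]))) (.leaf ([]))) (.node (.node (.leaf ([])) (.leaf ([(-1), 1, 0, (-1)]))) (.leaf ([(-1), 1, 0, (-1)])))) (.node (.node (.node (.leaf ([0, 0, 1])) (.leaf ([0, 1, (-2), 2]))) (.leaf ([]))) (.node (.node (.leaf ([0, 1])) (.leaf ([(-2),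 1, 1, (-4)]))) (.leaf ([0, 0, 1]))))) (.node (.node (.node (.node (.leaf ([])) (.leaf ([]))) (.leaf ([]))) (.node (.node (.leaf ([])) (.leaf ([1, 2, (-6), 5]))) (.leaf ([])))) (.node (.node (.node (.leaf ([])) (.leaf ([(-1), 1, 0, (-1)]))) (.leaf ([]))) (.node (.leaf ([])) (.leaf ([(-7), 0, 8, (-15)])))))) (.node (.node (.node (.node (.node (.leaf ([])) (.leaf ([0, 1]))) (.leaf ([]))) (.node (.node (.leaf ([])) (.leaf ([]))) (.leaf ([])))) (.node (.node (.node (.leaf ([])) (.leaf ([0, 1]))) (.leaf ([]))) (.node (.node (.leaf ([(-2), 1, 0, (-2)])) (.leaf ([30, (-14), 13, 31]))) (.leaf ([5, (-5), 10]))))) (.node (.node (.node (.node (.leaf ([])) (.leaf ([]))) (.leaf ([6, (-4), 7, 4]))) (.node (.node (.leaf ([])) (.leaf ([(-4), 1, 3, (-8)]))) (.leaf ([(-1), 2, (-4), 1])))) (.node (.node (.node (.leaf ([0, 1])) (.leaf ([0, 1]))) (.leaf ([]))) (.node (.leaf ([0, 1, (-1)])) (.leaf ([(-4), 3, (-3), (-3)])))))))))) (.node (.node (.node (.node (.node (.node (.node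 (.node (.node (.leaf ([])) (.leaf ([(-2), 1, 0, (-2)]))) (.leaf ([]))) (.node (.node (.leaf ([])) (.leaf ([]))) (.leaf ([3, (-1), 0, 3])))) (.node (.node (.node (.leaf ([])) (.leaf ([0, 1, (-3), 2]))) (.leaf ([]))) (.node (.node (.leaf ([])) (.leaf ([]))) (.leaf ([7, (-2), 0, 9]))))) (.node (.node (.node (.node (.leaf ([])) (.leaf ([4, (-1), 0, 5]))) (.leaf ([(-1), 1, 0, (-1)]))) (.node (.node (.leaf ([])) (.leaf ([]))) (.leaf ([11, (-6), 7, 10])))) (.node (.node (.node (.leaf ([])) (.leaf ([]))) (.leaf ([]))) (.node (.node (.leaf ([])) (.leaf ([(-14), 16, (-32), 3]))) (.leaf ([0, 0, 1, (-1)])))))) (.node (.node (.node (.node (.node (.leaf ([])) (.leaf ([(-12), 7, (-7), (-11)]))) (.leaf ([]))) (.node (.node (.leaf ([])) (.leaf ([0, 1, (-1)]))) (.leaf ([])))) (.node (.node (.node (.leaf ([])) (.leaf ([(-3), 4, (-7), 1]))) (.leaf ([]))) (.node (.node (.leaf ([(-4), 0, 4, (-8)])) (.leaf ([(-9), 9, (-16), (-2)]))) (.leaf ([]))))) (.node (.node (.node (.node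 (.leaf ([])) (.leaf ([2, (-1), 2, 1]))) (.leaf ([(-1), 1, (-1)]))) (.node (.node (.leaf ([(-1), 2, (-3)])) (.leaf ([(-1), 1, (-1), (-1)]))) (.leaf ([])))) (.node (.node (.node (.leaf ([])) (.leaf ([(-4), 0, 6, (-9)]))) (.leaf ([]))) (.node (.leaf ([0, 0, 1])) (.leaf ([]))))))) (.node (.node (.node (.node (.node (.node (.leaf ([])) (.leaf ([]))) (.leaf ([0, 1, (-1)]))) (.node (.node (.leaf ([])) (.leaf ([]))) (.leaf ([0, 0, 1])))) (.node (.node (.node (.leaf ([])) (.leaf ([(-2), 3, (-6), 1]))) (.leaf ([1, (-1), 3, (-1)]))) (.node (.node (.leaf ([(-2), 1, 1, (-3)])) (.leaf ([(-4), 2, (-2), (-4)]))) (.leaf ([]))))) (.node (.node (.node (.node (.leaf ([])) (.leaf ([2, (-1), 2, 1]))) (.leaf ([0, 0, 1, (-1)]))) (.node (.node (.leaf ([])) (.leaf ([(-4), 2, 0, (-5)]))) (.leaf ([1, 0, 1])))) (.node (.node (.node (.leaf ([0, 1])) (.leaf ([(-16), 6, (-1), (-21)]))) (.leaf ([3, (-2), 2, 2]))) (.node (.node (.leaf ([])) (.leaf ([4, (-3), 6, 1]))) (.leaf ([(-1), 0,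 2, (-3)])))))) (.node (.node (.node (.node (.node (.leaf ([])) (.leaf ([1, (-1), 3, (-1)]))) (.leaf ([0, 0, 1, (-1)]))) (.node (.node (.leaf ([])) (.leaf ([1, 1, (-4), 4]))) (.leaf ([])))) (.node (.node (.node (.leaf ([0, 0, 1])) (.leaf ([(-3), 0, 4, (-7)]))) (.leaf ([0, 1]))) (.node (.node (.leaf ([(-1), 1, (-3)])) (.leaf ([1, 0, 0, 1]))) (.leaf ([]))))) (.node (.node (.node (.node (.leaf ([])) (.leaf ([0, 0, 1]))) (.leaf ([]))) (.node (.node (.leaf ([])) (.leaf ([0, 1]))) (.leaf ([])))) (.node (.node (.node (.leaf ([(-2), 2, (-3)])) (.leaf ([(-2), 1, 1, (-3)]))) (.leaf ([0, 0, 1]))) (.node (.leaf ([(-3), 2, (-1), (-3)])) (.leaf ([])))))))) (.node (.node (.node (.node (.node (.node (.node (.leaf ([])) (.leaf ([]))) (.leaf ([1, (-1), 3, (-1)]))) (.node (.node (.leaf ([])) (.leaf ([2, (-1), 1, 1]))) (.leaf ([])))) (.node (.node (.node (.leaf ([])) (.leaf ([0, 0, 1, (-1)]))) (.leaf ([(-1), 1, (-1)]))) (.node (.node (.leaf ([])) (.leaf ([(-1), 1, (-1)])))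 (.leaf ([0, 1, (-1), 1]))))) (.node (.node (.node (.node (.leaf ([])) (.leaf ([]))) (.leaf ([]))) (.node (.node (.leaf ([])) (.leaf ([0, 0, 1]))) (.leaf ([(-1), (-2), 9, (-8)])))) (.node (.node (.node (.leaf ([])) (.leaf ([1, 0, (-1), 2]))) (.leaf ([0, (-1), 4, (-3)]))) (.node (.node (.leaf ([])) (.leaf ([1, 0, 1]))) (.leaf ([2, (-2), 6])))))) (.node (.node (.node (.node (.node (.leaf ([])) (.leaf ([(-6), 5, (-7), (-4)]))) (.leaf ([]))) (.node (.node (.leaf ([])) (.leaf ([]))) (.leaf ([])))) (.node (.node (.node (.leaf ([])) (.leaf ([(-8), 0, 9, (-16)]))) (.leaf ([]))) (.node (.node (.leaf ([])) (.leaf ([(-3), 4, (-8), 1]))) (.leaf ([]))))) (.node (.node (.node (.node (.leaf ([])) (.leaf ([(-14), 8, (-8), (-13)]))) (.leaf ([]))) (.node (.node (.leaf ([])) (.leaf ([1, 0, 1]))) (.leaf ([])))) (.node (.node (.node (.leaf ([])) (.leaf ([]))) (.leaf ([(-1), 0, 2, (-2)]))) (.node (.leaf ([0, 0, 1])) (.leaf ([]))))))) (.node (.node (.node (.node (.node (.node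 (.leaf ([])) (.leaf ([]))) (.leaf ([]))) (.node (.node (.leaf ([])) (.leaf ([(-1), 1, (-1), (-1)]))) (.leaf ([0, 1])))) (.node (.node (.node (.leaf ([])) (.leaf ([(-6), 6, (-11), (-1)]))) (.leaf ([(-1), 1, 0, (-1)]))) (.node (.node (.leaf ([])) (.leaf ([2, (-1), 3]))) (.leaf ([]))))) (.node (.node (.node (.node (.leaf ([])) (.leaf ([]))) (.leaf ([]))) (.node (.node (.leaf ([0, 0, 1])) (.leaf ([1, 1, (-2), 2]))) (.leaf ([(-1), 1, (-2), (-1)])))) (.node (.node (.node (.leaf ([0, 1])) (.leaf ([(-2), 2, (-2), (-1)]))) (.leaf ([]))) (.node (.node (.leaf ([0, 1, (-2), 1])) (.leaf ([0, 1]))) (.leaf ([(-3), (-1), 6, (-8)])))))) (.node (.node (.node (.node (.node (.leaf ([])) (.leaf ([]))) (.leaf ([]))) (.node (.node (.leaf ([0, 1])) (.leaf ([(-5), 1, 4, (-9)]))) (.leaf ([0, 0, 2, (-1)])))) (.node (.node (.node (.leaf ([0, 1])) (.leaf ([9, (-3), 1, 12]))) (.leaf ([3, (-4), 10, (-3)]))) (.node (.node (.leaf ([0, 1])) (.leaf ([0, 0, 1, (-1)]))) (.leaf ([])))))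 (.node (.node (.node (.node (.leaf ([])) (.leaf ([0, (-1), 3, (-2)]))) (.leaf ([0, 0, 1]))) (.node (.node (.leaf ([])) (.leaf ([(-3), 3, (-5)]))) (.leaf ([])))) (.node (.node (.node (.leaf ([])) (.leaf ([]))) (.leaf ([0, 2, (-6), 3]))) (.node (.leaf ([0, 1])) (.leaf ([0, (-1), 5, (-2)]))))))))) (.node (.node (.node (.node (.node (.node (.node (.node (.leaf ([])) (.leaf ([2, (-4), 11, (-5)]))) (.leaf ([]))) (.node (.node (.leaf ([])) (.leaf ([]))) (.leaf ([0, 1])))) (.node (.node (.node (.leaf ([])) (.leaf ([2, (-1), 3]))) (.leaf ([0, 0, 1]))) (.node (.node (.leaf ([])) (.leaf ([1, 1, (-2), 2]))) (.leaf ([(-5), 3, (-4), (-4)]))))) (.node (.node (.node (.node (.leaf ([0, 0, 1])) (.leaf ([1, 1, (-3), 3]))) (.leaf ([2, (-2), 4]))) (.node (.node (.leaf ([0, 1])) (.leaf ([2, (-1), 3]))) (.leaf ([1, 1, (-2), 2])))) (.node (.node (.node (.leaf ([0, 1])) (.leaf ([]))) (.leaf ([]))) (.node (.node (.leaf ([0, 0, 1, (-1)])) (.leaf ([]))) (.leaf ([0, 0, 1, (-1)]))))))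 (.node (.node (.node (.node (.node (.leaf ([])) (.leaf ([]))) (.leaf ([0, 1]))) (.node (.node (.leaf ([0, 0, 1])) (.leaf ([2, (-1), 3]))) (.leaf ([])))) (.node (.node (.node (.leaf ([0, 0, 1])) (.leaf ([]))) (.leaf ([]))) (.node (.node (.leaf ([0, 1])) (.leaf ([1, 0, 2]))) (.leaf ([0, 0, 1]))))) (.node (.node (.node (.node (.leaf ([])) (.leaf ([]))) (.leaf ([]))) (.node (.node (.leaf ([])) (.leaf ([4, (-4), 9, (-1)]))) (.leaf ([])))) (.node (.node (.node (.leaf ([0, 1])) (.leaf ([]))) (.leaf ([0, 1]))) (.node (.leaf ([])) (.leaf ([]))))))) (.node (.node (.node (.node (.node (.node (.leaf ([])) (.leaf ([0, 1]))) (.leaf ([]))) (.node (.node (.leaf ([])) (.leaf ([(-3), (-1), 8, (-9)]))) (.leaf ([])))) (.node (.node (.node (.leaf ([])) (.leaf ([3, (-1), 0, 4]))) (.leaf ([0, 1]))) (.node (.node (.leaf ([])) (.leaf ([]))) (.leaf ([]))))) (.node (.node (.node (.node (.leaf ([])) (.leaf ([]))) (.leaf ([]))) (.node (.node (.leaf ([0, 0, 1])) (.leaf ([1, 1, (-3),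 3]))) (.leaf ([(-1), 1, 0, (-1)])))) (.node (.node (.node (.leaf ([])) (.leaf ([]))) (.leaf ([(-2), 2, (-3), (-1)]))) (.node (.node (.leaf ([])) (.leaf ([16, (-11), 18, 8]))) (.leaf ([1, 0, 0, 1])))))) (.node (.node (.node (.node (.node (.leaf ([])) (.leaf ([0, 0, 2, (-1)]))) (.leaf ([(-2), 1, 1, (-3)]))) (.node (.node (.leaf ([])) (.leaf ([2, 0, 0, 2]))) (.leaf ([])))) (.node (.node (.node (.leaf ([])) (.leaf ([1, 0, 0, 1]))) (.leaf ([]))) (.node (.node (.leaf ([])) (.leaf ([4, (-4), 8]))) (.leaf ([0, 1]))))) (.node (.node (.node (.node (.leaf ([])) (.leaf ([0, 0, 1]))) (.leaf ([(-1), 0, 2, (-2)]))) (.node (.node (.leaf ([])) (.leaf ([0, 2, (-4), 2]))) (.leaf ([])))) (.node (.node (.node (.leaf ([])) (.leaf ([4, (-4), 10, (-2)]))) (.leaf ([]))) (.node (.leaf ([])) (.leaf ([])))))))) (.node (.node (.node (.node (.node (.node (.node (.leaf ([])) (.leaf ([0, 1]))) (.leaf ([]))) (.node (.node (.leaf ([])) (.leaf ([]))) (.leaf ([1, 1, (-3), 2])))) (.node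 (.node (.node (.leaf ([])) (.leaf ([(-1), 1, 1, (-1)]))) (.leaf ([1, 0, 1, 1]))) (.node (.node (.leaf ([0, 0, 1, (-1)])) (.leaf ([3, (-1), 3, 2]))) (.leaf ([1, 0, 1]))))) (.node (.node (.node (.node (.leaf ([])) (.leaf ([2, (-1), 2, 1]))) (.leaf ([(-1), 1, (-1)]))) (.node (.node (.leaf ([0, 1])) (.leaf ([3, (-3), 7, (-1)]))) (.leaf ([])))) (.node (.node (.node (.leaf ([])) (.leaf ([]))) (.leaf ([]))) (.node (.node (.leaf ([0, 1])) (.leaf ([0, (-1), 3, (-2)]))) (.leaf ([(-1), 1, 1, (-1)])))))) (.node (.node (.node (.node (.node (.leaf ([0, 0, 1])) (.leaf ([(-1), 1, 0, (-1)]))) (.leaf ([]))) (.node (.node (.leaf ([])) (.leaf ([2, (-1), 1, 1]))) (.leaf ([])))) (.node (.node (.node (.leaf ([])) (.leaf ([(-2), 3, (-5), 2]))) (.leaf ([]))) (.node (.node (.leaf ([1, 0, 0, 1])) (.leaf ([1, 0, 1]))) (.leaf ([]))))) (.node (.node (.node (.node (.leaf ([])) (.leaf ([]))) (.leaf ([(-1), 1, (-1)]))) (.node (.node (.leaf ([])) (.leaf ([(-7), 5, (-6), (-4)]))) (.leaf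 ([])))) (.node (.node (.node (.leaf ([])) (.leaf ([0, 0, 1, (-1)]))) (.leaf ([]))) (.node (.leaf ([(-1), 1, (-1)])) (.leaf ([]))))))) (.node (.node (.node (.node (.node (.node (.leaf ([])) (.leaf ([0, 1, (-1)]))) (.leaf ([]))) (.node (.node (.leaf ([])) (.leaf ([2, 0, 0, 3]))) (.leaf ([])))) (.node (.node (.node (.leaf ([])) (.leaf ([(-1), 0, 3, (-3)]))) (.leaf ([]))) (.node (.node (.leaf ([(-1), 1, 0, (-1)])) (.leaf ([1, 0, 1]))) (.leaf ([(-1), 1, (-1)]))))) (.node (.node (.node (.node (.leaf ([0, 0, 1])) (.leaf ([1, 1, (-4), 3]))) (.leaf ([]))) (.node (.node (.leaf ([])) (.leaf ([1, 0, 1]))) (.leaf ([])))) (.node (.node (.node (.leaf ([0, 1, (-1)])) (.leaf ([(-1), 1, 0, (-1)]))) (.leaf ([0, 1, (-2), 1]))) (.node (.leaf ([])) (.leaf ([1, (-1), 3])))))) (.node (.node (.node (.node (.node (.leaf ([])) (.leaf ([(-3), 3, (-5), (-1)]))) (.leaf ([]))) (.node (.node (.leaf ([0, 0, 1, (-1)])) (.leaf ([]))) (.leaf ([0, 1])))) (.node (.node (.node (.leaf ([]))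 (.leaf ([2, (-2), 5, (-1)]))) (.leaf ([]))) (.node (.node (.leaf ([])) (.leaf ([(-7), 3, (-1), (-9)]))) (.leaf ([]))))) (.node (.node (.node (.node (.leaf ([])) (.leaf ([0, 1]))) (.leaf ([2, (-1), 3, 1]))) (.node (.node (.leaf ([])) (.leaf ([4, (-1), 0, 5]))) (.leaf ([(-2), 2, (-2), (-1)])))) (.node (.node (.node (.leaf ([])) (.leaf ([2, 1, (-4), 5]))) (.leaf ([0, 0, 1]))) (.node (.leaf ([])) (.leaf ([]))))))))))))

/-- data -/
def rank0 : Trie (ℕ) := .node (.node (.node (.node (.node (.node (.node (.node (.node (.node (.node (.node (.leaf 0) (.leaf 0)) (.leaf 0)) (.node (.node (.leaf 0) (.leaf 554)) (.leaf 71))) (.node (.node (.node (.leaf 0) (.leaf 0)) (.leaf 791)) (.node (.node (.leaf 0) (.leaf 1111)) (.leaf 0)))) (.node (.node (.node (.node (.leaf 0) (.leaf 535)) (.leaf 0)) (.node (.node (.leaf 0) (.leaf 1477)) (.leaf 600))) (.node (.node (.node (.leaf 0) (.leaf 114)) (.leaf 0)) (.node (.node (.leaf 0) (.leaf 1418)) (.leaf 0))))) (.node (.node (.node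 (.node (.node (.leaf 0) (.leaf 1121)) (.leaf 0)) (.node (.node (.leaf 0) (.leaf 814)) (.leaf 606))) (.node (.node (.node (.leaf 315) (.leaf 490)) (.leaf 627)) (.node (.node (.leaf 0) (.leaf 0)) (.leaf 0)))) (.node (.node (.node (.node (.leaf 0) (.leaf 714)) (.leaf 0)) (.node (.node (.leaf 0) (.leaf 1138)) (.leaf 0))) (.node (.node (.node (.leaf 0) (.leaf 574)) (.leaf 340)) (.node (.leaf 0) (.leaf 1297)))))) (.node (.node (.node (.node (.node (.node (.leaf 0) (.leaf 981)) (.leaf 0)) (.node (.node (.leaf 0) (.leaf 1018)) (.leaf 970))) (.node (.node (.node (.leaf 0) (.leaf 111)) (.leaf 58)) (.node (.node (.leaf 0) (.leaf 1115)) (.leaf 85)))) (.node (.node (.node (.node (.leaf 0) (.leaf 781)) (.leaf 0)) (.node (.node (.leaf 0) (.leaf 1108)) (.leaf 79))) (.node (.node (.node (.leaf 0) (.leaf 976)) (.leaf 991)) (.node (.node (.leaf 589) (.leaf 1246)) (.leaf 93))))) (.node (.node (.node (.node (.node (.leaf 0) (.leaf 0)) (.leaf 563)) (.node (.node (.leaf 0)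 (.leaf 0)) (.leaf 527))) (.node (.node (.node (.leaf 0) (.leaf 1289)) (.leaf 0)) (.node (.node (.leaf 393) (.leaf 0)) (.leaf 0)))) (.node (.node (.node (.node (.leaf 586) (.leaf 0)) (.leaf 0)) (.node (.node (.leaf 0) (.leaf 1470)) (.leaf 84))) (.node (.node (.node (.leaf 0) (.leaf 1350)) (.leaf 0)) (.node (.leaf 0) (.leaf 95))))))) (.node (.node (.node (.node (.node (.node (.node (.leaf 0) (.leaf 97)) (.leaf 0)) (.node (.node (.leaf 0) (.leaf 800)) (.leaf 0))) (.node (.node (.node (.leaf 590) (.leaf 1301)) (.leaf 0)) (.node (.node (.leaf 0) (.leaf 1407)) (.leaf 494)))) (.node (.node (.node (.node (.leaf 0) (.leaf 0)) (.leaf 0)) (.node (.node (.leaf 29) (.leaf 706)) (.leaf 756))) (.node (.node (.node (.leaf 17) (.leaf 1295)) (.leaf 398)) (.node (.node (.leaf 0) (.leaf 1383)) (.leaf 1303))))) (.node (.node (.node (.node (.node (.leaf 0) (.leaf 0)) (.leaf 609)) (.node (.node (.leaf 0) (.leaf 1374)) (.leaf 0))) (.node (.node (.node (.leaf 0) (.leaf 895))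 (.leaf 768)) (.node (.node (.leaf 36) (.leaf 669)) (.leaf 89)))) (.node (.node (.node (.node (.leaf 0) (.leaf 0)) (.leaf 336)) (.node (.node (.leaf 0) (.leaf 1149)) (.leaf 641))) (.node (.node (.node (.leaf 20) (.leaf 1217)) (.leaf 67)) (.node (.leaf 42) (.leaf 1251)))))) (.node (.node (.node (.node (.node (.node (.leaf 0) (.leaf 0)) (.leaf 0)) (.node (.node (.leaf 0) (.leaf 1069)) (.leaf 0))) (.node (.node (.node (.leaf 0) (.leaf 1247)) (.leaf 59)) (.node (.node (.leaf 0) (.leaf 1224)) (.leaf 646)))) (.node (.node (.node (.node (.leaf 0) (.leaf 0)) (.leaf 618)) (.node (.node (.leaf 0) (.leaf 732)) (.leaf 0))) (.node (.node (.node (.leaf 0) (.leaf 1398)) (.leaf 754)) (.node (.node (.leaf 0) (.leaf 1183)) (.leaf 811))))) (.node (.node (.node (.node (.node (.leaf 0) (.leaf 502)) (.leaf 757)) (.node (.node (.leaf 391) (.leaf 561)) (.leaf 0))) (.node (.node (.node (.leaf 0) (.leaf 113)) (.leaf 884)) (.node (.node (.leaf 0) (.leaf 1280)) (.leaf 0)))) (.node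 (.node (.node (.node (.leaf 0) (.leaf 109)) (.leaf 0)) (.node (.node (.leaf 0) (.leaf 1402)) (.leaf 989))) (.node (.node (.node (.leaf 0) (.leaf 1368)) (.leaf 70)) (.node (.leaf 0) (.leaf 1037)))))))) (.node (.node (.node (.node (.node (.node (.node (.node (.leaf 0) (.leaf 0)) (.leaf 0)) (.node (.node (.leaf 0) (.leaf 1096)) (.leaf 0))) (.node (.node (.node (.leaf 0) (.leaf 0)) (.leaf 56)) (.node (.node (.leaf 0) (.leaf 1436)) (.leaf 0)))) (.node (.node (.node (.node (.leaf 0) (.leaf 0)) (.leaf 0)) (.node (.node (.leaf 0) (.leaf 1086)) (.leaf 0))) (.node (.node (.node (.leaf 389) (.leaf 566)) (.leaf 0)) (.node (.node (.leaf 0) (.leaf 1487)) (.leaf 0))))) (.node (.node (.node (.node (.node (.leaf 0) (.leaf 0)) (.leaf 0)) (.node (.node (.leaf 0) (.leaf 539)) (.leaf 559))) (.node (.node (.node (.leaf 0) (.leaf 409)) (.leaf 0)) (.node (.node (.leaf 0) (.leaf 808)) (.leaf 0)))) (.node (.node (.node (.node (.leaf 0) (.leaf 784)) (.leaf 0)) (.node (.node (.leaf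 0) (.leaf 1376)) (.leaf 517))) (.node (.node (.node (.leaf 0) (.leaf 1106)) (.leaf 1104)) (.node (.leaf 0) (.leaf 1186)))))) (.node (.node (.node (.node (.node (.node (.leaf 0) (.leaf 98)) (.leaf 462)) (.node (.node (.leaf 0) (.leaf 121)) (.leaf 0))) (.node (.node (.node (.leaf 0) (.leaf 0)) (.leaf 993)) (.node (.node (.leaf 0) (.leaf 1185)) (.leaf 86)))) (.node (.node (.node (.node (.leaf 0) (.leaf 0)) (.leaf 0)) (.node (.node (.leaf 486) (.leaf 1329)) (.leaf 0))) (.node (.node (.node (.leaf 18) (.leaf 0)) (.leaf 1074)) (.node (.node (.leaf 0) (.leaf 1057)) (.leaf 710))))) (.node (.node (.node (.node (.node (.leaf 0) (.leaf 736)) (.leaf 0)) (.node (.node (.leaf 0) (.leaf 1312)) (.leaf 799))) (.node (.node (.node (.leaf 0) (.leaf 938)) (.leaf 0)) (.node (.node (.leaf 0) (.leaf 0)) (.leaf 1142)))) (.node (.node (.node (.node (.leaf 0) (.leaf 108)) (.leaf 0)) (.node (.node (.leaf 0) (.leaf 1328)) (.leaf 0))) (.node (.node (.node (.leaf 0) (.leaf 900))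 (.leaf 1010)) (.node (.leaf 0) (.leaf 0))))))) (.node (.node (.node (.node (.node (.node (.node (.leaf 0) (.leaf 319)) (.leaf 361)) (.node (.node (.leaf 742) (.leaf 1056)) (.leaf 0))) (.node (.node (.node (.leaf 0) (.leaf 1370)) (.leaf 0)) (.node (.node (.leaf 552) (.leaf 0)) (.leaf 0)))) (.node (.node (.node (.node (.leaf 0) (.leaf 691)) (.leaf 642)) (.node (.node (.leaf 0) (.leaf 874)) (.leaf 0))) (.node (.node (.node (.leaf 0) (.leaf 1120)) (.leaf 887)) (.node (.node (.leaf 0) (.leaf 0)) (.leaf 795))))) (.node (.node (.node (.node (.node (.leaf 0) (.leaf 0)) (.leaf 49)) (.node (.node (.leaf 0) (.leaf 702)) (.leaf 0))) (.node (.node (.node (.leaf 0) (.leaf 704)) (.leaf 0)) (.node (.node (.leaf 0) (.leaf 953)) (.leaf 1236)))) (.node (.node (.node (.node (.leaf 0) (.leaf 477)) (.leaf 0)) (.node (.node (.leaf 0) (.leaf 0)) (.leaf 689))) (.node (.node (.node (.leaf 0) (.leaf 0)) (.leaf 0)) (.node (.leaf 0) (.leaf 1431)))))) (.node (.node (.node (.node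 (.node (.node (.leaf 0) (.leaf 0)) (.leaf 0)) (.node (.node (.leaf 0) (.leaf 798)) (.leaf 73))) (.node (.node (.node (.leaf 0) (.leaf 1474)) (.leaf 628)) (.node (.node (.leaf 0) (.leaf 727)) (.leaf 351)))) (.node (.node (.node (.node (.leaf 0) (.leaf 1139)) (.leaf 0)) (.node (.node (.leaf 0) (.leaf 1427)) (.leaf 0))) (.node (.node (.node (.leaf 19) (.leaf 695)) (.leaf 0)) (.node (.leaf 1204) (.leaf 0))))) (.node (.node (.node (.node (.node (.leaf 0) (.leaf 0)) (.leaf 0)) (.node (.node (.leaf 28) (.leaf 350)) (.leaf 0))) (.node (.node (.node (.leaf 16) (.leaf 1357)) (.leaf 0)) (.node (.node (.leaf 38) (.leaf 1392)) (.leaf 0)))) (.node (.node (.node (.node (.leaf 0) (.leaf 1262)) (.leaf 55)) (.node (.node (.leaf 0) (.leaf 809)) (.leaf 0))) (.node (.node (.node (.leaf 0) (.leaf 119)) (.leaf 0)) (.node (.leaf 655) (.leaf 0))))))))) (.node (.node (.node (.node (.node (.node (.node (.node (.node (.leaf 0) (.leaf 96)) (.leaf 0)) (.node (.node (.leaf 0) (.leaf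 0)) (.leaf 0))) (.node (.node (.node (.leaf 0) (.leaf 649)) (.leaf 748)) (.node (.node (.leaf 0) (.leaf 575)) (.leaf 1426)))) (.node (.node (.node (.node (.leaf 0) (.leaf 0)) (.leaf 50)) (.node (.node (.leaf 0) (.leaf 0)) (.leaf 0))) (.node (.node (.node (.leaf 0) (.leaf 1171)) (.leaf 752)) (.node (.node (.leaf 39) (.leaf 1416)) (.leaf 0))))) (.node (.node (.node (.node (.node (.leaf 0) (.leaf 758)) (.leaf 0)) (.node (.node (.leaf 0) (.leaf 1067)) (.leaf 0))) (.node (.node (.node (.leaf 313) (.leaf 1266)) (.leaf 60)) (.node (.node (.leaf 0) (.leaf 0)) (.leaf 88)))) (.node (.node (.node (.node (.leaf 0) (.leaf 408)) (.leaf 778)) (.node (.node (.leaf 31) (.leaf 1230)) (.leaf 82))) (.node (.node (.node (.leaf 0) (.leaf 118)) (.leaf 312)) (.node (.leaf 0) (.leaf 0)))))) (.node (.node (.node (.node (.node (.node (.leaf 0) (.leaf 926)) (.leaf 0)) (.node (.node (.leaf 0) (.leaf 0)) (.leaf 0))) (.node (.node (.node (.leaf 0) (.leaf 1147)) (.leaf 338)) (.node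 (.node (.leaf 608) (.leaf 1359)) (.leaf 1100)))) (.node (.node (.node (.node (.leaf 0) (.leaf 0)) (.leaf 395)) (.node (.node (.leaf 0) (.leaf 917)) (.leaf 0))) (.node (.node (.node (.leaf 0) (.leaf 117)) (.leaf 0)) (.node (.node (.leaf 0) (.leaf 1421)) (.leaf 1110))))) (.node (.node (.node (.node (.node (.leaf 0) (.leaf 629)) (.leaf 0)) (.node (.node (.leaf 27) (.leaf 1194)) (.leaf 1046))) (.node (.node (.node (.leaf 463) (.leaf 1026)) (.leaf 866)) (.node (.node (.leaf 0) (.leaf 984)) (.leaf 0)))) (.node (.node (.node (.node (.leaf 0) (.leaf 540)) (.leaf 54)) (.node (.node (.leaf 0) (.leaf 1242)) (.leaf 0))) (.node (.node (.node (.leaf 21) (.leaf 0)) (.leaf 0)) (.node (.leaf 698) (.leaf 975))))))) (.node (.node (.node (.node (.node (.node (.node (.leaf 0) (.leaf 692)) (.leaf 0)) (.node (.node (.leaf 23) (.leaf 0)) (.leaf 72))) (.node (.node (.node (.leaf 0) (.leaf 0)) (.leaf 57)) (.node (.node (.leaf 0) (.leaf 1433)) (.leaf 1250)))) (.node (.node (.node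 (.node (.leaf 0) (.leaf 0)) (.leaf 51)) (.node (.node (.leaf 0) (.leaf 1318)) (.leaf 78))) (.node (.node (.node (.leaf 0) (.leaf 115)) (.leaf 505)) (.node (.node (.leaf 743) (.leaf 1496)) (.leaf 1060))))) (.node (.node (.node (.node (.node (.leaf 0) (.leaf 102)) (.leaf 0)) (.node (.node (.leaf 0) (.leaf 0)) (.leaf 0))) (.node (.node (.node (.leaf 0) (.leaf 0)) (.leaf 0)) (.node (.node (.leaf 525) (.leaf 1341)) (.leaf 0)))) (.node (.node (.node (.node (.leaf 0) (.leaf 785)) (.leaf 310)) (.node (.node (.leaf 0) (.leaf 0)) (.leaf 83))) (.node (.node (.node (.leaf 0) (.leaf 1036)) (.leaf 0)) (.node (.leaf 0) (.leaf 1055)))))) (.node (.node (.node (.node (.node (.node (.leaf 0) (.leaf 0)) (.leaf 0)) (.node (.node (.leaf 0) (.leaf 0)) (.leaf 0))) (.node (.node (.node (.leaf 472) (.leaf 0)) (.leaf 397)) (.node (.node (.leaf 0) (.leaf 0)) (.leaf 0)))) (.node (.node (.node (.node (.leaf 0) (.leaf 1173)) (.leaf 779)) (.node (.node (.leaf 326) (.leaf 0)) (.leaf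 659))) (.node (.node (.node (.leaf 0) (.leaf 664)) (.leaf 1045)) (.node (.node (.leaf 0) (.leaf 1491)) (.leaf 0))))) (.node (.node (.node (.node (.node (.leaf 0) (.leaf 360)) (.leaf 0)) (.node (.node (.leaf 0) (.leaf 805)) (.leaf 749))) (.node (.node (.node (.leaf 0) (.leaf 1044)) (.leaf 0)) (.node (.node (.leaf 898) (.leaf 1415)) (.leaf 507)))) (.node (.node (.node (.node (.leaf 0) (.leaf 0)) (.leaf 0)) (.node (.node (.leaf 0) (.leaf 1107)) (.leaf 0))) (.node (.node (.node (.leaf 0) (.leaf 1282)) (.leaf 0)) (.node (.leaf 0) (.leaf 0)))))))) (.node (.node (.node (.node (.node (.node (.node (.node (.leaf 0) (.leaf 530)) (.leaf 0)) (.node (.node (.leaf 0) (.leaf 699)) (.leaf 0))) (.node (.node (.node (.leaf 0) (.leaf 623)) (.leaf 0)) (.node (.node (.leaf 0) (.leaf 1406)) (.leaf 0)))) (.node (.node (.node (.node (.leaf 514) (.leaf 1192)) (.leaf 0)) (.node (.node (.leaf 0) (.leaf 1088)) (.leaf 0))) (.node (.node (.node (.leaf 0) (.leaf 1042)) (.leaf 0))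 (.node (.node (.leaf 0) (.leaf 1240)) (.leaf 0))))) (.node (.node (.node (.node (.node (.leaf 0) (.leaf 914)) (.leaf 0)) (.node (.node (.leaf 0) (.leaf 329)) (.leaf 0))) (.node (.node (.node (.leaf 0) (.leaf 1041)) (.leaf 0)) (.node (.node (.leaf 0) (.leaf 1130)) (.leaf 521)))) (.node (.node (.node (.node (.leaf 0) (.leaf 1273)) (.leaf 0)) (.node (.node (.leaf 0) (.leaf 1177)) (.leaf 1308))) (.node (.node (.node (.leaf 0) (.leaf 797)) (.leaf 0)) (.node (.leaf 0) (.leaf 770)))))) (.node (.node (.node (.node (.node (.node (.leaf 2) (.leaf 504)) (.leaf 47)) (.node (.node (.leaf 0) (.leaf 801)) (.leaf 343))) (.node (.node (.node (.leaf 0) (.leaf 1371)) (.leaf 0)) (.node (.node (.leaf 0) (.leaf 362)) (.leaf 765)))) (.node (.node (.node (.node (.leaf 0) (.leaf 782)) (.leaf 0)) (.node (.node (.leaf 0) (.leaf 125)) (.leaf 80))) (.node (.node (.node (.leaf 0) (.leaf 684)) (.leaf 64)) (.node (.node (.leaf 0) (.leaf 1400)) (.leaf 0))))) (.node (.node (.node (.node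 (.node (.leaf 0) (.leaf 777)) (.leaf 626)) (.node (.node (.leaf 0) (.leaf 1330)) (.leaf 0))) (.node (.node (.node (.leaf 0) (.leaf 1284)) (.leaf 0)) (.node (.node (.leaf 0) (.leaf 1174)) (.leaf 0)))) (.node (.node (.node (.node (.leaf 0) (.leaf 0)) (.leaf 0)) (.node (.node (.leaf 0) (.leaf 0)) (.leaf 661))) (.node (.node (.node (.leaf 0) (.leaf 707)) (.leaf 69)) (.node (.leaf 0) (.leaf 0))))))) (.node (.node (.node (.node (.node (.node (.node (.leaf 0) (.leaf 1260)) (.leaf 746)) (.node (.node (.leaf 0) (.leaf 120)) (.leaf 0))) (.node (.node (.node (.leaf 0) (.leaf 1299)) (.leaf 690)) (.node (.node (.leaf 0) (.leaf 0)) (.leaf 764)))) (.node (.node (.node (.node (.leaf 0) (.leaf 0)) (.leaf 0)) (.node (.node (.leaf 0) (.leaf 813)) (.leaf 676))) (.node (.node (.node (.leaf 0) (.leaf 722)) (.leaf 325)) (.node (.node (.leaf 0) (.leaf 1417)) (.leaf 1027))))) (.node (.node (.node (.node (.node (.leaf 579) (.leaf 0)) (.leaf 0)) (.node (.node (.leaf 0) (.leaf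 1066)) (.leaf 0))) (.node (.node (.node (.leaf 0) (.leaf 0)) (.leaf 0)) (.node (.node (.leaf 0) (.leaf 1212)) (.leaf 0)))) (.node (.node (.node (.node (.leaf 0) (.leaf 0)) (.leaf 0)) (.node (.node (.leaf 32) (.leaf 933)) (.leaf 0))) (.node (.node (.node (.leaf 390) (.leaf 0)) (.leaf 775)) (.node (.leaf 43) (.leaf 1340)))))) (.node (.node (.node (.node (.node (.node (.leaf 0) (.leaf 0)) (.leaf 994)) (.node (.node (.leaf 0) (.leaf 1305)) (.leaf 0))) (.node (.node (.node (.leaf 0) (.leaf 544)) (.leaf 1199)) (.node (.node (.leaf 35) (.leaf 127)) (.leaf 316)))) (.node (.node (.node (.node (.leaf 616) (.leaf 783)) (.leaf 551)) (.node (.node (.leaf 392) (.leaf 1323)) (.leaf 662))) (.node (.node (.node (.leaf 0) (.leaf 1478)) (.leaf 946)) (.node (.leaf 0) (.leaf 1254))))) (.node (.node (.node (.node (.node (.leaf 0) (.leaf 104)) (.leaf 0)) (.node (.node (.leaf 873) (.leaf 1083)) (.leaf 0))) (.node (.node (.node (.leaf 0) (.leaf 1270)) (.leaf 1309)) (.node (.node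 (.leaf 519) (.leaf 997)) (.leaf 0)))) (.node (.node (.node (.node (.leaf 0) (.leaf 0)) (.leaf 0)) (.node (.node (.leaf 0) (.leaf 810)) (.leaf 762))) (.node (.node (.node (.leaf 22) (.leaf 1324)) (.leaf 654)) (.node (.leaf 0) (.leaf 1294)))))))))) (.node (.node (.node (.node (.node (.node (.node (.node (.node (.node (.leaf 0) (.leaf 904)) (.leaf 0)) (.node (.node (.leaf 0) (.leaf 1198)) (.leaf 0))) (.node (.node (.node (.leaf 0) (.leaf 0)) (.leaf 650)) (.node (.node (.leaf 0) (.leaf 613)) (.leaf 1255)))) (.node (.node (.node (.node (.leaf 0) (.leaf 670)) (.leaf 0)) (.node (.node (.leaf 0) (.leaf 0)) (.leaf 77))) (.node (.node (.node (.leaf 0) (.leaf 0)) (.leaf 0)) (.node (.node (.leaf 0) (.leaf 1187)) (.leaf 510))))) (.node (.node (.node (.node (.node (.leaf 0) (.leaf 0)) (.leaf 0)) (.node (.node (.leaf 0) (.leaf 802)) (.leaf 0))) (.node (.node (.node (.leaf 0) (.leaf 788)) (.leaf 1209)) (.node (.node (.leaf 0) (.leaf 1084)) (.leaf 0)))) (.node (.node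 (.node (.node (.leaf 8) (.leaf 1140)) (.leaf 53)) (.node (.node (.leaf 0) (.leaf 1472)) (.leaf 1349))) (.node (.node (.node (.leaf 0) (.leaf 796)) (.leaf 755)) (.node (.leaf 0) (.leaf 0)))))) (.node (.node (.node (.node (.node (.node (.leaf 0) (.leaf 620)) (.leaf 370)) (.node (.node (.leaf 0) (.leaf 411)) (.leaf 0))) (.node (.node (.node (.leaf 0) (.leaf 1011)) (.leaf 0)) (.node (.node (.leaf 0) (.leaf 1126)) (.leaf 703)))) (.node (.node (.node (.node (.leaf 0) (.leaf 1352)) (.leaf 631)) (.node (.node (.leaf 0) (.leaf 1430)) (.leaf 0))) (.node (.node (.node (.leaf 596) (.leaf 0)) (.leaf 1039)) (.node (.node (.leaf 0) (.leaf 1420)) (.leaf 965))))) (.node (.node (.node (.node (.node (.leaf 4) (.leaf 407)) (.leaf 0)) (.node (.node (.leaf 0) (.leaf 0)) (.leaf 780))) (.node (.node (.node (.leaf 0) (.leaf 1327)) (.leaf 382)) (.node (.node (.leaf 0) (.leaf 1189)) (.leaf 958)))) (.node (.node (.node (.node (.leaf 0) (.leaf 0)) (.leaf 550)) (.node (.node (.leaf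 0) (.leaf 578)) (.leaf 951))) (.node (.node (.node (.leaf 0) (.leaf 1180)) (.leaf 0)) (.node (.leaf 0) (.leaf 1245))))))) (.node (.node (.node (.node (.node (.node (.node (.leaf 0) (.leaf 376)) (.leaf 0)) (.node (.node (.leaf 0) (.leaf 786)) (.leaf 0))) (.node (.node (.node (.leaf 0) (.leaf 576)) (.leaf 720)) (.node (.node (.leaf 0) (.leaf 954)) (.leaf 1313)))) (.node (.node (.node (.node (.leaf 6) (.leaf 0)) (.leaf 0)) (.node (.node (.leaf 0) (.leaf 123)) (.leaf 0))) (.node (.node (.node (.leaf 0) (.leaf 952)) (.leaf 760)) (.node (.node (.leaf 331) (.leaf 1038)) (.leaf 1258))))) (.node (.node (.node (.node (.node (.leaf 0) (.leaf 0)) (.leaf 0)) (.node (.node (.leaf 26) (.leaf 0)) (.leaf 0))) (.node (.node (.node (.leaf 15) (.leaf 1355)) (.leaf 61)) (.node (.node (.leaf 0) (.leaf 1411)) (.leaf 0)))) (.node (.node (.node (.node (.leaf 0) (.leaf 806)) (.leaf 745)) (.node (.node (.leaf 0) (.leaf 0)) (.leaf 1231))) (.node (.node (.node (.leaf 321) (.leaf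 1161)) (.leaf 0)) (.node (.leaf 0) (.leaf 1256)))))) (.node (.node (.node (.node (.node (.node (.leaf 0) (.leaf 543)) (.leaf 0)) (.node (.node (.leaf 24) (.leaf 1226)) (.leaf 890))) (.node (.node (.node (.leaf 0) (.leaf 1279)) (.leaf 0)) (.node (.node (.leaf 0) (.leaf 1361)) (.leaf 87)))) (.node (.node (.node (.node (.leaf 0) (.leaf 473)) (.leaf 0)) (.node (.node (.leaf 30) (.leaf 1021)) (.leaf 0))) (.node (.node (.node (.leaf 0) (.leaf 1291)) (.leaf 0)) (.node (.node (.leaf 0) (.leaf 1425)) (.leaf 968))))) (.node (.node (.node (.node (.node (.leaf 0) (.leaf 1348)) (.leaf 0)) (.node (.node (.leaf 484) (.leaf 498)) (.leaf 347))) (.node (.node (.node (.leaf 592) (.leaf 773)) (.leaf 751)) (.node (.node (.leaf 761) (.leaf 1150)) (.leaf 0)))) (.node (.node (.node (.node (.leaf 0) (.leaf 0)) (.leaf 1227)) (.node (.node (.leaf 33) (.leaf 1336)) (.leaf 0))) (.node (.node (.node (.leaf 0) (.leaf 410)) (.leaf 0)) (.node (.leaf 0) (.leaf 948)))))))) (.node (.node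 (.node (.node (.node (.node (.node (.node (.leaf 0) (.leaf 541)) (.leaf 0)) (.node (.node (.leaf 0) (.leaf 804)) (.leaf 0))) (.node (.node (.node (.leaf 0) (.leaf 324)) (.leaf 0)) (.node (.node (.leaf 0) (.leaf 1278)) (.leaf 763)))) (.node (.node (.node (.node (.leaf 0) (.leaf 803)) (.leaf 0)) (.node (.node (.leaf 524) (.leaf 1363)) (.leaf 0))) (.node (.node (.node (.leaf 476) (.leaf 1429)) (.leaf 487)) (.node (.node (.leaf 0) (.leaf 0)) (.leaf 572))))) (.node (.node (.node (.node (.node (.leaf 0) (.leaf 101)) (.leaf 0)) (.node (.node (.leaf 667) (.leaf 122)) (.leaf 0))) (.node (.node (.node (.leaf 0) (.leaf 339)) (.leaf 794)) (.node (.node (.leaf 0) (.leaf 1409)) (.leaf 956)))) (.node (.node (.node (.node (.leaf 9) (.leaf 0)) (.leaf 1274)) (.node (.node (.leaf 740) (.leaf 1184)) (.leaf 1091))) (.node (.node (.node (.leaf 0) (.leaf 1182)) (.leaf 469)) (.node (.leaf 744) (.leaf 483)))))) (.node (.node (.node (.node (.node (.node (.leaf 0) (.leaf 694))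 (.leaf 0)) (.node (.node (.leaf 738) (.leaf 0)) (.leaf 0))) (.node (.node (.node (.leaf 0) (.leaf 0)) (.leaf 396)) (.node (.node (.leaf 0) (.leaf 511)) (.leaf 520)))) (.node (.node (.node (.node (.leaf 7) (.leaf 0)) (.leaf 750)) (.node (.node (.leaf 0) (.leaf 603)) (.leaf 730))) (.node (.node (.node (.leaf 0) (.leaf 731)) (.leaf 399)) (.node (.node (.leaf 0) (.leaf 1422)) (.leaf 0))))) (.node (.node (.node (.node (.node (.leaf 0) (.leaf 0)) (.leaf 0)) (.node (.node (.leaf 0) (.leaf 0)) (.leaf 0))) (.node (.node (.node (.leaf 0) (.leaf 112)) (.leaf 0)) (.node (.node (.leaf 0) (.leaf 1435)) (.leaf 0)))) (.node (.node (.node (.node (.leaf 0) (.leaf 1277)) (.leaf 0)) (.node (.node (.leaf 0) (.leaf 1105)) (.leaf 0))) (.node (.node (.node (.leaf 737) (.leaf 0)) (.leaf 400)) (.node (.leaf 44) (.leaf 0))))))) (.node (.node (.node (.node (.node (.node (.node (.leaf 0) (.leaf 615)) (.leaf 0)) (.node (.node (.leaf 0) (.leaf 990)) (.leaf 549))) (.node (.node (.node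 (.leaf 0) (.leaf 404)) (.leaf 0)) (.node (.node (.leaf 0) (.leaf 1390)) (.leaf 905)))) (.node (.node (.node (.node (.leaf 0) (.leaf 0)) (.leaf 0)) (.node (.node (.leaf 0) (.leaf 1302)) (.leaf 0))) (.node (.node (.node (.leaf 0) (.leaf 116)) (.leaf 753)) (.node (.node (.leaf 0) (.leaf 881)) (.leaf 0))))) (.node (.node (.node (.node (.node (.leaf 0) (.leaf 1125)) (.leaf 0)) (.node (.node (.leaf 0) (.leaf 1072)) (.leaf 75))) (.node (.node (.node (.leaf 0) (.leaf 1023)) (.leaf 0)) (.node (.node (.leaf 0) (.leaf 0)) (.leaf 90)))) (.node (.node (.node (.node (.leaf 0) (.leaf 1006)) (.leaf 0)) (.node (.node (.leaf 0) (.leaf 1178)) (.leaf 612))) (.node (.node (.node (.leaf 0) (.leaf 1049)) (.leaf 582)) (.node (.leaf 0) (.leaf 974)))))) (.node (.node (.node (.node (.node (.node (.leaf 0) (.leaf 100)) (.leaf 0)) (.node (.node (.leaf 0) (.leaf 0)) (.leaf 533))) (.node (.node (.node (.leaf 0) (.leaf 0)) (.leaf 653)) (.node (.node (.leaf 0) (.leaf 633)) (.leaf 648))))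 (.node (.node (.node (.node (.leaf 0) (.leaf 939)) (.leaf 538)) (.node (.node (.leaf 0) (.leaf 1408)) (.leaf 349))) (.node (.node (.node (.leaf 0) (.leaf 564)) (.leaf 771)) (.node (.leaf 0) (.leaf 1239))))) (.node (.node (.node (.node (.node (.leaf 0) (.leaf 1292)) (.leaf 0)) (.node (.node (.leaf 0) (.leaf 1102)) (.leaf 0))) (.node (.node (.node (.leaf 0) (.leaf 1288)) (.leaf 1253)) (.node (.node (.leaf 0) (.leaf 1467)) (.leaf 92)))) (.node (.node (.node (.node (.leaf 0) (.leaf 1157)) (.leaf 0)) (.node (.node (.leaf 0) (.leaf 1241)) (.leaf 1064))) (.node (.node (.node (.leaf 0) (.leaf 1432)) (.leaf 406)) (.node (.leaf 0) (.leaf 774))))))))) (.node (.node (.node (.node (.node (.node (.node (.node (.node (.leaf 0) (.leaf 1068)) (.leaf 45)) (.node (.node (.leaf 0) (.leaf 0)) (.leaf 383))) (.node (.node (.node (.leaf 0) (.leaf 110)) (.leaf 0)) (.node (.node (.leaf 739) (.leaf 1405)) (.leaf 0)))) (.node (.node (.node (.node (.leaf 0) (.leaf 536)) (.leaf 516))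 (.node (.node (.leaf 0) (.leaf 715)) (.leaf 0))) (.node (.node (.node (.leaf 0) (.leaf 1151)) (.leaf 0)) (.node (.node (.leaf 759) (.leaf 1380)) (.leaf 0))))) (.node (.node (.node (.node (.node (.leaf 3) (.leaf 320)) (.leaf 0)) (.node (.node (.leaf 0) (.leaf 1159)) (.leaf 74))) (.node (.node (.node (.leaf 0) (.leaf 1296)) (.leaf 0)) (.node (.node (.leaf 0) (.leaf 1216)) (.leaf 0)))) (.node (.node (.node (.node (.leaf 0) (.leaf 913)) (.leaf 0)) (.node (.node (.leaf 0) (.leaf 577)) (.leaf 0))) (.node (.node (.node (.leaf 478) (.leaf 1146)) (.leaf 639)) (.node (.leaf 772) (.leaf 528)))))) (.node (.node (.node (.node (.node (.node (.leaf 0) (.leaf 776)) (.leaf 0)) (.node (.node (.leaf 0) (.leaf 1304)) (.leaf 1234))) (.node (.node (.node (.leaf 13) (.leaf 0)) (.leaf 0)) (.node (.node (.leaf 0) (.leaf 1428)) (.leaf 403)))) (.node (.node (.node (.node (.leaf 0) (.leaf 1243)) (.leaf 0)) (.node (.node (.leaf 0) (.leaf 0)) (.leaf 867))) (.node (.node (.node (.leaf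 0) (.leaf 0)) (.leaf 0)) (.node (.node (.leaf 40) (.leaf 1501)) (.leaf 0))))) (.node (.node (.node (.node (.node (.leaf 0) (.leaf 0)) (.leaf 0)) (.node (.node (.leaf 0) (.leaf 1078)) (.leaf 76))) (.node (.node (.node (.leaf 0) (.leaf 0)) (.leaf 625)) (.node (.node (.leaf 37) (.leaf 1365)) (.leaf 959)))) (.node (.node (.node (.node (.leaf 10) (.leaf 807)) (.leaf 0)) (.node (.node (.leaf 0) (.leaf 1473)) (.leaf 0))) (.node (.node (.node (.leaf 0) (.leaf 1158)) (.leaf 1214)) (.node (.leaf 0) (.leaf 875))))))) (.node (.node (.node (.node (.node (.node (.node (.leaf 0) (.leaf 1034)) (.leaf 46)) (.node (.node (.leaf 0) (.leaf 793)) (.leaf 0))) (.node (.node (.node (.leaf 12) (.leaf 0)) (.leaf 0)) (.node (.node (.leaf 0) (.leaf 1166)) (.leaf 683)))) (.node (.node (.node (.node (.leaf 0) (.leaf 682)) (.leaf 0)) (.node (.node (.leaf 371) (.leaf 124)) (.leaf 0))) (.node (.node (.node (.leaf 0) (.leaf 619)) (.leaf 0)) (.node (.node (.leaf 308) (.leaf 0)) (.leaf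 355))))) (.node (.node (.node (.node (.node (.leaf 0) (.leaf 0)) (.leaf 0)) (.node (.node (.leaf 323) (.leaf 1332)) (.leaf 640))) (.node (.node (.node (.leaf 0) (.leaf 0)) (.leaf 0)) (.node (.node (.leaf 0) (.leaf 1145)) (.leaf 0)))) (.node (.node (.node (.node (.leaf 0) (.leaf 322)) (.leaf 0)) (.node (.node (.leaf 466) (.leaf 0)) (.leaf 0))) (.node (.node (.node (.leaf 306) (.leaf 1269)) (.leaf 924)) (.node (.leaf 643) (.leaf 405)))))) (.node (.node (.node (.node (.node (.node (.leaf 0) (.leaf 99)) (.leaf 401)) (.node (.node (.leaf 0) (.leaf 0)) (.leaf 0))) (.node (.node (.node (.leaf 0) (.leaf 1264)) (.leaf 651)) (.node (.node (.leaf 909) (.leaf 1181)) (.leaf 790)))) (.node (.node (.node (.node (.leaf 0) (.leaf 713)) (.leaf 52)) (.node (.node (.leaf 0) (.leaf 1188)) (.leaf 81))) (.node (.node (.node (.leaf 0) (.leaf 1387)) (.leaf 65)) (.node (.node (.leaf 0) (.leaf 919)) (.leaf 1112))))) (.node (.node (.node (.node (.node (.leaf 5) (.leaf 1257)) (.leaf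 334)) (.node (.node (.leaf 0) (.leaf 883)) (.leaf 314))) (.node (.node (.node (.leaf 0) (.leaf 869)) (.leaf 62)) (.node (.node (.leaf 0) (.leaf 1311)) (.leaf 91)))) (.node (.node (.node (.node (.leaf 0) (.leaf 1218)) (.leaf 0)) (.node (.node (.leaf 747) (.leaf 911)) (.leaf 687))) (.node (.node (.node (.leaf 464) (.leaf 1047)) (.leaf 0)) (.node (.leaf 0) (.leaf 1113)))))))) (.node (.node (.node (.node (.node (.node (.node (.node (.leaf 1) (.leaf 787)) (.leaf 394)) (.node (.node (.leaf 0) (.leaf 0)) (.leaf 0))) (.node (.node (.node (.leaf 0) (.leaf 0)) (.leaf 672)) (.node (.node (.leaf 34) (.leaf 1391)) (.leaf 0)))) (.node (.node (.node (.node (.leaf 0) (.leaf 0)) (.leaf 597)) (.node (.node (.leaf 0) (.leaf 723)) (.leaf 899))) (.node (.node (.node (.leaf 0) (.leaf 0)) (.leaf 688)) (.node (.node (.leaf 0) (.leaf 1434)) (.leaf 0))))) (.node (.node (.node (.node (.node (.leaf 0) (.leaf 0)) (.leaf 0)) (.node (.node (.leaf 0) (.leaf 0)) (.leaf 402))) (.node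 (.node (.node (.leaf 0) (.leaf 545)) (.leaf 0)) (.node (.node (.leaf 0) (.leaf 1164)) (.leaf 792)))) (.node (.node (.node (.node (.leaf 0) (.leaf 106)) (.leaf 0)) (.node (.node (.leaf 0) (.leaf 918)) (.leaf 660))) (.node (.node (.node (.leaf 0) (.leaf 944)) (.leaf 0)) (.node (.leaf 0) (.leaf 94)))))) (.node (.node (.node (.node (.node (.node (.leaf 0) (.leaf 1156)) (.leaf 0)) (.node (.node (.leaf 0) (.leaf 327)) (.leaf 0))) (.node (.node (.node (.leaf 0) (.leaf 789)) (.leaf 1362)) (.node (.node (.leaf 328) (.leaf 1141)) (.leaf 0)))) (.node (.node (.node (.node (.leaf 0) (.leaf 996)) (.leaf 0)) (.node (.node (.leaf 0) (.leaf 126)) (.leaf 0))) (.node (.node (.node (.leaf 0) (.leaf 1265)) (.leaf 921)) (.node (.node (.leaf 0) (.leaf 1424)) (.leaf 1381))))) (.node (.node (.node (.node (.node (.leaf 0) (.leaf 0)) (.leaf 0)) (.node (.node (.leaf 0) (.leaf 0)) (.leaf 1079))) (.node (.node (.node (.leaf 0) (.leaf 1375)) (.leaf 0)) (.node (.node (.leaf 604) (.leaf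 1414)) (.leaf 0)))) (.node (.node (.node (.node (.leaf 0) (.leaf 1170)) (.leaf 0)) (.node (.node (.leaf 741) (.leaf 1123)) (.leaf 868))) (.node (.node (.node (.leaf 0) (.leaf 725)) (.leaf 0)) (.node (.leaf 333) (.leaf 465))))))) (.node (.node (.node (.node (.node (.node (.node (.leaf 0) (.leaf 1317)) (.leaf 0)) (.node (.node (.leaf 0) (.leaf 726)) (.leaf 1059))) (.node (.node (.node (.leaf 0) (.leaf 1004)) (.leaf 766)) (.node (.node (.leaf 0) (.leaf 0)) (.leaf 330)))) (.node (.node (.node (.node (.leaf 0) (.leaf 1118)) (.leaf 0)) (.node (.node (.leaf 0) (.leaf 0)) (.leaf 0))) (.node (.node (.node (.leaf 0) (.leaf 568)) (.leaf 63)) (.node (.node (.leaf 0) (.leaf 1419)) (.leaf 573))))) (.node (.node (.node (.node (.node (.leaf 0) (.leaf 103)) (.leaf 0)) (.node (.node (.leaf 891) (.leaf 1169)) (.leaf 557))) (.node (.node (.node (.leaf 0) (.leaf 718)) (.leaf 769)) (.node (.node (.leaf 767) (.leaf 0)) (.leaf 1306)))) (.node (.node (.node (.node (.leaf 0)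 (.leaf 107)) (.leaf 595)) (.node (.node (.leaf 0) (.leaf 0)) (.leaf 0))) (.node (.node (.node (.leaf 0) (.leaf 0)) (.leaf 68)) (.node (.leaf 0) (.leaf 1082)))))) (.node (.node (.node (.node (.node (.node (.leaf 0) (.leaf 668)) (.leaf 48)) (.node (.node (.leaf 25) (.leaf 1028)) (.leaf 930))) (.node (.node (.node (.leaf 14) (.leaf 1163)) (.leaf 678)) (.node (.node (.leaf 0) (.leaf 128)) (.leaf 352)))) (.node (.node (.node (.node (.leaf 0) (.leaf 105)) (.leaf 0)) (.node (.node (.leaf 0) (.leaf 812)) (.leaf 1053))) (.node (.node (.node (.leaf 0) (.leaf 1207)) (.leaf 66)) (.node (.leaf 41) (.leaf 1343))))) (.node (.node (.node (.node (.node (.leaf 0) (.leaf 0)) (.leaf 534)) (.node (.node (.leaf 0) (.leaf 1200)) (.leaf 0))) (.node (.node (.node (.leaf 0) (.leaf 721)) (.leaf 0)) (.node (.node (.leaf 560) (.leaf 1499)) (.leaf 0)))) (.node (.node (.node (.node (.leaf 11) (.leaf 0)) (.leaf 0)) (.node (.node (.leaf 0) (.leaf 1248)) (.leaf 0))) (.node (.node (.node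 (.leaf 0) (.leaf 1052)) (.leaf 1054)) (.node (.leaf 0) (.leaf 979))))))))))) (.node (.node (.node (.node (.node (.node (.node (.node (.node (.node (.node (.leaf 0) (.leaf 1196)) (.leaf 0)) (.node (.node (.leaf 716) (.leaf 1134)) (.leaf 0))) (.node (.node (.node (.leaf 0) (.leaf 0)) (.leaf 425)) (.node (.node (.leaf 0) (.leaf 1475)) (.leaf 0)))) (.node (.node (.node (.node (.leaf 0) (.leaf 1097)) (.leaf 1268)) (.node (.node (.leaf 309) (.leaf 1452)) (.leaf 436))) (.node (.node (.node (.leaf 0) (.leaf 0)) (.leaf 1344)) (.node (.node (.leaf 0) (.leaf 460)) (.leaf 872))))) (.node (.node (.node (.node (.node (.leaf 0) (.leaf 665)) (.leaf 0)) (.node (.node (.leaf 0) (.leaf 234)) (.leaf 960))) (.node (.node (.node (.leaf 0) (.leaf 729)) (.leaf 285)) (.node (.node (.leaf 354) (.leaf 1090)) (.leaf 294)))) (.node (.node (.node (.node (.leaf 136) (.leaf 0)) (.leaf 182)) (.node (.node (.leaf 934) (.leaf 851)) (.leaf 876))) (.node (.node (.node (.leaf 0) (.leaf 865))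 (.leaf 0)) (.node (.leaf 1261) (.leaf 0)))))) (.node (.node (.node (.node (.node (.node (.leaf 0) (.leaf 1450)) (.leaf 0)) (.node (.node (.leaf 0) (.leaf 964)) (.leaf 438))) (.node (.node (.node (.leaf 0) (.leaf 942)) (.leaf 587)) (.node (.node (.leaf 0) (.leaf 0)) (.leaf 892)))) (.node (.node (.node (.node (.leaf 0) (.leaf 0)) (.leaf 481)) (.node (.node (.leaf 0) (.leaf 236)) (.leaf 0))) (.node (.node (.node (.leaf 0) (.leaf 1444)) (.leaf 0)) (.node (.node (.leaf 434) (.leaf 1351)) (.leaf 908))))) (.node (.node (.node (.node (.node (.leaf 132) (.leaf 0)) (.leaf 178)) (.node (.node (.leaf 920) (.leaf 1334)) (.leaf 666))) (.node (.node (.node (.leaf 0) (.leaf 622)) (.leaf 0)) (.node (.node (.leaf 0) (.leaf 1483)) (.leaf 204)))) (.node (.node (.node (.node (.leaf 0) (.leaf 0)) (.leaf 496)) (.node (.node (.leaf 637) (.leaf 457)) (.leaf 0))) (.node (.node (.node (.leaf 499) (.leaf 0)) (.leaf 1133)) (.node (.leaf 0) (.leaf 356))))))) (.node (.node (.node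 (.node (.node (.node (.node (.leaf 0) (.leaf 268)) (.leaf 0)) (.node (.node (.leaf 0) (.leaf 0)) (.leaf 0))) (.node (.node (.node (.leaf 0) (.leaf 0)) (.leaf 0)) (.node (.node (.leaf 0) (.leaf 1500)) (.leaf 202)))) (.node (.node (.node (.node (.leaf 134) (.leaf 0)) (.leaf 0)) (.node (.node (.leaf 0) (.leaf 1101)) (.leaf 0))) (.node (.node (.node (.leaf 0) (.leaf 978)) (.leaf 593)) (.node (.node (.leaf 0) (.leaf 1316)) (.leaf 0))))) (.node (.node (.node (.node (.node (.leaf 0) (.leaf 553)) (.leaf 0)) (.node (.node (.leaf 153) (.leaf 0)) (.leaf 488))) (.node (.node (.node (.leaf 142) (.leaf 0)) (.leaf 0)) (.node (.node (.leaf 0) (.leaf 532)) (.leaf 547)))) (.node (.node (.node (.node (.leaf 0) (.leaf 1372)) (.leaf 0)) (.node (.node (.leaf 0) (.leaf 1099)) (.leaf 293))) (.node (.node (.node (.leaf 0) (.leaf 1397)) (.leaf 0)) (.node (.leaf 0) (.leaf 1225)))))) (.node (.node (.node (.node (.node (.node (.leaf 0) (.leaf 0)) (.leaf 894)) (.node (.node (.leaf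 0) (.leaf 301)) (.leaf 0))) (.node (.node (.node (.leaf 0) (.leaf 1281)) (.leaf 523)) (.node (.node (.leaf 0) (.leaf 0)) (.leaf 0)))) (.node (.node (.node (.node (.leaf 0) (.leaf 1089)) (.leaf 0)) (.node (.node (.leaf 158) (.leaf 1333)) (.leaf 0))) (.node (.node (.node (.leaf 0) (.leaf 300)) (.leaf 1219)) (.node (.node (.leaf 973) (.leaf 1485)) (.leaf 208))))) (.node (.node (.node (.node (.node (.leaf 0) (.leaf 0)) (.leaf 281)) (.node (.node (.leaf 0) (.leaf 0)) (.leaf 0))) (.node (.node (.node (.leaf 0) (.leaf 276)) (.leaf 0)) (.node (.node (.leaf 1228) (.leaf 1469)) (.leaf 0)))) (.node (.node (.node (.node (.leaf 0) (.leaf 0)) (.leaf 1013)) (.node (.node (.leaf 273) (.leaf 1488)) (.leaf 201))) (.node (.node (.node (.leaf 0) (.leaf 454)) (.leaf 0)) (.node (.leaf 0) (.leaf 567)))))))) (.node (.node (.node (.node (.node (.node (.node (.node (.leaf 0) (.leaf 852)) (.leaf 359)) (.node (.node (.leaf 0) (.leaf 1109)) (.leaf 611))) (.node (.node (.node (.leaf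 0) (.leaf 0)) (.leaf 0)) (.node (.node (.leaf 0) (.leaf 242)) (.leaf 820)))) (.node (.node (.node (.node (.leaf 0) (.leaf 1032)) (.leaf 364)) (.node (.node (.leaf 0) (.leaf 1137)) (.leaf 0))) (.node (.node (.node (.leaf 0) (.leaf 223)) (.leaf 1143)) (.node (.node (.leaf 877) (.leaf 1498)) (.leaf 0))))) (.node (.node (.node (.node (.node (.leaf 0) (.leaf 0)) (.leaf 0)) (.node (.node (.leaf 0) (.leaf 556)) (.leaf 610))) (.node (.node (.node (.leaf 0) (.leaf 0)) (.leaf 497)) (.node (.node (.leaf 0) (.leaf 0)) (.leaf 0)))) (.node (.node (.node (.node (.leaf 0) (.leaf 1085)) (.leaf 419)) (.node (.node (.leaf 0) (.leaf 1148)) (.leaf 841))) (.node (.node (.node (.leaf 0) (.leaf 226)) (.leaf 824)) (.node (.leaf 580) (.leaf 686)))))) (.node (.node (.node (.node (.node (.node (.leaf 0) (.leaf 0)) (.leaf 0)) (.node (.node (.leaf 151) (.leaf 0)) (.leaf 193))) (.node (.node (.node (.leaf 0) (.leaf 1070)) (.leaf 0)) (.node (.node (.leaf 275) (.leaf 1213)) (.leaf 836))))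 (.node (.node (.node (.node (.leaf 135) (.leaf 1395)) (.leaf 181)) (.node (.node (.leaf 0) (.leaf 1025)) (.leaf 1000))) (.node (.node (.node (.leaf 0) (.leaf 1223)) (.leaf 435)) (.node (.node (.leaf 0) (.leaf 862)) (.leaf 685))))) (.node (.node (.node (.node (.node (.leaf 0) (.leaf 213)) (.leaf 0)) (.node (.node (.leaf 342) (.leaf 1232)) (.leaf 0))) (.node (.node (.node (.leaf 143) (.leaf 1298)) (.leaf 0)) (.node (.node (.leaf 821) (.leaf 906)) (.leaf 0)))) (.node (.node (.node (.node (.leaf 0) (.leaf 562)) (.leaf 903)) (.node (.node (.leaf 0) (.leaf 1326)) (.leaf 1092))) (.node (.node (.node (.leaf 0) (.leaf 0)) (.leaf 624)) (.node (.leaf 172) (.leaf 0))))))) (.node (.node (.node (.node (.node (.node (.node (.leaf 0) (.leaf 522)) (.leaf 652)) (.node (.node (.leaf 0) (.leaf 0)) (.leaf 0))) (.node (.node (.node (.leaf 0) (.leaf 0)) (.leaf 0)) (.node (.node (.leaf 162) (.leaf 987)) (.leaf 705)))) (.node (.node (.node (.node (.leaf 0) (.leaf 0)) (.leaf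 0)) (.node (.node (.leaf 0) (.leaf 1315)) (.leaf 0))) (.node (.node (.node (.leaf 307) (.leaf 503)) (.leaf 0)) (.node (.node (.leaf 0) (.leaf 1468)) (.leaf 0))))) (.node (.node (.node (.node (.node (.leaf 0) (.leaf 0)) (.leaf 0)) (.node (.node (.leaf 0) (.leaf 1117)) (.leaf 818))) (.node (.node (.node (.leaf 583) (.leaf 0)) (.leaf 0)) (.node (.node (.leaf 380) (.leaf 1338)) (.leaf 444)))) (.node (.node (.node (.node (.leaf 0) (.leaf 673)) (.leaf 0)) (.node (.node (.leaf 272) (.leaf 1463)) (.leaf 509))) (.node (.node (.node (.leaf 0) (.leaf 228)) (.leaf 711)) (.node (.leaf 0) (.leaf 209)))))) (.node (.node (.node (.node (.node (.node (.leaf 0) (.leaf 1019)) (.leaf 675)) (.node (.node (.leaf 0) (.leaf 302)) (.leaf 0))) (.node (.node (.node (.leaf 0) (.leaf 1208)) (.leaf 0)) (.node (.node (.leaf 1286) (.leaf 0)) (.leaf 0)))) (.node (.node (.node (.node (.leaf 0) (.leaf 828)) (.leaf 829)) (.node (.node (.leaf 0) (.leaf 0)) (.leaf 1002))) (.node (.node (.node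 (.leaf 0) (.leaf 225)) (.leaf 1153)) (.node (.leaf 422) (.leaf 980))))) (.node (.node (.node (.node (.node (.leaf 0) (.leaf 896)) (.leaf 0)) (.node (.node (.leaf 493) (.leaf 235)) (.leaf 0))) (.node (.node (.node (.leaf 0) (.leaf 1024)) (.leaf 0)) (.node (.node (.leaf 0) (.leaf 1486)) (.leaf 832)))) (.node (.node (.node (.node (.leaf 0) (.leaf 0)) (.leaf 0)) (.node (.node (.leaf 0) (.leaf 1382)) (.leaf 0))) (.node (.node (.node (.leaf 265) (.leaf 367)) (.leaf 947)) (.node (.leaf 0) (.leaf 0))))))))) (.node (.node (.node (.node (.node (.node (.node (.node (.node (.leaf 0) (.leaf 0)) (.leaf 174)) (.node (.node (.leaf 0) (.leaf 854)) (.leaf 0))) (.node (.node (.node (.leaf 0) (.leaf 537)) (.leaf 0)) (.node (.node (.leaf 161) (.leaf 241)) (.leaf 1237)))) (.node (.node (.node (.node (.leaf 0) (.leaf 0)) (.leaf 0)) (.node (.node (.leaf 0) (.leaf 1413)) (.leaf 0))) (.node (.node (.node (.leaf 0) (.leaf 222)) (.leaf 0)) (.node (.node (.leaf 0) (.leaf 1497))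 (.leaf 0))))) (.node (.node (.node (.node (.node (.leaf 131) (.leaf 986)) (.leaf 0)) (.node (.node (.leaf 415) (.leaf 0)) (.leaf 0))) (.node (.node (.node (.leaf 0) (.leaf 1263)) (.leaf 335)) (.node (.node (.leaf 0) (.leaf 1129)) (.leaf 0)))) (.node (.node (.node (.node (.leaf 0) (.leaf 0)) (.leaf 0)) (.node (.node (.leaf 0) (.leaf 941)) (.leaf 677))) (.node (.node (.node (.leaf 0) (.leaf 1342)) (.leaf 0)) (.node (.leaf 0) (.leaf 526)))))) (.node (.node (.node (.node (.node (.node (.leaf 0) (.leaf 0)) (.leaf 0)) (.node (.node (.leaf 0) (.leaf 0)) (.leaf 0))) (.node (.node (.node (.leaf 140) (.leaf 1172)) (.leaf 0)) (.node (.node (.leaf 0) (.leaf 856)) (.leaf 1073)))) (.node (.node (.node (.node (.leaf 0) (.leaf 0)) (.leaf 0)) (.node (.node (.leaf 0) (.leaf 1221)) (.leaf 0))) (.node (.node (.node (.leaf 263) (.leaf 1215)) (.leaf 834)) (.node (.node (.leaf 170) (.leaf 1489)) (.leaf 945))))) (.node (.node (.node (.node (.node (.leaf 0) (.leaf 246)) (.leaf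 671)) (.node (.node (.leaf 0) (.leaf 844)) (.leaf 196))) (.node (.node (.node (.leaf 0) (.leaf 0)) (.leaf 0)) (.node (.node (.leaf 166) (.leaf 0)) (.leaf 1235)))) (.node (.node (.node (.node (.leaf 137) (.leaf 845)) (.leaf 366)) (.node (.node (.leaf 0) (.leaf 0)) (.leaf 0))) (.node (.node (.node (.leaf 0) (.leaf 1460)) (.leaf 0)) (.node (.leaf 0) (.leaf 0))))))) (.node (.node (.node (.node (.node (.node (.node (.leaf 0) (.leaf 889)) (.leaf 175)) (.node (.node (.leaf 0) (.leaf 1093)) (.leaf 584))) (.node (.node (.node (.leaf 139) (.leaf 1009)) (.leaf 0)) (.node (.node (.leaf 0) (.leaf 0)) (.leaf 0)))) (.node (.node (.node (.node (.leaf 0) (.leaf 679)) (.leaf 0)) (.node (.node (.leaf 0) (.leaf 1379)) (.leaf 0))) (.node (.node (.node (.leaf 0) (.leaf 0)) (.leaf 0)) (.node (.node (.leaf 357) (.leaf 245)) (.leaf 207))))) (.node (.node (.node (.node (.node (.leaf 0) (.leaf 0)) (.leaf 0)) (.node (.node (.leaf 598) (.leaf 848)) (.leaf 0))) (.node (.node (.node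 (.leaf 634) (.leaf 1457)) (.leaf 0)) (.node (.node (.leaf 0) (.leaf 1119)) (.leaf 379)))) (.node (.node (.node (.node (.leaf 0) (.leaf 1275)) (.leaf 923)) (.node (.node (.leaf 283) (.leaf 1456)) (.leaf 346))) (.node (.node (.node (.leaf 337) (.leaf 1131)) (.leaf 0)) (.node (.leaf 0) (.leaf 0)))))) (.node (.node (.node (.node (.node (.node (.leaf 0) (.leaf 1205)) (.leaf 0)) (.node (.node (.leaf 0) (.leaf 735)) (.leaf 1058))) (.node (.node (.node (.leaf 0) (.leaf 1285)) (.leaf 318)) (.node (.node (.leaf 353) (.leaf 1455)) (.leaf 1238)))) (.node (.node (.node (.node (.leaf 0) (.leaf 1035)) (.leaf 1040)) (.node (.node (.leaf 0) (.leaf 1095)) (.leaf 0))) (.node (.node (.node (.leaf 0) (.leaf 254)) (.leaf 0)) (.node (.node (.leaf 0) (.leaf 1490)) (.leaf 1252))))) (.node (.node (.node (.node (.node (.leaf 133) (.leaf 0)) (.leaf 621)) (.node (.node (.leaf 471) (.leaf 697)) (.leaf 372))) (.node (.node (.node (.leaf 249) (.leaf 0)) (.leaf 480)) (.node (.node (.leaf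 278) (.leaf 0)) (.leaf 518)))) (.node (.node (.node (.node (.leaf 0) (.leaf 217)) (.leaf 0)) (.node (.node (.leaf 0) (.leaf 1377)) (.leaf 0))) (.node (.node (.node (.leaf 277) (.leaf 230)) (.leaf 925)) (.node (.leaf 0) (.leaf 1439)))))))) (.node (.node (.node (.node (.node (.node (.node (.node (.leaf 0) (.leaf 569)) (.leaf 0)) (.node (.node (.leaf 636) (.leaf 0)) (.leaf 1051))) (.node (.node (.node (.leaf 0) (.leaf 1114)) (.leaf 0)) (.node (.node (.leaf 0) (.leaf 1481)) (.leaf 0)))) (.node (.node (.node (.node (.leaf 0) (.leaf 0)) (.leaf 0)) (.node (.node (.leaf 270) (.leaf 0)) (.leaf 1076))) (.node (.node (.node (.leaf 468) (.leaf 847)) (.leaf 0)) (.node (.node (.leaf 0) (.leaf 1386)) (.leaf 963))))) (.node (.node (.node (.node (.node (.leaf 0) (.leaf 0)) (.leaf 992)) (.node (.node (.leaf 500) (.leaf 0)) (.leaf 388))) (.node (.node (.node (.leaf 0) (.leaf 0)) (.leaf 1005)) (.node (.node (.leaf 252) (.leaf 1378)) (.leaf 558)))) (.node (.node (.node (.node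 (.leaf 0) (.leaf 0)) (.leaf 1015)) (.node (.node (.leaf 0) (.leaf 0)) (.leaf 0))) (.node (.node (.node (.leaf 264) (.leaf 915)) (.leaf 286)) (.node (.leaf 0) (.leaf 658)))))) (.node (.node (.node (.node (.node (.node (.leaf 0) (.leaf 709)) (.leaf 0)) (.node (.node (.leaf 0) (.leaf 1307)) (.leaf 0))) (.node (.node (.node (.leaf 412) (.leaf 835)) (.leaf 482)) (.node (.node (.leaf 607) (.leaf 243)) (.leaf 1022)))) (.node (.node (.node (.node (.leaf 0) (.leaf 0)) (.leaf 1202)) (.node (.node (.leaf 0) (.leaf 0)) (.leaf 0))) (.node (.node (.node (.leaf 0) (.leaf 1384)) (.leaf 825)) (.node (.node (.leaf 381) (.leaf 1401)) (.leaf 492))))) (.node (.node (.node (.node (.node (.leaf 0) (.leaf 1267)) (.leaf 432)) (.node (.node (.leaf 0) (.leaf 1132)) (.leaf 427))) (.node (.node (.node (.leaf 0) (.leaf 1393)) (.leaf 0)) (.node (.node (.leaf 0) (.leaf 1396)) (.leaf 0)))) (.node (.node (.node (.node (.leaf 0) (.leaf 384)) (.leaf 0)) (.node (.node (.leaf 0) (.leaf 888))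 (.leaf 0))) (.node (.node (.node (.leaf 0) (.leaf 1062)) (.leaf 0)) (.node (.leaf 614) (.leaf 1389))))))) (.node (.node (.node (.node (.node (.node (.node (.leaf 129) (.leaf 977)) (.leaf 344)) (.node (.node (.leaf 0) (.leaf 943)) (.leaf 929))) (.node (.node (.node (.leaf 0) (.leaf 0)) (.leaf 0)) (.node (.node (.leaf 513) (.leaf 1007)) (.leaf 647)))) (.node (.node (.node (.node (.leaf 0) (.leaf 0)) (.leaf 385)) (.node (.node (.leaf 0) (.leaf 1136)) (.leaf 591))) (.node (.node (.node (.leaf 0) (.leaf 1300)) (.leaf 256)) (.node (.node (.leaf 967) (.leaf 940)) (.leaf 0))))) (.node (.node (.node (.node (.node (.leaf 0) (.leaf 0)) (.leaf 430)) (.node (.node (.leaf 341) (.leaf 456)) (.leaf 972))) (.node (.node (.node (.leaf 0) (.leaf 1442)) (.leaf 0)) (.node (.node (.leaf 508) (.leaf 1459)) (.leaf 0)))) (.node (.node (.node (.node (.leaf 0) (.leaf 216)) (.leaf 183)) (.node (.node (.leaf 0) (.leaf 0)) (.leaf 644))) (.node (.node (.node (.leaf 0) (.leaf 1447))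 (.leaf 287)) (.node (.leaf 0) (.leaf 0)))))) (.node (.node (.node (.node (.node (.node (.leaf 0) (.leaf 555)) (.leaf 280)) (.node (.node (.leaf 152) (.leaf 855)) (.leaf 0))) (.node (.node (.node (.leaf 141) (.leaf 0)) (.leaf 0)) (.node (.node (.leaf 0) (.leaf 1165)) (.leaf 0)))) (.node (.node (.node (.node (.leaf 0) (.leaf 674)) (.leaf 0)) (.node (.node (.leaf 0) (.leaf 1347)) (.leaf 1050))) (.node (.node (.node (.leaf 817) (.leaf 850)) (.leaf 0)) (.node (.leaf 279) (.leaf 1162))))) (.node (.node (.node (.node (.node (.leaf 0) (.leaf 853)) (.leaf 363)) (.node (.node (.leaf 0) (.leaf 0)) (.leaf 1077))) (.node (.node (.node (.leaf 0) (.leaf 0)) (.leaf 0)) (.node (.node (.leaf 0) (.leaf 860)) (.leaf 0)))) (.node (.node (.node (.node (.leaf 138) (.leaf 0)) (.leaf 0)) (.node (.node (.leaf 0) (.leaf 1464)) (.leaf 0))) (.node (.node (.node (.leaf 0) (.leaf 232)) (.leaf 0)) (.node (.leaf 0) (.leaf 635)))))))))) (.node (.node (.node (.node (.node (.node (.node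 (.node (.node (.node (.leaf 0) (.leaf 0)) (.leaf 0)) (.node (.node (.leaf 0) (.leaf 0)) (.leaf 0))) (.node (.node (.node (.leaf 0) (.leaf 304)) (.leaf 585)) (.node (.node (.leaf 0) (.leaf 240)) (.leaf 0)))) (.node (.node (.node (.node (.leaf 0) (.leaf 296)) (.leaf 180)) (.node (.node (.leaf 0) (.leaf 1446)) (.leaf 373))) (.node (.node (.node (.leaf 0) (.leaf 1206)) (.leaf 893)) (.node (.node (.leaf 168) (.leaf 1423)) (.leaf 849))))) (.node (.node (.node (.node (.node (.leaf 0) (.leaf 0)) (.leaf 0)) (.node (.node (.leaf 870) (.leaf 1310)) (.leaf 0))) (.node (.node (.node (.leaf 332) (.leaf 681)) (.leaf 187)) (.node (.node (.leaf 0) (.leaf 1135)) (.leaf 203)))) (.node (.node (.node (.node (.leaf 0) (.leaf 1001)) (.leaf 0)) (.node (.node (.leaf 159) (.leaf 858)) (.leaf 199))) (.node (.node (.node (.leaf 815) (.leaf 1471)) (.leaf 368)) (.node (.leaf 0) (.leaf 1080)))))) (.node (.node (.node (.node (.node (.node (.leaf 0) (.leaf 1008)) (.leaf 0)) (.node (.node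 (.leaf 0) (.leaf 1124)) (.leaf 0))) (.node (.node (.node (.leaf 0) (.leaf 0)) (.leaf 957)) (.node (.node (.leaf 0) (.leaf 988)) (.leaf 0)))) (.node (.node (.node (.node (.leaf 0) (.leaf 495)) (.leaf 429)) (.node (.node (.leaf 414) (.leaf 1103)) (.leaf 0))) (.node (.node (.node (.leaf 0) (.leaf 1016)) (.leaf 0)) (.node (.node (.leaf 274) (.leaf 1494)) (.leaf 0))))) (.node (.node (.node (.node (.node (.leaf 0) (.leaf 0)) (.leaf 0)) (.node (.node (.leaf 154) (.leaf 936)) (.leaf 0))) (.node (.node (.node (.leaf 269) (.leaf 1195)) (.leaf 0)) (.node (.node (.leaf 474) (.leaf 1410)) (.leaf 846)))) (.node (.node (.node (.node (.leaf 257) (.leaf 0)) (.leaf 184)) (.node (.node (.leaf 0) (.leaf 982)) (.leaf 0))) (.node (.node (.node (.leaf 149) (.leaf 229)) (.leaf 0)) (.node (.leaf 0) (.leaf 1190))))))) (.node (.node (.node (.node (.node (.node (.node (.leaf 0) (.leaf 1360)) (.leaf 985)) (.node (.node (.leaf 266) (.leaf 1122)) (.leaf 712))) (.node (.node (.node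 (.leaf 259) (.leaf 219)) (.leaf 185)) (.node (.node (.leaf 0) (.leaf 458)) (.leaf 0)))) (.node (.node (.node (.node (.leaf 0) (.leaf 1071)) (.leaf 0)) (.node (.node (.leaf 0) (.leaf 1276)) (.leaf 292))) (.node (.node (.node (.leaf 0) (.leaf 224)) (.leaf 358)) (.node (.node (.leaf 0) (.leaf 861)) (.leaf 962))))) (.node (.node (.node (.node (.node (.leaf 0) (.leaf 916)) (.leaf 0)) (.node (.node (.leaf 0) (.leaf 961)) (.leaf 195))) (.node (.node (.node (.leaf 0) (.leaf 843)) (.leaf 0)) (.node (.node (.leaf 0) (.leaf 1484)) (.leaf 1337)))) (.node (.node (.node (.node (.leaf 0) (.leaf 0)) (.leaf 365)) (.node (.node (.leaf 0) (.leaf 238)) (.leaf 200))) (.node (.node (.node (.leaf 0) (.leaf 227)) (.leaf 0)) (.node (.leaf 0) (.leaf 1441)))))) (.node (.node (.node (.node (.node (.node (.leaf 0) (.leaf 0)) (.leaf 932)) (.node (.node (.leaf 0) (.leaf 233)) (.leaf 0))) (.node (.node (.node (.leaf 0) (.leaf 1210)) (.leaf 0)) (.node (.node (.leaf 0) (.leaf 1373))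 (.leaf 0)))) (.node (.node (.node (.node (.leaf 0) (.leaf 215)) (.leaf 922)) (.node (.node (.leaf 0) (.leaf 1283)) (.leaf 717))) (.node (.node (.node (.leaf 467) (.leaf 1399)) (.leaf 0)) (.node (.node (.leaf 303) (.leaf 1152)) (.leaf 1259))))) (.node (.node (.node (.node (.node (.leaf 0) (.leaf 1063)) (.leaf 179)) (.node (.node (.leaf 0) (.leaf 734)) (.leaf 0))) (.node (.node (.node (.leaf 0) (.leaf 693)) (.leaf 0)) (.node (.node (.leaf 0) (.leaf 1479)) (.leaf 299)))) (.node (.node (.node (.node (.leaf 0) (.leaf 1220)) (.leaf 816)) (.node (.node (.leaf 0) (.leaf 1222)) (.leaf 0))) (.node (.node (.node (.leaf 0) (.leaf 931)) (.leaf 0)) (.node (.leaf 475) (.leaf 210)))))))) (.node (.node (.node (.node (.node (.node (.node (.node (.leaf 0) (.leaf 448)) (.leaf 441)) (.node (.node (.leaf 0) (.leaf 696)) (.leaf 0))) (.node (.node (.node (.leaf 0) (.leaf 0)) (.leaf 0)) (.node (.node (.leaf 0) (.leaf 529)) (.leaf 0)))) (.node (.node (.node (.node (.leaf 0) (.leaf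 0)) (.leaf 0)) (.node (.node (.leaf 0) (.leaf 1203)) (.leaf 822))) (.node (.node (.node (.leaf 0) (.leaf 1029)) (.leaf 189)) (.node (.node (.leaf 416) (.leaf 1160)) (.leaf 206))))) (.node (.node (.node (.node (.node (.leaf 0) (.leaf 377)) (.leaf 0)) (.node (.node (.leaf 0) (.leaf 1128)) (.leaf 879))) (.node (.node (.node (.leaf 0) (.leaf 220)) (.leaf 0)) (.node (.node (.leaf 0) (.leaf 1179)) (.leaf 1075)))) (.node (.node (.node (.node (.leaf 0) (.leaf 0)) (.leaf 0)) (.node (.node (.leaf 594) (.leaf 1065)) (.leaf 0))) (.node (.node (.node (.leaf 0) (.leaf 0)) (.leaf 447)) (.node (.leaf 0) (.leaf 719)))))) (.node (.node (.node (.node (.node (.node (.leaf 130) (.leaf 1201)) (.leaf 176)) (.node (.node (.leaf 0) (.leaf 1394)) (.leaf 369))) (.node (.node (.node (.leaf 601) (.leaf 902)) (.leaf 0)) (.node (.node (.leaf 163) (.leaf 455)) (.leaf 840)))) (.node (.node (.node (.node (.leaf 0) (.leaf 827)) (.leaf 630)) (.node (.node (.leaf 0) (.leaf 237)) (.leaf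 198))) (.node (.node (.node (.leaf 0) (.leaf 708)) (.leaf 0)) (.node (.node (.leaf 885) (.leaf 1492)) (.leaf 724))))) (.node (.node (.node (.node (.node (.leaf 0) (.leaf 449)) (.leaf 0)) (.node (.node (.leaf 0) (.leaf 1319)) (.leaf 927))) (.node (.node (.node (.leaf 0) (.leaf 0)) (.leaf 0)) (.node (.node (.leaf 912) (.leaf 1482)) (.leaf 0)))) (.node (.node (.node (.node (.leaf 0) (.leaf 1453)) (.leaf 386)) (.node (.node (.leaf 375) (.leaf 0)) (.leaf 656))) (.node (.node (.node (.leaf 588) (.leaf 1461)) (.leaf 0)) (.node (.leaf 581) (.leaf 1448))))))) (.node (.node (.node (.node (.node (.node (.node (.leaf 0) (.leaf 1353)) (.leaf 0)) (.node (.node (.leaf 0) (.leaf 0)) (.leaf 192))) (.node (.node (.node (.leaf 0) (.leaf 0)) (.leaf 0)) (.node (.node (.leaf 0) (.leaf 0)) (.leaf 0)))) (.node (.node (.node (.node (.leaf 0) (.leaf 0)) (.leaf 0)) (.node (.node (.leaf 470) (.leaf 1087)) (.leaf 571))) (.node (.node (.node (.leaf 0) (.leaf 680)) (.leaf 632)) (.node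 (.node (.leaf 0) (.leaf 0)) (.leaf 0))))) (.node (.node (.node (.node (.node (.leaf 0) (.leaf 1033)) (.leaf 0)) (.node (.node (.leaf 0) (.leaf 0)) (.leaf 0))) (.node (.node (.node (.leaf 0) (.leaf 1098)) (.leaf 1030)) (.node (.node (.leaf 433) (.leaf 244)) (.leaf 0)))) (.node (.node (.node (.node (.leaf 0) (.leaf 297)) (.leaf 1014)) (.node (.node (.leaf 160) (.leaf 1176)) (.leaf 971))) (.node (.node (.node (.leaf 0) (.leaf 0)) (.leaf 0)) (.node (.leaf 171) (.leaf 0)))))) (.node (.node (.node (.node (.node (.node (.leaf 0) (.leaf 0)) (.leaf 0)) (.node (.node (.leaf 0) (.leaf 387)) (.leaf 440))) (.node (.node (.node (.leaf 261) (.leaf 1031)) (.leaf 0)) (.node (.node (.leaf 164) (.leaf 878)) (.leaf 374)))) (.node (.node (.node (.node (.leaf 0) (.leaf 0)) (.leaf 0)) (.node (.node (.leaf 0) (.leaf 1094)) (.leaf 0))) (.node (.node (.node (.leaf 0) (.leaf 453)) (.leaf 0)) (.node (.leaf 0) (.leaf 1445))))) (.node (.node (.node (.node (.node (.leaf 0) (.leaf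 214)) (.leaf 0)) (.node (.node (.leaf 0) (.leaf 0)) (.leaf 0))) (.node (.node (.node (.leaf 0) (.leaf 221)) (.leaf 0)) (.node (.node (.leaf 605) (.leaf 1480)) (.leaf 1233)))) (.node (.node (.node (.node (.leaf 0) (.leaf 0)) (.leaf 1287)) (.node (.node (.leaf 0) (.leaf 1154)) (.leaf 830))) (.node (.node (.node (.leaf 150) (.leaf 231)) (.leaf 0)) (.node (.leaf 417) (.leaf 886))))))))) (.node (.node (.node (.node (.node (.node (.node (.node (.node (.leaf 0) (.leaf 1369)) (.leaf 0)) (.node (.node (.leaf 0) (.leaf 0)) (.leaf 645))) (.node (.node (.node (.leaf 0) (.leaf 1271)) (.leaf 0)) (.node (.node (.leaf 0) (.leaf 0)) (.leaf 1346)))) (.node (.node (.node (.node (.leaf 0) (.leaf 1017)) (.leaf 428)) (.node (.node (.leaf 0) (.leaf 0)) (.leaf 937))) (.node (.node (.node (.leaf 0) (.leaf 0)) (.leaf 0)) (.node (.node (.leaf 0) (.leaf 1388)) (.leaf 491))))) (.node (.node (.node (.node (.node (.leaf 0) (.leaf 839)) (.leaf 0)) (.node (.node (.leaf 0) (.leaf 305))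 (.leaf 0))) (.node (.node (.node (.leaf 0) (.leaf 1335)) (.leaf 0)) (.node (.node (.leaf 1211) (.leaf 1403)) (.leaf 0)))) (.node (.node (.node (.node (.leaf 0) (.leaf 1451)) (.leaf 897)) (.node (.node (.leaf 617) (.leaf 657)) (.leaf 0))) (.node (.node (.node (.leaf 0) (.leaf 1003)) (.leaf 0)) (.node (.leaf 423) (.leaf 0)))))) (.node (.node (.node (.node (.node (.node (.leaf 0) (.leaf 0)) (.leaf 291)) (.node (.node (.leaf 0) (.leaf 0)) (.leaf 289))) (.node (.node (.node (.leaf 0) (.leaf 1325)) (.leaf 880)) (.node (.node (.leaf 515) (.leaf 1462)) (.leaf 0)))) (.node (.node (.node (.node (.leaf 0) (.leaf 1144)) (.leaf 479)) (.node (.node (.leaf 0) (.leaf 1356)) (.leaf 250))) (.node (.node (.node (.leaf 146) (.leaf 1127)) (.leaf 548)) (.node (.node (.leaf 0) (.leaf 1495)) (.leaf 1293))))) (.node (.node (.node (.node (.node (.leaf 0) (.leaf 966)) (.leaf 426)) (.node (.node (.leaf 0) (.leaf 1314)) (.leaf 0))) (.node (.node (.node (.leaf 262) (.leaf 1191))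 (.leaf 188)) (.node (.node (.leaf 826) (.leaf 461)) (.leaf 0)))) (.node (.node (.node (.node (.leaf 0) (.leaf 298)) (.leaf 0)) (.node (.node (.leaf 0) (.leaf 239)) (.leaf 0))) (.node (.node (.node (.leaf 602) (.leaf 1385)) (.leaf 437)) (.node (.leaf 378) (.leaf 0))))))) (.node (.node (.node (.node (.node (.node (.node (.leaf 0) (.leaf 0)) (.leaf 512)) (.node (.node (.leaf 0) (.leaf 345)) (.leaf 0))) (.node (.node (.node (.leaf 0) (.leaf 842)) (.leaf 431)) (.node (.node (.leaf 0) (.leaf 459)) (.leaf 599)))) (.node (.node (.node (.node (.leaf 0) (.leaf 0)) (.leaf 0)) (.node (.node (.leaf 0) (.leaf 282)) (.leaf 1320))) (.node (.node (.node (.leaf 0) (.leaf 1048)) (.leaf 949)) (.node (.node (.leaf 0) (.leaf 1061)) (.leaf 1081))))) (.node (.node (.node (.node (.node (.leaf 0) (.leaf 1437)) (.leaf 0)) (.node (.node (.leaf 0) (.leaf 0)) (.leaf 0))) (.node (.node (.node (.leaf 0) (.leaf 1366)) (.leaf 0)) (.node (.node (.leaf 0) (.leaf 1272)) (.leaf 0)))) (.node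 (.node (.node (.node (.leaf 0) (.leaf 1249)) (.leaf 0)) (.node (.node (.leaf 0) (.leaf 955)) (.leaf 0))) (.node (.node (.node (.leaf 0) (.leaf 0)) (.leaf 1012)) (.node (.leaf 247) (.leaf 0)))))) (.node (.node (.node (.node (.node (.node (.leaf 0) (.leaf 0)) (.leaf 0)) (.node (.node (.leaf 0) (.leaf 1175)) (.leaf 194))) (.node (.node (.node (.leaf 0) (.leaf 1367)) (.leaf 317)) (.node (.node (.leaf 0) (.leaf 1404)) (.leaf 0)))) (.node (.node (.node (.node (.leaf 0) (.leaf 0)) (.leaf 0)) (.node (.node (.leaf 348) (.leaf 1412)) (.leaf 542))) (.node (.node (.node (.leaf 147) (.leaf 565)) (.leaf 0)) (.node (.node (.leaf 663) (.leaf 864)) (.leaf 950))))) (.node (.node (.node (.node (.node (.leaf 0) (.leaf 0)) (.leaf 0)) (.node (.node (.leaf 155) (.leaf 1168)) (.leaf 831))) (.node (.node (.node (.leaf 144) (.leaf 1458)) (.leaf 1116)) (.node (.node (.leaf 167) (.leaf 546)) (.leaf 0)))) (.node (.node (.node (.node (.leaf 0) (.leaf 1193)) (.leaf 284)) (.node (.node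 (.leaf 0) (.leaf 863)) (.leaf 0))) (.node (.node (.node (.leaf 0) (.leaf 0)) (.leaf 983)) (.node (.leaf 173) (.leaf 1440)))))))) (.node (.node (.node (.node (.node (.node (.node (.node (.leaf 0) (.leaf 1321)) (.leaf 0)) (.node (.node (.leaf 0) (.leaf 0)) (.leaf 191))) (.node (.node (.node (.leaf 0) (.leaf 901)) (.leaf 248)) (.node (.node (.leaf 0) (.leaf 1449)) (.leaf 1167)))) (.node (.node (.node (.node (.leaf 253) (.leaf 837)) (.leaf 999)) (.node (.node (.leaf 156) (.leaf 570)) (.leaf 819))) (.node (.node (.node (.leaf 145) (.leaf 0)) (.leaf 0)) (.node (.node (.leaf 823) (.leaf 0)) (.leaf 833))))) (.node (.node (.node (.node (.node (.leaf 0) (.leaf 0)) (.leaf 177)) (.node (.node (.leaf 267) (.leaf 935)) (.leaf 0))) (.node (.node (.node (.leaf 882) (.leaf 0)) (.leaf 0)) (.node (.node (.leaf 165) (.leaf 859)) (.leaf 295)))) (.node (.node (.node (.node (.leaf 0) (.leaf 0)) (.leaf 0)) (.node (.node (.leaf 0) (.leaf 1354)) (.leaf 0))) (.node (.node (.node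 (.leaf 148) (.leaf 0)) (.leaf 190)) (.node (.leaf 0) (.leaf 0)))))) (.node (.node (.node (.node (.node (.node (.leaf 0) (.leaf 212)) (.leaf 0)) (.node (.node (.leaf 0) (.leaf 1339)) (.leaf 0))) (.node (.node (.node (.leaf 0) (.leaf 1454)) (.leaf 186)) (.node (.node (.leaf 0) (.leaf 0)) (.leaf 0)))) (.node (.node (.node (.node (.leaf 0) (.leaf 0)) (.leaf 0)) (.node (.node (.leaf 271) (.leaf 871)) (.leaf 442))) (.node (.node (.node (.leaf 0) (.leaf 0)) (.leaf 1438)) (.node (.node (.leaf 0) (.leaf 1364)) (.leaf 446))))) (.node (.node (.node (.node (.node (.leaf 0) (.leaf 728)) (.leaf 531)) (.node (.node (.leaf 0) (.leaf 969)) (.leaf 0))) (.node (.node (.node (.leaf 0) (.leaf 1290)) (.leaf 0)) (.node (.node (.leaf 0) (.leaf 1465)) (.leaf 205)))) (.node (.node (.node (.node (.leaf 0) (.leaf 450)) (.leaf 1020)) (.node (.node (.leaf 0) (.leaf 1358)) (.leaf 0))) (.node (.node (.node (.leaf 0) (.leaf 733)) (.leaf 0)) (.node (.leaf 0) (.leaf 0))))))) (.node (.node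 (.node (.node (.node (.node (.node (.leaf 0) (.leaf 211)) (.leaf 0)) (.node (.node (.leaf 0) (.leaf 0)) (.leaf 928))) (.node (.node (.node (.leaf 0) (.leaf 451)) (.leaf 501)) (.node (.node (.leaf 418) (.leaf 857)) (.leaf 260)))) (.node (.node (.node (.node (.leaf 0) (.leaf 838)) (.leaf 700)) (.node (.node (.leaf 157) (.leaf 1229)) (.leaf 0))) (.node (.node (.node (.leaf 0) (.leaf 0)) (.leaf 0)) (.node (.node (.leaf 169) (.leaf 1466)) (.leaf 445))))) (.node (.node (.node (.node (.node (.leaf 251) (.leaf 485)) (.leaf 0)) (.node (.node (.leaf 0) (.leaf 1155)) (.leaf 0))) (.node (.node (.node (.leaf 0) (.leaf 1443)) (.leaf 0)) (.node (.node (.leaf 421) (.leaf 998)) (.leaf 0)))) (.node (.node (.node (.node (.leaf 0) (.leaf 0)) (.leaf 443)) (.node (.node (.leaf 0) (.leaf 1476)) (.leaf 0))) (.node (.node (.node (.leaf 0) (.leaf 506)) (.leaf 0)) (.node (.leaf 424) (.leaf 0)))))) (.node (.node (.node (.node (.node (.node (.leaf 0) (.leaf 439)) (.leaf 0)) (.node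 (.node (.leaf 0) (.leaf 1244)) (.leaf 0))) (.node (.node (.node (.leaf 0) (.leaf 701)) (.leaf 0)) (.node (.node (.leaf 420) (.leaf 290)) (.leaf 452)))) (.node (.node (.node (.node (.leaf 255) (.leaf 910)) (.leaf 0)) (.node (.node (.leaf 0) (.leaf 258)) (.leaf 0))) (.node (.node (.node (.leaf 413) (.leaf 907)) (.leaf 638)) (.node (.leaf 0) (.leaf 1197))))) (.node (.node (.node (.node (.node (.leaf 0) (.leaf 1043)) (.leaf 0)) (.node (.node (.leaf 311) (.leaf 0)) (.leaf 197))) (.node (.node (.node (.leaf 0) (.leaf 1345)) (.leaf 0)) (.node (.node (.leaf 0) (.leaf 1493)) (.leaf 0)))) (.node (.node (.node (.node (.leaf 0) (.leaf 218)) (.leaf 995)) (.node (.node (.leaf 0) (.leaf 1331)) (.leaf 489))) (.node (.node (.node (.leaf 0) (.leaf 1322)) (.leaf 288)) (.node (.leaf 0) (.leaf 0)))))))))))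

/-- data -/
def tree0 : Trie (ℕ × ℕ) := .node (.node (.node (.node (.node (.node (.node (.node (.node (.node (.node (.leaf (0, 0)) (.leaf (745, 0))) (.leaf (317, 0))) (.node (.node (.leaf (144, 0)) (.leaf (1044, 1))) (.leaf (510, 0)))) (.node (.node (.node (.leaf (69, 1)) (.leaf (871, 1))) (.leaf (402, 1))) (.node (.node (.leaf (228, 1)) (.leaf (1253, 1))) (.leaf (613, 1))))) (.node (.node (.node (.node (.leaf (33, 1)) (.leaf (803, 1))) (.leaf (361, 0))) (.node (.node (.leaf (187, 0)) (.leaf (1125, 1))) (.leaf (556, 1)))) (.node (.node (.node (.leaf (107, 0)) (.leaf (946, 0))) (.leaf (457, 1))) (.node (.node (.leaf (272, 0)) (.leaf (1394, 1))) (.leaf (680, 1)))))) (.node (.node (.node (.node (.node (.leaf (16, 1)) (.leaf (774, 0))) (.leaf (338, 1))) (.node (.node (.leaf (165, 1)) (.leaf (1083, 1))) (.leaf (535, 0)))) (.node (.node (.node (.leaf (88, 1)) (.leaf (902, 1))) (.leaf (427, 0))) (.node (.node (.leaf (252, 0)) (.leaf (1314, 1))) (.leaf (645,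 0))))) (.node (.node (.node (.node (.leaf (52, 1)) (.leaf (836, 1))) (.leaf (382, 1))) (.node (.node (.leaf (207, 0)) (.leaf (1166, 1))) (.leaf (584, 0)))) (.node (.node (.node (.leaf (125, 0)) (.leaf (981, 0))) (.leaf (485, 1))) (.node (.leaf (291, 1)) (.leaf (703, 1))))))) (.node (.node (.node (.node (.node (.node (.leaf (8, 0)) (.leaf (760, 1))) (.leaf (328, 1))) (.node (.node (.leaf (154, 1)) (.leaf (1064, 0))) (.leaf (520, 1)))) (.node (.node (.node (.leaf (79, 1)) (.leaf (889, 0))) (.leaf (416, 0))) (.node (.node (.leaf (240, 0)) (.leaf (1286, 1))) (.leaf (630, 0))))) (.node (.node (.node (.node (.leaf (42, 1)) (.leaf (821, 0))) (.leaf (372, 0))) (.node (.node (.leaf (196, 1)) (.leaf (1149, 1))) (.leaf (570, 0)))) (.node (.node (.node (.leaf (117, 0)) (.leaf (959, 1))) (.leaf (471, 1))) (.node (.node (.leaf (281, 1)) (.leaf (1444, 1))) (.leaf (692, 0)))))) (.node (.node (.node (.node (.node (.leaf (25, 1)) (.leaf (790, 1))) (.leaf (349, 1))) (.node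 (.node (.leaf (176, 0)) (.leaf (1101, 1))) (.leaf (546, 1)))) (.node (.node (.node (.leaf (98, 1)) (.leaf (928, 0))) (.leaf (444, 1))) (.node (.node (.leaf (262, 0)) (.leaf (1345, 0))) (.leaf (660, 1))))) (.node (.node (.node (.node (.leaf (61, 1)) (.leaf (850, 1))) (.leaf (392, 0))) (.node (.node (.leaf (217, 0)) (.leaf (1202, 1))) (.leaf (598, 0)))) (.node (.node (.node (.leaf (134, 0)) (.leaf (1012, 0))) (.leaf (496, 1))) (.node (.leaf (304, 0)) (.leaf (722, 0)))))))) (.node (.node (.node (.node (.node (.node (.node (.leaf (3, 1)) (.leaf (753, 0))) (.leaf (322, 1))) (.node (.node (.leaf (149, 0)) (.leaf (1054, 0))) (.leaf (514, 0)))) (.node (.node (.node (.leaf (75, 1)) (.leaf (882, 0))) (.leaf (409, 0))) (.node (.node (.leaf (235, 1)) (.leaf (1266, 0))) (.leaf (620, 1))))) (.node (.node (.node (.node (.leaf (38, 1)) (.leaf (811, 1))) (.leaf (367, 1))) (.node (.node (.leaf (192, 0)) (.leaf (1136, 1))) (.leaf (562, 0)))) (.node (.node (.node (.leaf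 (111, 0)) (.leaf (952, 0))) (.leaf (465, 0))) (.node (.node (.leaf (276, 0)) (.leaf (1423, 0))) (.leaf (685, 0)))))) (.node (.node (.node (.node (.node (.leaf (20, 1)) (.leaf (780, 1))) (.leaf (343, 0))) (.node (.node (.leaf (171, 1)) (.leaf (1095, 0))) (.leaf (541, 0)))) (.node (.node (.node (.leaf (92, 1)) (.leaf (919, 0))) (.leaf (436, 0))) (.node (.node (.leaf (258, 0)) (.leaf (1328, 0))) (.leaf (652, 0))))) (.node (.node (.node (.node (.leaf (56, 1)) (.leaf (844, 1))) (.leaf (387, 1))) (.node (.node (.leaf (213, 0)) (.leaf (1188, 1))) (.leaf (589, 0)))) (.node (.node (.node (.leaf (130, 0)) (.leaf (999, 1))) (.leaf (490, 0))) (.node (.leaf (298, 0)) (.leaf (710, 1))))))) (.node (.node (.node (.node (.node (.node (.leaf (12, 0)) (.leaf (768, 1))) (.leaf (333, 0))) (.node (.node (.leaf (160, 1)) (.leaf (1072, 0))) (.leaf (528, 1)))) (.node (.node (.node (.leaf (83, 1)) (.leaf (895, 0))) (.leaf (421, 0))) (.node (.node (.leaf (247, 0)) (.leaf (1298,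 0))) (.leaf (637, 0))))) (.node (.node (.node (.node (.leaf (47, 0)) (.leaf (829, 0))) (.leaf (378, 0))) (.node (.node (.leaf (202, 1)) (.leaf (1156, 1))) (.leaf (576, 0)))) (.node (.node (.node (.leaf (121, 0)) (.leaf (967, 0))) (.leaf (478, 0))) (.node (.node (.leaf (285, 1)) (.leaf (1479, 1))) (.leaf (696, 1)))))) (.node (.node (.node (.node (.node (.leaf (29, 1)) (.leaf (796, 1))) (.leaf (356, 0))) (.node (.node (.leaf (182, 0)) (.leaf (1110, 1))) (.leaf (551, 0)))) (.node (.node (.node (.leaf (103, 0)) (.leaf (938, 0))) (.leaf (451, 1))) (.node (.node (.leaf (267, 1)) (.leaf (1372, 1))) (.leaf (671, 1))))) (.node (.node (.node (.node (.leaf (65, 1)) (.leaf (860, 0))) (.leaf (397, 0))) (.node (.node (.leaf (223, 0)) (.leaf (1223, 0))) (.leaf (606, 1)))) (.node (.node (.node (.leaf (140, 0)) (.leaf (1023, 1))) (.leaf (504, 0))) (.node (.leaf (310, 0)) (.leaf (733, 1))))))))) (.node (.node (.node (.node (.node (.node (.node (.node (.leaf (1, 1)) (.leaf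 (748, 0))) (.leaf (320, 0))) (.node (.node (.leaf (146, 0)) (.leaf (1050, 0))) (.leaf (512, 0)))) (.node (.node (.node (.leaf (73, 1)) (.leaf (879, 0))) (.leaf (406, 0))) (.node (.node (.leaf (231, 0)) (.leaf (1261, 1))) (.leaf (616, 1))))) (.node (.node (.node (.node (.leaf (36, 1)) (.leaf (808, 0))) (.leaf (364, 0))) (.node (.node (.leaf (190, 0)) (.leaf (1129, 1))) (.leaf (559, 0)))) (.node (.node (.node (.leaf (109, 0)) (.leaf (949, 1))) (.leaf (461, 0))) (.node (.node (.leaf (274, 0)) (.leaf (1418, 1))) (.leaf (683, 0)))))) (.node (.node (.node (.node (.node (.leaf (18, 1)) (.leaf (777, 0))) (.leaf (341, 0))) (.node (.node (.leaf (168, 0)) (.leaf (1090, 1))) (.leaf (538, 0)))) (.node (.node (.node (.leaf (90, 1)) (.leaf (908, 0))) (.leaf (430, 0))) (.node (.node (.leaf (255, 1)) (.leaf (1321, 0))) (.leaf (648, 0))))) (.node (.node (.node (.node (.leaf (54, 1)) (.leaf (841, 0))) (.leaf (384, 1))) (.node (.node (.leaf (209, 1)) (.leaf (1173, 0)))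 (.leaf (586, 1)))) (.node (.node (.node (.leaf (128, 0)) (.leaf (992, 1))) (.leaf (487, 1))) (.node (.leaf (294, 0)) (.leaf (707, 0))))))) (.node (.node (.node (.node (.node (.node (.leaf (10, 0)) (.leaf (763, 0))) (.leaf (330, 1))) (.node (.node (.leaf (156, 1)) (.leaf (1068, 0))) (.leaf (525, 1)))) (.node (.node (.node (.leaf (81, 1)) (.leaf (891, 1))) (.leaf (418, 1))) (.node (.node (.leaf (244, 0)) (.leaf (1290, 0))) (.leaf (634, 0))))) (.node (.node (.node (.node (.leaf (44, 1)) (.leaf (824, 1))) (.leaf (374, 1))) (.node (.node (.leaf (200, 1)) (.leaf (1152, 0))) (.leaf (573, 0)))) (.node (.node (.node (.leaf (119, 0)) (.leaf (963, 0))) (.leaf (474, 1))) (.node (.node (.leaf (283, 1)) (.leaf (1458, 1))) (.leaf (694, 0)))))) (.node (.node (.node (.node (.node (.leaf (27, 1)) (.leaf (792, 1))) (.leaf (352, 0))) (.node (.node (.leaf (179, 0)) (.leaf (1106, 0))) (.leaf (548, 1)))) (.node (.node (.node (.leaf (100, 1)) (.leaf (931, 1))) (.leaf (448,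 0))) (.node (.node (.leaf (264, 1)) (.leaf (1359, 0))) (.leaf (665, 1))))) (.node (.node (.node (.node (.leaf (63, 1)) (.leaf (856, 0))) (.leaf (394, 0))) (.node (.node (.leaf (220, 1)) (.leaf (1214, 1))) (.leaf (601, 0)))) (.node (.node (.node (.leaf (136, 1)) (.leaf (1015, 1))) (.leaf (499, 0))) (.node (.leaf (307, 1)) (.leaf (729, 1)))))))) (.node (.node (.node (.node (.node (.node (.node (.leaf (5, 1)) (.leaf (757, 1))) (.leaf (324, 1))) (.node (.node (.leaf (152, 0)) (.leaf (1060, 1))) (.leaf (518, 0)))) (.node (.node (.node (.leaf (77, 1)) (.leaf (884, 0))) (.leaf (412, 0))) (.node (.node (.leaf (237, 1)) (.leaf (1281, 1))) (.leaf (627, 0))))) (.node (.node (.node (.node (.leaf (40, 1)) (.leaf (815, 1))) (.leaf (370, 0))) (.node (.node (.leaf (194, 0)) (.leaf (1144, 1))) (.leaf (565, 0)))) (.node (.node (.node (.leaf (114, 0)) (.leaf (956, 0))) (.leaf (468, 1))) (.node (.node (.leaf (279, 0)) (.leaf (1434, 0))) (.leaf (688, 0)))))) (.node (.node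 (.node (.node (.node (.leaf (23, 1)) (.leaf (786, 0))) (.leaf (347, 0))) (.node (.node (.leaf (174, 0)) (.leaf (1098, 0))) (.leaf (544, 1)))) (.node (.node (.node (.leaf (95, 0)) (.leaf (922, 0))) (.leaf (439, 1))) (.node (.node (.leaf (260, 0)) (.leaf (1336, 1))) (.leaf (654, 1))))) (.node (.node (.node (.node (.leaf (59, 1)) (.leaf (848, 1))) (.leaf (389, 1))) (.node (.node (.leaf (215, 0)) (.leaf (1194, 0))) (.leaf (592, 0)))) (.node (.node (.node (.leaf (132, 0)) (.leaf (1006, 1))) (.leaf (493, 0))) (.node (.leaf (301, 0)) (.leaf (716, 1))))))) (.node (.node (.node (.node (.node (.node (.leaf (14, 0)) (.leaf (770, 1))) (.leaf (336, 0))) (.node (.node (.leaf (163, 1)) (.leaf (1077, 0))) (.leaf (531, 0)))) (.node (.node (.node (.leaf (86, 1)) (.leaf (899, 0))) (.leaf (424, 1))) (.node (.node (.leaf (249, 0)) (.leaf (1301, 0))) (.leaf (642, 1))))) (.node (.node (.node (.node (.leaf (50, 1)) (.leaf (834, 0))) (.leaf (380, 1))) (.node (.node (.leaf (205,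 0)) (.leaf (1162, 0))) (.leaf (581, 0)))) (.node (.node (.node (.leaf (123, 0)) (.leaf (973, 1))) (.leaf (481, 1))) (.node (.leaf (288, 1)) (.leaf (700, 1)))))) (.node (.node (.node (.node (.node (.leaf (31, 1)) (.leaf (801, 0))) (.leaf (359, 0))) (.node (.node (.leaf (184, 0)) (.leaf (1117, 1))) (.leaf (554, 0)))) (.node (.node (.node (.leaf (105, 0)) (.leaf (942, 0))) (.leaf (454, 1))) (.node (.node (.leaf (270, 0)) (.leaf (1387, 0))) (.leaf (677, 1))))) (.node (.node (.node (.node (.leaf (67, 1)) (.leaf (867, 0))) (.leaf (400, 0))) (.node (.node (.leaf (226, 0)) (.leaf (1233, 0))) (.leaf (609, 1)))) (.node (.node (.node (.leaf (142, 0)) (.leaf (1028, 0))) (.leaf (506, 1))) (.node (.leaf (312, 1)) (.leaf (739, 1)))))))))) (.node (.node (.node (.node (.node (.node (.node (.node (.node (.leaf (0, 1)) (.leaf (746, 0))) (.leaf (318, 1))) (.node (.node (.leaf (145, 0)) (.leaf (1048, 1))) (.leaf (511, 0)))) (.node (.node (.node (.leaf (71, 0)) (.leaf (875,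 1))) (.leaf (404, 0))) (.node (.node (.leaf (229, 1)) (.leaf (1259, 1))) (.leaf (615, 0))))) (.node (.node (.node (.node (.leaf (35, 1)) (.leaf (806, 0))) (.leaf (362, 0))) (.node (.node (.leaf (189, 0)) (.leaf (1127, 1))) (.leaf (557, 1)))) (.node (.node (.node (.leaf (108, 0)) (.leaf (948, 1))) (.leaf (460, 0))) (.node (.node (.leaf (273, 0)) (.leaf (1398, 0))) (.leaf (682, 0)))))) (.node (.node (.node (.node (.node (.leaf (17, 1)) (.leaf (776, 0))) (.leaf (339, 1))) (.node (.node (.leaf (166, 1)) (.leaf (1087, 0))) (.leaf (536, 0)))) (.node (.node (.node (.leaf (89, 1)) (.leaf (905, 1))) (.leaf (428, 0))) (.node (.node (.leaf (254, 1)) (.leaf (1319, 0))) (.leaf (646, 0))))) (.node (.node (.node (.node (.leaf (53, 1)) (.leaf (838, 0))) (.leaf (383, 1))) (.node (.node (.leaf (208, 0)) (.leaf (1171, 0))) (.leaf (585, 0)))) (.node (.node (.node (.leaf (126, 0)) (.leaf (986, 0))) (.leaf (486, 1))) (.node (.leaf (292, 1)) (.leaf (705, 0))))))) (.node (.node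 (.node (.node (.node (.node (.leaf (9, 0)) (.leaf (761, 1))) (.leaf (329, 1))) (.node (.node (.leaf (155, 1)) (.leaf (1066, 1))) (.leaf (522, 0)))) (.node (.node (.node (.leaf (80, 1)) (.leaf (890, 0))) (.leaf (417, 1))) (.node (.node (.leaf (242, 1)) (.leaf (1287, 1))) (.leaf (631, 0))))) (.node (.node (.node (.node (.leaf (43, 1)) (.leaf (823, 1))) (.leaf (373, 0))) (.node (.node (.leaf (198, 0)) (.leaf (1150, 1))) (.leaf (572, 0)))) (.node (.node (.node (.leaf (118, 0)) (.leaf (962, 0))) (.leaf (473, 0))) (.node (.node (.leaf (282, 1)) (.leaf (1455, 0))) (.leaf (693, 0)))))) (.node (.node (.node (.node (.node (.leaf (26, 1)) (.leaf (791, 1))) (.leaf (351, 0))) (.node (.node (.leaf (177, 0)) (.leaf (1102, 1))) (.leaf (547, 1)))) (.node (.node (.node (.leaf (99, 1)) (.leaf (930, 1))) (.leaf (446, 1))) (.node (.node (.leaf (263, 1)) (.leaf (1347, 1))) (.leaf (662, 0))))) (.node (.node (.node (.node (.leaf (62, 1)) (.leaf (854, 1))) (.leaf (393, 0)))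 (.node (.node (.leaf (218, 1)) (.leaf (1205, 1))) (.leaf (599, 1)))) (.node (.node (.node (.leaf (135, 0)) (.leaf (1013, 0))) (.leaf (497, 1))) (.node (.leaf (306, 1)) (.leaf (725, 1)))))))) (.node (.node (.node (.node (.node (.node (.node (.leaf (4, 1)) (.leaf (754, 0))) (.leaf (323, 1))) (.node (.node (.leaf (151, 0)) (.leaf (1057, 1))) (.leaf (516, 0)))) (.node (.node (.node (.leaf (76, 1)) (.leaf (883, 0))) (.leaf (410, 0))) (.node (.node (.leaf (236, 1)) (.leaf (1269, 0))) (.leaf (622, 0))))) (.node (.node (.node (.node (.leaf (39, 1)) (.leaf (813, 1))) (.leaf (369, 0))) (.node (.node (.leaf (193, 0)) (.leaf (1137, 1))) (.leaf (564, 0)))) (.node (.node (.node (.leaf (112, 1)) (.leaf (953, 0))) (.leaf (467, 1))) (.node (.node (.leaf (278, 0)) (.leaf (1431, 1))) (.leaf (686, 1)))))) (.node (.node (.node (.node (.node (.leaf (22, 1)) (.leaf (785, 0))) (.leaf (345, 1))) (.node (.node (.leaf (173, 0)) (.leaf (1096, 1))) (.leaf (543, 1)))) (.node (.node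 (.node (.leaf (93, 1)) (.leaf (920, 1))) (.leaf (438, 0))) (.node (.node (.leaf (259, 0)) (.leaf (1333, 0))) (.leaf (653, 0))))) (.node (.node (.node (.node (.leaf (57, 1)) (.leaf (847, 0))) (.leaf (388, 1))) (.node (.node (.leaf (214, 0)) (.leaf (1191, 1))) (.leaf (590, 0)))) (.node (.node (.node (.leaf (131, 0)) (.leaf (1003, 1))) (.leaf (492, 0))) (.node (.leaf (300, 0)) (.leaf (714, 1))))))) (.node (.node (.node (.node (.node (.node (.leaf (13, 0)) (.leaf (769, 1))) (.leaf (334, 1))) (.node (.node (.leaf (162, 1)) (.leaf (1073, 1))) (.leaf (530, 0)))) (.node (.node (.node (.leaf (85, 1)) (.leaf (896, 1))) (.leaf (422, 0))) (.node (.node (.leaf (248, 0)) (.leaf (1299, 1))) (.leaf (638, 1))))) (.node (.node (.node (.node (.leaf (49, 1)) (.leaf (830, 0))) (.leaf (379, 1))) (.node (.node (.leaf (203, 1)) (.leaf (1159, 0))) (.leaf (578, 1)))) (.node (.node (.node (.leaf (122, 0)) (.leaf (972, 1))) (.leaf (480, 0))) (.node (.node (.leaf (287, 1)) (.leaf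 (1484, 0))) (.leaf (698, 0)))))) (.node (.node (.node (.node (.node (.leaf (30, 1)) (.leaf (798, 1))) (.leaf (358, 0))) (.node (.node (.leaf (183, 0)) (.leaf (1112, 0))) (.leaf (553, 0)))) (.node (.node (.node (.leaf (104, 0)) (.leaf (939, 1))) (.leaf (453, 0))) (.node (.node (.leaf (269, 0)) (.leaf (1385, 0))) (.leaf (675, 1))))) (.node (.node (.node (.node (.leaf (66, 1)) (.leaf (863, 1))) (.leaf (398, 0))) (.node (.node (.leaf (224, 1)) (.leaf (1226, 1))) (.leaf (607, 1)))) (.node (.node (.node (.leaf (141, 0)) (.leaf (1025, 1))) (.leaf (505, 0))) (.node (.leaf (311, 0)) (.leaf (736, 1))))))))) (.node (.node (.node (.node (.node (.node (.node (.node (.leaf (2, 1)) (.leaf (751, 1))) (.leaf (321, 1))) (.node (.node (.leaf (148, 0)) (.leaf (1052, 0))) (.leaf (513, 0)))) (.node (.node (.node (.leaf (74, 1)) (.leaf (880, 1))) (.leaf (408, 0))) (.node (.node (.leaf (233, 1)) (.leaf (1263, 0))) (.leaf (619, 1))))) (.node (.node (.node (.node (.leaf (37,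 1)) (.leaf (810, 0))) (.leaf (366, 1))) (.node (.node (.leaf (191, 0)) (.leaf (1135, 1))) (.leaf (561, 0)))) (.node (.node (.node (.leaf (110, 0)) (.leaf (950, 1))) (.leaf (462, 0))) (.node (.node (.leaf (275, 0)) (.leaf (1421, 1))) (.leaf (684, 0)))))) (.node (.node (.node (.node (.node (.leaf (19, 1)) (.leaf (779, 1))) (.leaf (342, 0))) (.node (.node (.leaf (170, 0)) (.leaf (1093, 1))) (.leaf (539, 1)))) (.node (.node (.node (.leaf (91, 1)) (.leaf (913, 1))) (.leaf (433, 0))) (.node (.node (.leaf (257, 0)) (.leaf (1323, 1))) (.leaf (650, 1))))) (.node (.node (.node (.node (.leaf (55, 1)) (.leaf (843, 0))) (.leaf (385, 1))) (.node (.node (.leaf (211, 0)) (.leaf (1181, 0))) (.leaf (587, 1)))) (.node (.node (.node (.leaf (129, 0)) (.leaf (994, 0))) (.leaf (489, 0))) (.node (.leaf (296, 0)) (.leaf (708, 0))))))) (.node (.node (.node (.node (.node (.node (.leaf (11, 0)) (.leaf (765, 1))) (.leaf (332, 0))) (.node (.node (.leaf (158, 0)) (.leaf (1070, 0)))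 (.leaf (527, 1)))) (.node (.node (.node (.leaf (82, 1)) (.leaf (892, 1))) (.leaf (420, 0))) (.node (.node (.leaf (246, 0)) (.leaf (1293, 1))) (.leaf (635, 0))))) (.node (.node (.node (.node (.leaf (45, 1)) (.leaf (828, 0))) (.leaf (376, 0))) (.node (.node (.leaf (201, 1)) (.leaf (1153, 0))) (.leaf (574, 0)))) (.node (.node (.node (.leaf (120, 0)) (.leaf (964, 1))) (.leaf (477, 0))) (.node (.node (.leaf (284, 1)) (.leaf (1466, 1))) (.leaf (695, 0)))))) (.node (.node (.node (.node (.node (.leaf (28, 1)) (.leaf (794, 0))) (.leaf (354, 1))) (.node (.node (.leaf (181, 0)) (.leaf (1108, 0))) (.leaf (549, 1)))) (.node (.node (.node (.leaf (102, 0)) (.leaf (932, 1))) (.leaf (449, 0))) (.node (.node (.leaf (266, 1)) (.leaf (1366, 1))) (.leaf (669, 1))))) (.node (.node (.node (.node (.leaf (64, 1)) (.leaf (857, 0))) (.leaf (395, 0))) (.node (.node (.leaf (221, 1)) (.leaf (1217, 0))) (.leaf (604, 0)))) (.node (.node (.node (.leaf (138, 0)) (.leaf (1020, 0))) (.leaf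 (502, 0))) (.node (.leaf (309, 0)) (.leaf (731, 1)))))))) (.node (.node (.node (.node (.node (.node (.node (.leaf (6, 1)) (.leaf (759, 0))) (.leaf (326, 0))) (.node (.node (.leaf (153, 0)) (.leaf (1063, 0))) (.leaf (519, 1)))) (.node (.node (.node (.leaf (78, 1)) (.leaf (886, 1))) (.leaf (414, 1))) (.node (.node (.leaf (239, 0)) (.leaf (1283, 0))) (.leaf (628, 0))))) (.node (.node (.node (.node (.leaf (41, 1)) (.leaf (819, 1))) (.leaf (371, 0))) (.node (.node (.leaf (195, 0)) (.leaf (1146, 0))) (.leaf (567, 0)))) (.node (.node (.node (.leaf (116, 0)) (.leaf (958, 1))) (.leaf (470, 0))) (.node (.node (.leaf (280, 0)) (.leaf (1440, 0))) (.leaf (689, 1)))))) (.node (.node (.node (.node (.node (.leaf (24, 1)) (.leaf (788, 0))) (.leaf (348, 1))) (.node (.node (.leaf (175, 0)) (.leaf (1100, 1))) (.leaf (545, 1)))) (.node (.node (.node (.leaf (97, 1)) (.leaf (924, 1))) (.leaf (441, 1))) (.node (.node (.leaf (261, 0)) (.leaf (1342, 1))) (.leaf (658, 1))))) (.node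 (.node (.node (.node (.leaf (60, 1)) (.leaf (849, 1))) (.leaf (390, 1))) (.node (.node (.leaf (216, 0)) (.leaf (1196, 1))) (.leaf (595, 0)))) (.node (.node (.node (.leaf (133, 0)) (.leaf (1010, 1))) (.leaf (495, 0))) (.node (.leaf (302, 0)) (.leaf (720, 1))))))) (.node (.node (.node (.node (.node (.node (.leaf (15, 1)) (.leaf (773, 0))) (.leaf (337, 0))) (.node (.node (.leaf (164, 1)) (.leaf (1080, 1))) (.leaf (533, 0)))) (.node (.node (.node (.leaf (87, 1)) (.leaf (901, 1))) (.leaf (425, 1))) (.node (.node (.leaf (250, 0)) (.leaf (1307, 0))) (.leaf (643, 1))))) (.node (.node (.node (.node (.leaf (51, 1)) (.leaf (835, 0))) (.leaf (381, 1))) (.node (.node (.leaf (206, 0)) (.leaf (1164, 1))) (.leaf (582, 0)))) (.node (.node (.node (.leaf (124, 0)) (.leaf (977, 1))) (.leaf (482, 1))) (.node (.leaf (290, 0)) (.leaf (702, 1)))))) (.node (.node (.node (.node (.node (.leaf (32, 1)) (.leaf (802, 0))) (.leaf (360, 0))) (.node (.node (.leaf (185, 1)) (.leaf (1122,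 1))) (.leaf (555, 0)))) (.node (.node (.node (.leaf (106, 0)) (.leaf (943, 1))) (.leaf (456, 0))) (.node (.node (.leaf (271, 0)) (.leaf (1390, 1))) (.leaf (679, 0))))) (.node (.node (.node (.node (.leaf (68, 1)) (.leaf (869, 1))) (.leaf (401, 0))) (.node (.node (.leaf (227, 1)) (.leaf (1236, 0))) (.leaf (611, 0)))) (.node (.node (.node (.leaf (143, 0)) (.leaf (1042, 1))) (.leaf (508, 1))) (.node (.leaf (314, 0)) (.leaf (743, 0))))))))))) (.node (.node (.node (.node (.node (.node (.node (.node (.node (.node (.leaf (0, 0)) (.leaf (745, 1))) (.leaf (317, 1))) (.node (.node (.leaf (144, 1)) (.leaf (1048, 0))) (.leaf (510, 1)))) (.node (.node (.node (.leaf (70, 1)) (.leaf (875, 0))) (.leaf (403, 0))) (.node (.node (.leaf (229, 0)) (.leaf (1255, 1))) (.leaf (614, 0))))) (.node (.node (.node (.node (.leaf (34, 0)) (.leaf (805, 0))) (.leaf (361, 1))) (.node (.node (.leaf (188, 1)) (.leaf (1126, 1))) (.leaf (557, 0)))) (.node (.node (.node (.leaf (107, 1)) (.leaf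 (947, 1))) (.leaf (459, 1))) (.node (.node (.leaf (272, 1)) (.leaf (1397, 1))) (.leaf (681, 1)))))) (.node (.node (.node (.node (.node (.leaf (17, 0)) (.leaf (775, 0))) (.leaf (339, 0))) (.node (.node (.leaf (166, 0)) (.leaf (1084, 0))) (.leaf (535, 1)))) (.node (.node (.node (.leaf (89, 0)) (.leaf (903, 0))) (.leaf (427, 1))) (.node (.node (.leaf (253, 0)) (.leaf (1318, 1))) (.leaf (645, 1))))) (.node (.node (.node (.node (.leaf (53, 0)) (.leaf (837, 0))) (.leaf (383, 0))) (.node (.node (.leaf (207, 1)) (.leaf (1169, 1))) (.leaf (584, 1)))) (.node (.node (.node (.leaf (125, 1)) (.leaf (982, 0))) (.leaf (486, 0))) (.node (.leaf (292, 0)) (.leaf (704, 0))))))) (.node (.node (.node (.node (.node (.node (.leaf (8, 1)) (.leaf (761, 0))) (.leaf (329, 0))) (.node (.node (.leaf (155, 0)) (.leaf (1065, 0))) (.leaf (521, 0)))) (.node (.node (.node (.leaf (80, 0)) (.leaf (889, 1))) (.leaf (417, 0))) (.node (.node (.leaf (241, 0)) (.leaf (1287, 0))) (.leaf (630,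 1))))) (.node (.node (.node (.node (.leaf (43, 0)) (.leaf (822, 0))) (.leaf (372, 1))) (.node (.node (.leaf (197, 1)) (.leaf (1150, 0))) (.leaf (571, 1)))) (.node (.node (.node (.leaf (117, 1)) (.leaf (960, 0))) (.leaf (472, 0))) (.node (.node (.leaf (282, 0)) (.leaf (1453, 0))) (.leaf (692, 1)))))) (.node (.node (.node (.node (.node (.leaf (26, 0)) (.leaf (791, 0))) (.leaf (350, 1))) (.node (.node (.leaf (176, 1)) (.leaf (1102, 0))) (.leaf (547, 0)))) (.node (.node (.node (.leaf (99, 0)) (.leaf (929, 0))) (.leaf (445, 0))) (.node (.node (.leaf (263, 0)) (.leaf (1346, 0))) (.leaf (661, 1))))) (.node (.node (.node (.node (.leaf (62, 0)) (.leaf (852, 0))) (.leaf (392, 1))) (.node (.node (.leaf (218, 0)) (.leaf (1203, 0))) (.leaf (599, 0)))) (.node (.node (.node (.leaf (134, 1)) (.leaf (1012, 1))) (.leaf (497, 0))) (.node (.leaf (305, 0)) (.leaf (723, 0)))))))) (.node (.node (.node (.node (.node (.node (.node (.leaf (4, 0)) (.leaf (753, 1))) (.leaf (323,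 0))) (.node (.node (.leaf (150, 0)) (.leaf (1057, 0))) (.leaf (515, 1)))) (.node (.node (.node (.leaf (76, 0)) (.leaf (882, 1))) (.leaf (409, 1))) (.node (.node (.leaf (236, 0)) (.leaf (1268, 1))) (.leaf (621, 0))))) (.node (.node (.node (.node (.leaf (39, 0)) (.leaf (812, 0))) (.leaf (368, 0))) (.node (.node (.leaf (192, 1)) (.leaf (1137, 0))) (.leaf (563, 0)))) (.node (.node (.node (.leaf (111, 1)) (.leaf (952, 1))) (.leaf (466, 0))) (.node (.node (.leaf (277, 1)) (.leaf (1424, 1))) (.leaf (686, 0)))))) (.node (.node (.node (.node (.node (.leaf (21, 0)) (.leaf (782, 0))) (.leaf (344, 0))) (.node (.node (.leaf (172, 0)) (.leaf (1096, 0))) (.leaf (541, 1)))) (.node (.node (.node (.leaf (93, 0)) (.leaf (919, 1))) (.leaf (437, 0))) (.node (.node (.leaf (258, 1)) (.leaf (1329, 0))) (.leaf (652, 1))))) (.node (.node (.node (.node (.leaf (57, 0)) (.leaf (845, 0))) (.leaf (388, 0))) (.node (.node (.leaf (213, 1)) (.leaf (1190, 1))) (.leaf (589, 1)))) (.node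 (.node (.node (.leaf (130, 1)) (.leaf (1002, 1))) (.leaf (490, 1))) (.node (.leaf (299, 1)) (.leaf (711, 1))))))) (.node (.node (.node (.node (.node (.node (.leaf (12, 1)) (.leaf (769, 0))) (.leaf (334, 0))) (.node (.node (.leaf (161, 0)) (.leaf (1072, 1))) (.leaf (529, 1)))) (.node (.node (.node (.leaf (84, 0)) (.leaf (896, 0))) (.leaf (421, 1))) (.node (.node (.leaf (247, 1)) (.leaf (1298, 1))) (.leaf (638, 0))))) (.node (.node (.node (.node (.leaf (48, 0)) (.leaf (829, 1))) (.leaf (378, 1))) (.node (.node (.leaf (203, 0)) (.leaf (1157, 1))) (.leaf (577, 0)))) (.node (.node (.node (.leaf (121, 1)) (.leaf (968, 1))) (.leaf (479, 1))) (.node (.node (.leaf (286, 0)) (.leaf (1483, 0))) (.leaf (697, 1)))))) (.node (.node (.node (.node (.node (.leaf (30, 0)) (.leaf (798, 0))) (.leaf (356, 1))) (.node (.node (.leaf (182, 1)) (.leaf (1111, 1))) (.leaf (552, 1)))) (.node (.node (.node (.leaf (103, 1)) (.leaf (939, 0))) (.leaf (452, 0))) (.node (.node (.leaf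 (268, 1)) (.leaf (1382, 1))) (.leaf (675, 0))))) (.node (.node (.node (.node (.leaf (66, 0)) (.leaf (861, 1))) (.leaf (397, 1))) (.node (.node (.leaf (224, 0)) (.leaf (1223, 1))) (.leaf (607, 0)))) (.node (.node (.node (.leaf (140, 1)) (.leaf (1024, 0))) (.leaf (504, 1))) (.node (.leaf (310, 1)) (.leaf (734, 1))))))))) (.node (.node (.node (.node (.node (.node (.node (.node (.leaf (2, 0)) (.leaf (749, 1))) (.leaf (321, 0))) (.node (.node (.leaf (147, 1)) (.leaf (1051, 1))) (.leaf (512, 1)))) (.node (.node (.node (.leaf (74, 0)) (.leaf (879, 1))) (.leaf (407, 1))) (.node (.node (.leaf (232, 1)) (.leaf (1262, 0))) (.leaf (619, 0))))) (.node (.node (.node (.node (.leaf (37, 0)) (.leaf (809, 0))) (.leaf (365, 0))) (.node (.node (.leaf (190, 1)) (.leaf (1134, 0))) (.leaf (559, 1)))) (.node (.node (.node (.leaf (109, 1)) (.leaf (950, 0))) (.leaf (461, 1))) (.node (.node (.leaf (274, 1)) (.leaf (1420, 0))) (.leaf (683, 1)))))) (.node (.node (.node (.node (.node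 (.leaf (19, 0)) (.leaf (779, 0))) (.leaf (341, 1))) (.node (.node (.leaf (169, 1)) (.leaf (1092, 0))) (.leaf (538, 1)))) (.node (.node (.node (.leaf (91, 0)) (.leaf (909, 1))) (.leaf (432, 1))) (.node (.node (.leaf (256, 0)) (.leaf (1322, 0))) (.leaf (648, 1))))) (.node (.node (.node (.node (.leaf (55, 0)) (.leaf (842, 1))) (.leaf (385, 0))) (.node (.node (.leaf (210, 0)) (.leaf (1178, 0))) (.leaf (587, 0)))) (.node (.node (.node (.leaf (128, 1)) (.leaf (993, 0))) (.leaf (488, 1))) (.node (.leaf (295, 0)) (.leaf (707, 1))))))) (.node (.node (.node (.node (.node (.node (.leaf (10, 1)) (.leaf (764, 0))) (.leaf (331, 1))) (.node (.node (.leaf (157, 0)) (.leaf (1068, 1))) (.leaf (527, 0)))) (.node (.node (.node (.leaf (82, 0)) (.leaf (892, 0))) (.leaf (419, 0))) (.node (.node (.leaf (244, 1)) (.leaf (1292, 1))) (.leaf (634, 1))))) (.node (.node (.node (.node (.leaf (45, 0)) (.leaf (825, 1))) (.leaf (375, 1))) (.node (.node (.leaf (201, 0)) (.leaf (1152,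 1))) (.leaf (573, 1)))) (.node (.node (.node (.leaf (119, 1)) (.leaf (964, 0))) (.leaf (475, 0))) (.node (.node (.leaf (284, 0)) (.leaf (1460, 0))) (.leaf (694, 1)))))) (.node (.node (.node (.node (.node (.leaf (28, 0)) (.leaf (793, 1))) (.leaf (353, 0))) (.node (.node (.leaf (180, 0)) (.leaf (1106, 1))) (.leaf (549, 0)))) (.node (.node (.node (.leaf (101, 1)) (.leaf (932, 0))) (.leaf (448, 1))) (.node (.node (.leaf (265, 0)) (.leaf (1363, 0))) (.leaf (668, 1))))) (.node (.node (.node (.node (.leaf (64, 0)) (.leaf (856, 1))) (.leaf (394, 1))) (.node (.node (.leaf (221, 0)) (.leaf (1216, 1))) (.leaf (603, 1)))) (.node (.node (.node (.leaf (137, 0)) (.leaf (1018, 0))) (.leaf (500, 0))) (.node (.leaf (308, 0)) (.leaf (730, 1)))))))) (.node (.node (.node (.node (.node (.node (.node (.leaf (6, 0)) (.leaf (758, 1))) (.leaf (325, 1))) (.node (.node (.leaf (152, 1)) (.leaf (1062, 1))) (.leaf (518, 1)))) (.node (.node (.node (.leaf (78, 0)) (.leaf (885, 0)))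 (.leaf (413, 0))) (.node (.node (.leaf (238, 1)) (.leaf (1282, 0))) (.leaf (627, 1))))) (.node (.node (.node (.node (.leaf (41, 0)) (.leaf (817, 1))) (.leaf (370, 1))) (.node (.node (.leaf (194, 1)) (.leaf (1145, 0))) (.leaf (565, 1)))) (.node (.node (.node (.leaf (115, 1)) (.leaf (958, 0))) (.leaf (469, 0))) (.node (.node (.leaf (279, 1)) (.leaf (1436, 1))) (.leaf (688, 1)))))) (.node (.node (.node (.node (.node (.leaf (24, 0)) (.leaf (786, 1))) (.leaf (348, 0))) (.node (.node (.leaf (174, 1)) (.leaf (1099, 1))) (.leaf (545, 0)))) (.node (.node (.node (.leaf (96, 0)) (.leaf (923, 1))) (.leaf (440, 0))) (.node (.node (.leaf (260, 1)) (.leaf (1341, 1))) (.leaf (657, 0))))) (.node (.node (.node (.node (.leaf (60, 0)) (.leaf (849, 0))) (.leaf (390, 0))) (.node (.node (.leaf (215, 1)) (.leaf (1195, 0))) (.leaf (594, 1)))) (.node (.node (.node (.leaf (132, 1)) (.leaf (1007, 1))) (.leaf (494, 1))) (.node (.leaf (301, 1)) (.leaf (719, 1))))))) (.node (.node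 (.node (.node (.node (.node (.leaf (15, 0)) (.leaf (772, 0))) (.leaf (336, 1))) (.node (.node (.leaf (164, 0)) (.leaf (1079, 0))) (.leaf (532, 1)))) (.node (.node (.node (.leaf (87, 0)) (.leaf (900, 0))) (.leaf (425, 0))) (.node (.node (.leaf (249, 1)) (.leaf (1306, 0))) (.leaf (643, 0))))) (.node (.node (.node (.node (.leaf (51, 0)) (.leaf (834, 1))) (.leaf (381, 0))) (.node (.node (.leaf (205, 1)) (.leaf (1163, 0))) (.leaf (581, 1)))) (.node (.node (.node (.leaf (123, 1)) (.leaf (974, 1))) (.leaf (482, 0))) (.node (.leaf (289, 0)) (.leaf (701, 1)))))) (.node (.node (.node (.node (.node (.leaf (32, 0)) (.leaf (801, 1))) (.leaf (359, 1))) (.node (.node (.leaf (184, 1)) (.leaf (1120, 1))) (.leaf (554, 1)))) (.node (.node (.node (.leaf (105, 1)) (.leaf (942, 1))) (.leaf (455, 0))) (.node (.node (.leaf (270, 1)) (.leaf (1388, 0))) (.leaf (678, 0))))) (.node (.node (.node (.node (.leaf (68, 0)) (.leaf (867, 1))) (.leaf (400, 1))) (.node (.node (.leaf (226,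 1)) (.leaf (1235, 0))) (.leaf (610, 1)))) (.node (.node (.node (.leaf (142, 1)) (.leaf (1035, 1))) (.leaf (507, 0))) (.node (.leaf (313, 1)) (.leaf (742, 0)))))))))) (.node (.node (.node (.node (.node (.node (.node (.node (.node (.leaf (1, 0)) (.leaf (746, 1))) (.leaf (319, 0))) (.node (.node (.leaf (145, 1)) (.leaf (1049, 1))) (.leaf (511, 1)))) (.node (.node (.node (.leaf (72, 0)) (.leaf (878, 0))) (.leaf (405, 0))) (.node (.node (.leaf (230, 0)) (.leaf (1260, 0))) (.leaf (615, 1))))) (.node (.node (.node (.node (.leaf (36, 0)) (.leaf (807, 1))) (.leaf (363, 1))) (.node (.node (.leaf (189, 1)) (.leaf (1128, 0))) (.leaf (558, 0)))) (.node (.node (.node (.leaf (108, 1)) (.leaf (949, 0))) (.leaf (460, 1))) (.node (.node (.leaf (273, 1)) (.leaf (1411, 1))) (.leaf (682, 1)))))) (.node (.node (.node (.node (.node (.leaf (18, 0)) (.leaf (776, 1))) (.leaf (340, 1))) (.node (.node (.leaf (167, 0)) (.leaf (1090, 0))) (.leaf (537, 0)))) (.node (.node (.node (.leaf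 (90, 0)) (.leaf (906, 1))) (.leaf (429, 0))) (.node (.node (.leaf (255, 0)) (.leaf (1320, 1))) (.leaf (646, 1))))) (.node (.node (.node (.node (.leaf (54, 0)) (.leaf (840, 1))) (.leaf (384, 0))) (.node (.node (.leaf (208, 1)) (.leaf (1172, 0))) (.leaf (585, 1)))) (.node (.node (.node (.leaf (127, 1)) (.leaf (988, 0))) (.leaf (487, 0))) (.node (.leaf (293, 1)) (.leaf (706, 1))))))) (.node (.node (.node (.node (.node (.node (.leaf (9, 1)) (.leaf (762, 0))) (.leaf (330, 0))) (.node (.node (.leaf (156, 0)) (.leaf (1067, 0))) (.leaf (525, 0)))) (.node (.node (.node (.leaf (81, 0)) (.leaf (890, 1))) (.leaf (418, 0))) (.node (.node (.leaf (243, 0)) (.leaf (1288, 1))) (.leaf (632, 0))))) (.node (.node (.node (.node (.leaf (44, 0)) (.leaf (824, 0))) (.leaf (374, 0))) (.node (.node (.leaf (199, 0)) (.leaf (1151, 0))) (.leaf (572, 1)))) (.node (.node (.node (.leaf (118, 1)) (.leaf (962, 1))) (.leaf (474, 0))) (.node (.node (.leaf (283, 0)) (.leaf (1456, 0))) (.leaf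 (693, 1)))))) (.node (.node (.node (.node (.node (.leaf (27, 0)) (.leaf (792, 0))) (.leaf (351, 1))) (.node (.node (.leaf (178, 1)) (.leaf (1104, 1))) (.leaf (548, 0)))) (.node (.node (.node (.leaf (100, 0)) (.leaf (931, 0))) (.leaf (447, 1))) (.node (.node (.leaf (264, 0)) (.leaf (1350, 1))) (.leaf (665, 0))))) (.node (.node (.node (.node (.leaf (63, 0)) (.leaf (855, 0))) (.leaf (393, 1))) (.node (.node (.leaf (219, 0)) (.leaf (1210, 1))) (.leaf (600, 1)))) (.node (.node (.node (.leaf (135, 1)) (.leaf (1014, 0))) (.leaf (498, 1))) (.node (.leaf (307, 0)) (.leaf (729, 0)))))))) (.node (.node (.node (.node (.node (.node (.node (.leaf (5, 0)) (.leaf (754, 1))) (.leaf (324, 0))) (.node (.node (.leaf (151, 1)) (.leaf (1060, 0))) (.leaf (517, 0)))) (.node (.node (.node (.leaf (77, 0)) (.leaf (883, 1))) (.leaf (411, 1))) (.node (.node (.leaf (237, 0)) (.leaf (1275, 1))) (.leaf (624, 0))))) (.node (.node (.node (.node (.leaf (40, 0)) (.leaf (814, 0))) (.leaf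 (369, 1))) (.node (.node (.leaf (193, 1)) (.leaf (1142, 0))) (.leaf (564, 1)))) (.node (.node (.node (.leaf (113, 0)) (.leaf (955, 1))) (.leaf (468, 0))) (.node (.node (.leaf (278, 1)) (.leaf (1432, 1))) (.leaf (687, 1)))))) (.node (.node (.node (.node (.node (.leaf (23, 0)) (.leaf (785, 1))) (.leaf (346, 1))) (.node (.node (.leaf (173, 1)) (.leaf (1097, 0))) (.leaf (544, 0)))) (.node (.node (.node (.leaf (94, 1)) (.leaf (921, 1))) (.leaf (438, 1))) (.node (.node (.leaf (259, 1)) (.leaf (1335, 0))) (.leaf (653, 1))))) (.node (.node (.node (.node (.leaf (58, 0)) (.leaf (847, 1))) (.leaf (389, 0))) (.node (.node (.leaf (214, 1)) (.leaf (1192, 1))) (.leaf (591, 0)))) (.node (.node (.node (.leaf (131, 1)) (.leaf (1005, 1))) (.leaf (492, 1))) (.node (.leaf (300, 1)) (.leaf (715, 0))))))) (.node (.node (.node (.node (.node (.node (.leaf (13, 1)) (.leaf (770, 0))) (.leaf (335, 0))) (.node (.node (.leaf (163, 0)) (.leaf (1075, 0))) (.leaf (530, 1)))) (.node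 (.node (.node (.leaf (86, 0)) (.leaf (897, 1))) (.leaf (423, 0))) (.node (.node (.leaf (248, 1)) (.leaf (1300, 1))) (.leaf (639, 0))))) (.node (.node (.node (.node (.leaf (50, 0)) (.leaf (831, 0))) (.leaf (380, 0))) (.node (.node (.leaf (204, 0)) (.leaf (1160, 1))) (.leaf (580, 0)))) (.node (.node (.node (.leaf (122, 1)) (.leaf (973, 0))) (.leaf (481, 0))) (.node (.node (.leaf (288, 0)) (.leaf (1485, 1))) (.leaf (700, 0)))))) (.node (.node (.node (.node (.node (.leaf (31, 0)) (.leaf (799, 1))) (.leaf (358, 1))) (.node (.node (.leaf (183, 1)) (.leaf (1115, 1))) (.leaf (553, 1)))) (.node (.node (.node (.leaf (104, 1)) (.leaf (941, 1))) (.leaf (454, 0))) (.node (.node (.leaf (269, 1)) (.leaf (1386, 0))) (.leaf (676, 0))))) (.node (.node (.node (.node (.leaf (67, 0)) (.leaf (864, 0))) (.leaf (399, 0))) (.node (.node (.leaf (225, 0)) (.leaf (1231, 1))) (.leaf (608, 0)))) (.node (.node (.node (.leaf (141, 1)) (.leaf (1026, 1))) (.leaf (506, 0))) (.node (.leaf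 (311, 1)) (.leaf (738, 1))))))))) (.node (.node (.node (.node (.node (.node (.node (.node (.leaf (3, 0)) (.leaf (752, 0))) (.leaf (322, 0))) (.node (.node (.leaf (148, 1)) (.leaf (1053, 1))) (.leaf (513, 1)))) (.node (.node (.node (.leaf (75, 0)) (.leaf (881, 1))) (.leaf (408, 1))) (.node (.node (.leaf (234, 0)) (.leaf (1264, 1))) (.leaf (620, 0))))) (.node (.node (.node (.node (.leaf (38, 0)) (.leaf (810, 1))) (.leaf (367, 0))) (.node (.node (.leaf (191, 1)) (.leaf (1136, 0))) (.leaf (561, 1)))) (.node (.node (.node (.leaf (110, 1)) (.leaf (951, 0))) (.leaf (463, 0))) (.node (.node (.leaf (275, 1)) (.leaf (1422, 0))) (.leaf (684, 1)))))) (.node (.node (.node (.node (.node (.leaf (20, 0)) (.leaf (780, 0))) (.leaf (342, 1))) (.node (.node (.leaf (171, 0)) (.leaf (1094, 1))) (.leaf (540, 0)))) (.node (.node (.node (.leaf (92, 0)) (.leaf (915, 1))) (.leaf (434, 0))) (.node (.node (.leaf (257, 1)) (.leaf (1325, 1))) (.leaf (651, 0))))) (.node (.node (.node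 (.node (.leaf (56, 0)) (.leaf (844, 0))) (.leaf (386, 0))) (.node (.node (.leaf (212, 1)) (.leaf (1182, 1))) (.leaf (588, 1)))) (.node (.node (.node (.leaf (129, 1)) (.leaf (995, 1))) (.leaf (489, 1))) (.node (.leaf (297, 1)) (.leaf (710, 0))))))) (.node (.node (.node (.node (.node (.node (.leaf (11, 1)) (.leaf (766, 1))) (.leaf (332, 1))) (.node (.node (.leaf (159, 1)) (.leaf (1070, 1))) (.leaf (528, 0)))) (.node (.node (.node (.leaf (83, 0)) (.leaf (894, 1))) (.leaf (420, 1))) (.node (.node (.leaf (246, 1)) (.leaf (1295, 1))) (.leaf (636, 1))))) (.node (.node (.node (.node (.leaf (46, 1)) (.leaf (828, 1))) (.leaf (377, 1))) (.node (.node (.leaf (202, 0)) (.leaf (1156, 0))) (.leaf (575, 1)))) (.node (.node (.node (.leaf (120, 1)) (.leaf (966, 0))) (.leaf (477, 1))) (.node (.node (.leaf (285, 0)) (.leaf (1477, 0))) (.leaf (695, 1)))))) (.node (.node (.node (.node (.node (.leaf (29, 0)) (.leaf (795, 0))) (.leaf (355, 0))) (.node (.node (.leaf (181, 1))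 (.leaf (1109, 0))) (.leaf (550, 0)))) (.node (.node (.node (.leaf (102, 1)) (.leaf (937, 0))) (.leaf (450, 1))) (.node (.node (.leaf (267, 0)) (.leaf (1370, 0))) (.leaf (670, 1))))) (.node (.node (.node (.node (.leaf (65, 0)) (.leaf (858, 1))) (.leaf (395, 1))) (.node (.node (.leaf (222, 0)) (.leaf (1219, 1))) (.leaf (605, 1)))) (.node (.node (.node (.leaf (139, 1)) (.leaf (1020, 1))) (.leaf (503, 1))) (.node (.leaf (309, 1)) (.leaf (732, 0)))))))) (.node (.node (.node (.node (.node (.node (.node (.leaf (7, 1)) (.leaf (759, 1))) (.leaf (327, 0))) (.node (.node (.leaf (153, 1)) (.leaf (1063, 1))) (.leaf (520, 0)))) (.node (.node (.node (.leaf (79, 0)) (.leaf (887, 1))) (.leaf (415, 0))) (.node (.node (.leaf (239, 1)) (.leaf (1283, 1))) (.leaf (629, 0))))) (.node (.node (.node (.node (.leaf (42, 0)) (.leaf (820, 1))) (.leaf (371, 1))) (.node (.node (.leaf (195, 1)) (.leaf (1148, 1))) (.leaf (569, 0)))) (.node (.node (.node (.leaf (116, 1)) (.leaf (959,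 0))) (.leaf (471, 0))) (.node (.node (.leaf (280, 1)) (.leaf (1442, 0))) (.leaf (690, 1)))))) (.node (.node (.node (.node (.node (.leaf (25, 0)) (.leaf (789, 0))) (.leaf (349, 0))) (.node (.node (.leaf (175, 1)) (.leaf (1101, 0))) (.leaf (546, 0)))) (.node (.node (.node (.leaf (98, 0)) (.leaf (926, 1))) (.leaf (443, 0))) (.node (.node (.leaf (261, 1)) (.leaf (1343, 1))) (.leaf (659, 0))))) (.node (.node (.node (.node (.leaf (61, 0)) (.leaf (850, 0))) (.leaf (391, 1))) (.node (.node (.leaf (216, 1)) (.leaf (1198, 0))) (.leaf (596, 0)))) (.node (.node (.node (.leaf (133, 1)) (.leaf (1011, 1))) (.leaf (496, 0))) (.node (.leaf (303, 1)) (.leaf (721, 1))))))) (.node (.node (.node (.node (.node (.node (.leaf (16, 0)) (.leaf (773, 1))) (.leaf (338, 0))) (.node (.node (.leaf (165, 0)) (.leaf (1082, 1))) (.leaf (534, 1)))) (.node (.node (.node (.leaf (88, 0)) (.leaf (902, 0))) (.leaf (426, 1))) (.node (.node (.leaf (251, 1)) (.leaf (1309, 0))) (.leaf (644, 1)))))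 (.node (.node (.node (.node (.leaf (52, 0)) (.leaf (836, 0))) (.leaf (382, 0))) (.node (.node (.leaf (206, 1)) (.leaf (1165, 1))) (.leaf (582, 1)))) (.node (.node (.node (.leaf (124, 1)) (.leaf (979, 0))) (.leaf (484, 0))) (.node (.leaf (291, 0)) (.leaf (703, 0)))))) (.node (.node (.node (.node (.node (.leaf (33, 0)) (.leaf (802, 1))) (.leaf (360, 1))) (.node (.node (.leaf (186, 0)) (.leaf (1125, 0))) (.leaf (555, 1)))) (.node (.node (.node (.leaf (106, 1)) (.leaf (944, 0))) (.leaf (456, 1))) (.node (.node (.leaf (271, 1)) (.leaf (1391, 0))) (.leaf (679, 1))))) (.node (.node (.node (.node (.leaf (69, 0)) (.leaf (870, 1))) (.leaf (401, 1))) (.node (.node (.leaf (228, 0)) (.leaf (1239, 1))) (.leaf (612, 0)))) (.node (.node (.node (.leaf (143, 1)) (.leaf (1043, 1))) (.leaf (509, 0))) (.node (.leaf (315, 0)) (.leaf (744, 1)))))))))))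

/-- data -/
def cert0 : Trie (ℕ × ℕ × ℕ) := .node (.node (.node (.node (.node (.node (.node (.node (.node (.node (.node (.leaf (0, 0, 3)) (.leaf (2, 643, 5))) (.leaf (2, 338, 6))) (.node (.node (.leaf (2, 29, 8)) (.leaf (3, 611, 4))) (.leaf (0, 443, 1)))) (.node (.node (.node (.leaf (1, 0, 3)) (.leaf (2, 1234, 8))) (.leaf (3, 368, 7))) (.node (.node (.leaf (3, 874, 1)) (.leaf (3, 1445, 11))) (.leaf (2, 202, 8))))) (.node (.node (.node (.node (.leaf (0, 168, 3)) (.leaf (2, 855, 3))) (.leaf (2, 1379, 11))) (.node (.node (.leaf (3, 16, 5)) (.leaf (3, 997, 1))) (.leaf (1, 439, 2)))) (.node (.node (.node (.leaf (1, 190, 3)) (.leaf (3, 280, 2))) (.leaf (3, 925, 4))) (.node (.node (.leaf (1, 529, 2)) (.leaf (2, 695, 7))) (.leaf (2, 436, 8)))))) (.node (.node (.node (.node (.node (.leaf (0, 68, 3)) (.leaf (2, 781, 4))) (.leaf (2, 632, 9))) (.node (.node (.leaf (2, 322, 8)) (.leaf (3, 808, 7))) (.leaf (0, 788, 2)))) (.node (.node (.node (.leaf (1, 69, 3)) (.leaf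 (2, 1428, 11))) (.leaf (3, 545, 8))) (.node (.node (.leaf (1, 113, 3)) (.leaf (1, 615, 3))) (.leaf (2, 329, 6))))) (.node (.node (.node (.node (.leaf (0, 305, 3)) (.leaf (2, 1056, 11))) (.leaf (3, 136, 0))) (.node (.node (.leaf (3, 139, 4)) (.leaf (3, 1217, 1))) (.leaf (2, 25, 6)))) (.node (.node (.node (.leaf (1, 444, 3)) (.leaf (3, 445, 6))) (.leaf (0, 76, 2))) (.node (.leaf (2, 81, 8)) (.leaf (2, 537, 4))))))) (.node (.node (.node (.node (.node (.node (.leaf (0, 32, 3)) (.leaf (2, 728, 9))) (.leaf (2, 480, 8))) (.node (.node (.leaf (2, 121, 8)) (.leaf (3, 723, 3))) (.leaf (0, 569, 2)))) (.node (.node (.node (.leaf (1, 31, 3)) (.leaf (2, 1327, 11))) (.leaf (3, 449, 8))) (.node (.node (.leaf (0, 335, 1)) (.leaf (3, 1497, 11))) (.leaf (2, 270, 4))))) (.node (.node (.node (.node (.leaf (0, 215, 3)) (.leaf (2, 946, 9))) (.leaf (3, 60, 4))) (.node (.node (.leaf (3, 71, 4)) (.leaf (3, 1085, 9))) (.leaf (1, 681, 1)))) (.node (.node (.node (.leaf (1, 283,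 3)) (.leaf (3, 367, 4))) (.leaf (3, 1215, 11))) (.node (.node (.leaf (2, 14, 4)) (.leaf (2, 1256, 5))) (.leaf (2, 484, 8)))))) (.node (.node (.node (.node (.node (.leaf (0, 114, 3)) (.leaf (2, 816, 8))) (.leaf (2, 828, 9))) (.node (.node (.leaf (2, 1090, 10)) (.leaf (3, 895, 9))) (.leaf (1, 222, 0)))) (.node (.node (.node (.leaf (1, 111, 3)) (.leaf (3, 218, 8))) (.leaf (3, 712, 3))) (.node (.node (.leaf (1, 260, 1)) (.leaf (1, 920, 1))) (.leaf (2, 374, 1))))) (.node (.node (.node (.node (.leaf (0, 413, 3)) (.leaf (2, 1118, 3))) (.leaf (3, 232, 5))) (.node (.node (.leaf (3, 326, 4)) (.leaf (3, 1320, 10))) (.leaf (2, 146, 4)))) (.node (.node (.node (.leaf (1, 719, 3)) (.leaf (3, 519, 5))) (.leaf (0, 284, 2))) (.node (.leaf (2, 198, 8)) (.leaf (2, 602, 8)))))))) (.node (.node (.node (.node (.node (.node (.node (.leaf (0, 15, 3)) (.leaf (2, 691, 1))) (.leaf (2, 410, 9))) (.node (.node (.leaf (2, 75, 8)) (.leaf (3, 661, 5))) (.leaf (0, 530, 2)))) (.node (.node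 (.node (.leaf (1, 16, 3)) (.leaf (2, 1286, 7))) (.leaf (3, 405, 0))) (.node (.node (.leaf (0, 148, 2)) (.leaf (3, 1475, 0))) (.leaf (2, 243, 7))))) (.node (.node (.node (.node (.leaf (0, 193, 3)) (.leaf (2, 901, 10))) (.leaf (3, 31, 6))) (.node (.node (.leaf (3, 38, 5)) (.leaf (3, 1021, 4))) (.leaf (1, 586, 1)))) (.node (.node (.node (.leaf (1, 226, 3)) (.leaf (3, 336, 4))) (.leaf (3, 1115, 11))) (.node (.node (.leaf (1, 930, 2)) (.leaf (2, 1013, 8))) (.leaf (2, 457, 8)))))) (.node (.node (.node (.node (.node (.leaf (0, 92, 3)) (.leaf (2, 801, 8))) (.leaf (2, 722, 6))) (.node (.node (.leaf (2, 548, 8)) (.leaf (3, 859, 8))) (.leaf (0, 960, 2)))) (.node (.node (.node (.leaf (1, 88, 3)) (.leaf (3, 128, 6))) (.leaf (3, 619, 4))) (.node (.node (.leaf (1, 177, 3)) (.leaf (1, 753, 3))) (.leaf (2, 351, 8))))) (.node (.node (.node (.node (.leaf (0, 349, 3)) (.leaf (2, 1096, 8))) (.leaf (3, 192, 6))) (.node (.node (.leaf (3, 190, 9)) (.leaf (3, 1245, 8))) (.leaf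 (2, 112, 9)))) (.node (.node (.node (.leaf (1, 527, 3)) (.leaf (3, 474, 0))) (.leaf (0, 178, 3))) (.node (.leaf (2, 118, 8)) (.leaf (2, 579, 1))))))) (.node (.node (.node (.node (.node (.node (.leaf (0, 50, 3)) (.leaf (2, 756, 9))) (.leaf (2, 556, 6))) (.node (.node (.leaf (2, 206, 8)) (.leaf (3, 773, 2))) (.leaf (0, 668, 3)))) (.node (.node (.node (.leaf (1, 51, 3)) (.leaf (2, 1382, 11))) (.leaf (3, 512, 4))) (.node (.node (.leaf (0, 627, 2)) (.leaf (0, 1018, 2))) (.leaf (2, 289, 9))))) (.node (.node (.node (.node (.leaf (0, 249, 3)) (.leaf (2, 1003, 9))) (.leaf (3, 106, 4))) (.node (.node (.leaf (3, 104, 4)) (.leaf (3, 1160, 10))) (.leaf (1, 876, 3)))) (.node (.node (.node (.leaf (1, 366, 3)) (.leaf (3, 392, 5))) (.leaf (3, 1340, 1))) (.node (.node (.leaf (2, 48, 2)) (.leaf (2, 1416, 5))) (.leaf (2, 508, 8)))))) (.node (.node (.node (.node (.node (.leaf (0, 140, 3)) (.leaf (2, 827, 8))) (.leaf (2, 1079, 3))) (.node (.node (.leaf (3, 7, 5)) (.leaf (3,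 960, 8))) (.leaf (1, 339, 3)))) (.node (.node (.node (.leaf (1, 139, 3)) (.leaf (3, 248, 5))) (.leaf (3, 828, 4))) (.node (.node (.leaf (1, 347, 1)) (.leaf (2, 122, 3))) (.leaf (2, 392, 7))))) (.node (.node (.node (.node (.leaf (0, 522, 3)) (.leaf (2, 1159, 9))) (.leaf (3, 286, 5))) (.node (.node (.leaf (3, 556, 4)) (.leaf (3, 1386, 8))) (.leaf (2, 174, 6)))) (.node (.node (.node (.leaf (2, 5, 8)) (.leaf (3, 548, 5))) (.leaf (0, 378, 2))) (.node (.leaf (2, 283, 9)) (.leaf (2, 618, 8))))))))) (.node (.node (.node (.node (.node (.node (.node (.node (.leaf (0, 8, 3)) (.leaf (2, 671, 8))) (.leaf (2, 371, 4))) (.node (.node (.leaf (2, 43, 8)) (.leaf (3, 650, 8))) (.leaf (0, 487, 3)))) (.node (.node (.node (.leaf (1, 7, 3)) (.leaf (2, 1261, 9))) (.leaf (3, 380, 4))) (.node (.node (.leaf (0, 60, 2)) (.leaf (3, 1457, 1))) (.leaf (2, 226, 6))))) (.node (.node (.node (.node (.leaf (0, 180, 3)) (.leaf (2, 880, 6))) (.leaf (3, 20, 6))) (.node (.node (.leaf (3, 28,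 7)) (.leaf (3, 1010, 9))) (.leaf (1, 543, 2)))) (.node (.node (.node (.leaf (1, 203, 3)) (.leaf (3, 311, 8))) (.leaf (3, 973, 1))) (.node (.node (.leaf (1, 689, 2)) (.leaf (2, 865, 9))) (.leaf (2, 448, 9)))))) (.node (.node (.node (.node (.node (.leaf (0, 82, 3)) (.leaf (2, 786, 6))) (.leaf (2, 674, 2))) (.node (.node (.leaf (2, 368, 8)) (.leaf (3, 846, 5))) (.leaf (0, 829, 2)))) (.node (.node (.node (.leaf (1, 79, 3)) (.leaf (2, 1457, 11))) (.leaf (3, 585, 10))) (.node (.node (.leaf (1, 147, 2)) (.leaf (1, 701, 1))) (.leaf (2, 335, 4))))) (.node (.node (.node (.node (.leaf (0, 321, 3)) (.leaf (2, 1069, 11))) (.leaf (3, 173, 7))) (.node (.node (.leaf (3, 157, 4)) (.leaf (3, 1232, 0))) (.leaf (2, 77, 4)))) (.node (.node (.node (.leaf (1, 479, 3)) (.leaf (3, 454, 3))) (.leaf (0, 124, 2))) (.node (.leaf (2, 105, 3)) (.leaf (2, 560, 4))))))) (.node (.node (.node (.node (.node (.node (.leaf (0, 40, 3)) (.leaf (2, 742, 9))) (.leaf (2, 529, 7))) (.node (.node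 (.leaf (2, 141, 10)) (.leaf (3, 750, 9))) (.leaf (0, 637, 2)))) (.node (.node (.node (.leaf (1, 39, 3)) (.leaf (2, 1358, 2))) (.leaf (3, 469, 9))) (.node (.node (.leaf (0, 468, 2)) (.leaf (0, 950, 1))) (.leaf (2, 279, 7))))) (.node (.node (.node (.node (.leaf (0, 237, 3)) (.leaf (2, 971, 8))) (.leaf (3, 85, 5))) (.node (.node (.leaf (3, 97, 4)) (.leaf (3, 1108, 2))) (.leaf (1, 757, 2)))) (.node (.node (.node (.leaf (1, 328, 3)) (.leaf (3, 385, 4))) (.leaf (3, 1270, 2))) (.node (.node (.leaf (2, 26, 4)) (.leaf (2, 1391, 10))) (.leaf (2, 504, 9)))))) (.node (.node (.node (.node (.node (.leaf (0, 128, 3)) (.leaf (2, 820, 8))) (.leaf (2, 973, 10))) (.node (.node (.leaf (3, 3, 6)) (.leaf (3, 930, 8))) (.leaf (1, 264, 1)))) (.node (.node (.node (.leaf (1, 123, 3)) (.leaf (3, 233, 8))) (.leaf (3, 758, 4))) (.node (.node (.leaf (1, 306, 2)) (.leaf (1, 1269, 0))) (.leaf (2, 381, 5))))) (.node (.node (.node (.node (.leaf (0, 438, 3)) (.leaf (2, 1124, 9))) (.leaf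 (3, 260, 7))) (.node (.node (.leaf (3, 391, 4)) (.leaf (3, 1368, 1))) (.leaf (2, 166, 8)))) (.node (.node (.node (.leaf (1, 1063, 3)) (.leaf (3, 533, 2))) (.leaf (0, 356, 1))) (.node (.leaf (2, 248, 8)) (.leaf (2, 609, 8)))))))) (.node (.node (.node (.node (.node (.node (.node (.leaf (0, 23, 3)) (.leaf (2, 717, 2))) (.leaf (2, 426, 11))) (.node (.node (.leaf (2, 99, 10)) (.leaf (3, 689, 6))) (.leaf (0, 549, 2)))) (.node (.node (.node (.leaf (1, 24, 3)) (.leaf (2, 1307, 10))) (.leaf (3, 424, 3))) (.node (.node (.leaf (0, 257, 2)) (.leaf (3, 1490, 11))) (.leaf (2, 251, 7))))) (.node (.node (.node (.node (.leaf (0, 205, 3)) (.leaf (2, 915, 8))) (.leaf (3, 39, 5))) (.node (.node (.leaf (3, 49, 5)) (.leaf (3, 1055, 2))) (.leaf (1, 656, 2)))) (.node (.node (.node (.leaf (1, 258, 3)) (.leaf (3, 349, 8))) (.leaf (3, 1142, 1))) (.node (.node (.leaf (1, 1135, 2)) (.leaf (2, 1175, 8))) (.leaf (2, 469, 6)))))) (.node (.node (.node (.node (.node (.leaf (0, 104, 3))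 (.leaf (2, 808, 9))) (.leaf (2, 779, 9))) (.node (.node (.leaf (2, 772, 8)) (.leaf (3, 886, 6))) (.leaf (0, 1146, 1)))) (.node (.node (.node (.leaf (1, 101, 3)) (.leaf (3, 174, 4))) (.leaf (3, 694, 10))) (.node (.node (.leaf (1, 220, 2)) (.leaf (1, 856, 1))) (.leaf (2, 358, 8))))) (.node (.node (.node (.node (.leaf (0, 365, 3)) (.leaf (2, 1109, 8))) (.leaf (3, 203, 8))) (.node (.node (.leaf (3, 230, 4)) (.leaf (3, 1267, 1))) (.leaf (2, 129, 8)))) (.node (.node (.node (.leaf (1, 588, 3)) (.leaf (3, 498, 4))) (.leaf (0, 251, 3))) (.node (.leaf (2, 186, 3)) (.leaf (2, 594, 8))))))) (.node (.node (.node (.node (.node (.node (.leaf (0, 58, 3)) (.leaf (2, 763, 4))) (.leaf (2, 578, 7))) (.node (.node (.leaf (2, 256, 8)) (.leaf (3, 793, 0))) (.leaf (0, 705, 2)))) (.node (.node (.node (.leaf (1, 59, 3)) (.leaf (2, 1410, 0))) (.leaf (3, 527, 7))) (.node (.node (.leaf (1, 47, 3)) (.leaf (1, 400, 3))) (.leaf (2, 313, 8))))) (.node (.node (.node (.node (.leaf (0,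 272, 3)) (.leaf (2, 1036, 1))) (.leaf (3, 126, 4))) (.node (.node (.leaf (3, 115, 5)) (.leaf (3, 1179, 8))) (.leaf (1, 1118, 3)))) (.node (.node (.node (.leaf (1, 417, 3)) (.leaf (3, 433, 7))) (.leaf (3, 1409, 1))) (.node (.node (.leaf (2, 63, 4)) (.leaf (2, 1491, 11))) (.leaf (2, 520, 0)))))) (.node (.node (.node (.node (.node (.leaf (0, 150, 3)) (.leaf (2, 841, 10))) (.leaf (2, 1226, 2))) (.node (.node (.leaf (3, 11, 6)) (.leaf (3, 974, 0))) (.leaf (1, 380, 1)))) (.node (.node (.node (.leaf (1, 159, 3)) (.leaf (3, 272, 8))) (.leaf (3, 902, 10))) (.node (.node (.leaf (1, 446, 2)) (.leaf (2, 481, 5))) (.leaf (2, 417, 10))))) (.node (.node (.node (.node (.leaf (0, 591, 3)) (.leaf (2, 1178, 0))) (.leaf (3, 306, 6))) (.node (.node (.leaf (3, 718, 1)) (.leaf (3, 1411, 11))) (.leaf (2, 189, 8)))) (.node (.node (.node (.leaf (2, 16, 8)) (.leaf (3, 576, 9))) (.leaf (0, 399, 2))) (.node (.leaf (2, 314, 8)) (.leaf (2, 634, 7)))))))))) (.node (.node (.node (.node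 (.node (.node (.node (.node (.node (.leaf (0, 4, 3)) (.leaf (2, 664, 2))) (.leaf (2, 344, 6))) (.node (.node (.leaf (2, 37, 8)) (.leaf (3, 631, 1))) (.leaf (0, 482, 1)))) (.node (.node (.node (.leaf (1, 3, 3)) (.leaf (2, 1252, 5))) (.leaf (3, 371, 7))) (.node (.node (.leaf (3, 1079, 10)) (.leaf (3, 1449, 11))) (.leaf (2, 213, 7))))) (.node (.node (.node (.node (.leaf (0, 174, 3)) (.leaf (2, 869, 11))) (.leaf (3, 12, 9))) (.node (.node (.leaf (3, 22, 5)) (.leaf (3, 1002, 4))) (.leaf (1, 484, 3)))) (.node (.node (.node (.leaf (1, 196, 3)) (.leaf (3, 289, 4))) (.leaf (3, 939, 3))) (.node (.node (.leaf (1, 605, 2)) (.leaf (2, 843, 8))) (.leaf (2, 441, 8)))))) (.node (.node (.node (.node (.node (.leaf (0, 78, 3)) (.leaf (2, 783, 11))) (.leaf (2, 653, 3))) (.node (.node (.leaf (2, 330, 10)) (.leaf (3, 844, 8))) (.leaf (0, 809, 1)))) (.node (.node (.node (.leaf (1, 75, 3)) (.leaf (2, 1446, 9))) (.leaf (3, 570, 4))) (.node (.node (.leaf (1, 137, 3)) (.leaf (1,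 643, 2))) (.leaf (2, 333, 3))))) (.node (.node (.node (.node (.leaf (0, 315, 3)) (.leaf (2, 1064, 0))) (.leaf (3, 150, 8))) (.node (.node (.leaf (3, 147, 5)) (.leaf (3, 1225, 1))) (.leaf (2, 56, 2)))) (.node (.node (.node (.leaf (1, 467, 3)) (.leaf (3, 451, 5))) (.leaf (0, 94, 3))) (.node (.leaf (2, 89, 7)) (.leaf (2, 543, 6))))))) (.node (.node (.node (.node (.node (.node (.leaf (0, 36, 3)) (.leaf (2, 738, 1))) (.leaf (2, 514, 6))) (.node (.node (.leaf (2, 133, 8)) (.leaf (3, 732, 7))) (.leaf (0, 582, 3)))) (.node (.node (.node (.leaf (1, 35, 3)) (.leaf (2, 1333, 0))) (.leaf (3, 464, 5))) (.node (.node (.leaf (0, 397, 2)) (.leaf (0, 727, 3))) (.leaf (2, 275, 8))))) (.node (.node (.node (.node (.leaf (0, 219, 3)) (.leaf (2, 953, 9))) (.leaf (3, 63, 5))) (.node (.node (.leaf (3, 89, 7)) (.leaf (3, 1101, 0))) (.leaf (1, 717, 3)))) (.node (.node (.node (.leaf (1, 309, 3)) (.leaf (3, 378, 8))) (.leaf (3, 1242, 0))) (.node (.node (.leaf (2, 20, 6)) (.leaf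 (2, 1309, 2))) (.leaf (2, 490, 9)))))) (.node (.node (.node (.node (.node (.leaf (0, 122, 3)) (.leaf (2, 818, 6))) (.leaf (2, 911, 2))) (.node (.node (.leaf (3, 1, 6)) (.leaf (3, 917, 4))) (.leaf (1, 245, 3)))) (.node (.node (.node (.leaf (1, 117, 3)) (.leaf (3, 227, 6))) (.leaf (3, 741, 5))) (.node (.node (.leaf (1, 287, 2)) (.leaf (1, 1122, 2))) (.leaf (2, 379, 8))))) (.node (.node (.node (.node (.leaf (0, 429, 3)) (.leaf (2, 1120, 4))) (.leaf (3, 256, 7))) (.node (.node (.leaf (3, 330, 2)) (.leaf (3, 1334, 1))) (.leaf (2, 159, 4)))) (.node (.node (.node (.leaf (1, 779, 3)) (.leaf (3, 529, 4))) (.leaf (0, 296, 2))) (.node (.leaf (2, 221, 8)) (.leaf (2, 607, 9)))))))) (.node (.node (.node (.node (.node (.node (.node (.leaf (0, 19, 3)) (.leaf (2, 705, 8))) (.leaf (2, 422, 3))) (.node (.node (.leaf (2, 91, 8)) (.leaf (3, 677, 5))) (.leaf (0, 544, 2)))) (.node (.node (.node (.leaf (1, 20, 3)) (.leaf (2, 1292, 0))) (.leaf (3, 422, 3))) (.node (.node (.leaf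 (0, 221, 2)) (.leaf (3, 1487, 11))) (.leaf (2, 246, 8))))) (.node (.node (.node (.node (.leaf (0, 199, 3)) (.leaf (2, 913, 6))) (.leaf (3, 33, 6))) (.node (.node (.leaf (3, 43, 5)) (.leaf (3, 1023, 0))) (.leaf (1, 636, 2)))) (.node (.node (.node (.leaf (1, 246, 3)) (.leaf (3, 342, 0))) (.leaf (3, 1127, 3))) (.node (.node (.leaf (1, 1026, 2)) (.leaf (2, 1048, 8))) (.leaf (2, 459, 8)))))) (.node (.node (.node (.node (.node (.leaf (0, 98, 3)) (.leaf (2, 805, 9))) (.leaf (2, 773, 10))) (.node (.node (.leaf (2, 675, 10)) (.leaf (3, 877, 5))) (.leaf (0, 984, 0)))) (.node (.node (.node (.leaf (1, 97, 3)) (.leaf (3, 154, 6))) (.leaf (3, 676, 3))) (.node (.node (.leaf (1, 210, 3)) (.leaf (1, 786, 3))) (.leaf (2, 355, 7))))) (.node (.node (.node (.node (.leaf (0, 359, 3)) (.leaf (2, 1100, 8))) (.leaf (3, 198, 5))) (.node (.node (.leaf (3, 212, 4)) (.leaf (3, 1257, 9))) (.leaf (2, 126, 4)))) (.node (.node (.node (.leaf (1, 557, 3)) (.leaf (3, 479, 4))) (.leaf (0,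 225, 1))) (.node (.leaf (2, 153, 6)) (.leaf (2, 584, 8))))))) (.node (.node (.node (.node (.node (.node (.leaf (0, 54, 3)) (.leaf (2, 761, 8))) (.leaf (2, 569, 0))) (.node (.node (.leaf (2, 214, 10)) (.leaf (3, 785, 8))) (.leaf (0, 688, 1)))) (.node (.node (.node (.leaf (1, 55, 3)) (.leaf (2, 1404, 5))) (.leaf (3, 516, 5))) (.node (.node (.leaf (0, 782, 2)) (.leaf (0, 1151, 2))) (.leaf (2, 299, 8))))) (.node (.node (.node (.node (.leaf (0, 261, 3)) (.leaf (2, 1029, 2))) (.leaf (3, 122, 7))) (.node (.node (.leaf (3, 109, 5)) (.leaf (3, 1173, 2))) (.leaf (1, 910, 3)))) (.node (.node (.node (.leaf (1, 377, 3)) (.leaf (3, 411, 0))) (.leaf (3, 1365, 0))) (.node (.node (.leaf (2, 57, 6)) (.leaf (2, 1471, 11))) (.leaf (2, 511, 6)))))) (.node (.node (.node (.node (.node (.leaf (0, 144, 3)) (.leaf (2, 838, 9))) (.leaf (2, 1182, 10))) (.node (.node (.leaf (3, 9, 5)) (.leaf (3, 968, 8))) (.leaf (1, 368, 3)))) (.node (.node (.node (.leaf (1, 145, 3)) (.leaf (3,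 255, 10))) (.leaf (3, 835, 9))) (.node (.node (.leaf (1, 391, 1)) (.leaf (2, 305, 4))) (.leaf (2, 401, 6))))) (.node (.node (.node (.node (.leaf (0, 573, 3)) (.leaf (2, 1170, 11))) (.leaf (3, 297, 6))) (.node (.node (.leaf (3, 653, 10)) (.leaf (3, 1403, 1))) (.leaf (2, 178, 7)))) (.node (.node (.node (.leaf (2, 9, 8)) (.leaf (3, 564, 8))) (.leaf (0, 389, 2))) (.node (.leaf (2, 296, 0)) (.leaf (2, 626, 8))))))))) (.node (.node (.node (.node (.node (.node (.node (.node (.leaf (0, 12, 3)) (.leaf (2, 680, 8))) (.leaf (2, 393, 9))) (.node (.node (.leaf (2, 61, 8)) (.leaf (3, 654, 4))) (.leaf (0, 495, 1)))) (.node (.node (.node (.leaf (1, 11, 3)) (.leaf (2, 1275, 0))) (.leaf (3, 393, 4))) (.node (.node (.leaf (0, 102, 2)) (.leaf (3, 1466, 11))) (.leaf (2, 239, 8))))) (.node (.node (.node (.node (.leaf (0, 183, 3)) (.leaf (2, 883, 8))) (.leaf (3, 24, 6))) (.node (.node (.leaf (3, 30, 5)) (.leaf (3, 1017, 4))) (.leaf (1, 562, 2)))) (.node (.node (.node (.leaf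 (1, 216, 3)) (.leaf (3, 321, 6))) (.leaf (3, 1032, 6))) (.node (.node (.leaf (1, 789, 3)) (.leaf (2, 919, 5))) (.leaf (2, 451, 8)))))) (.node (.node (.node (.node (.node (.leaf (0, 86, 3)) (.leaf (2, 798, 10))) (.leaf (2, 714, 9))) (.node (.node (.leaf (2, 408, 8)) (.leaf (3, 854, 8))) (.leaf (0, 855, 1)))) (.node (.node (.node (.leaf (1, 83, 3)) (.leaf (3, 98, 4))) (.leaf (3, 603, 4))) (.node (.node (.leaf (1, 169, 2)) (.leaf (1, 725, 2))) (.leaf (2, 339, 6))))) (.node (.node (.node (.node (.leaf (0, 327, 3)) (.leaf (2, 1078, 1))) (.leaf (3, 180, 2))) (.node (.node (.leaf (3, 186, 4)) (.leaf (3, 1238, 0))) (.leaf (2, 104, 6)))) (.node (.node (.node (.leaf (1, 497, 3)) (.leaf (3, 462, 7))) (.leaf (0, 158, 2))) (.node (.leaf (2, 114, 2)) (.leaf (2, 566, 8))))))) (.node (.node (.node (.node (.node (.node (.leaf (0, 44, 3)) (.leaf (2, 748, 4))) (.leaf (2, 539, 4))) (.node (.node (.leaf (2, 163, 8)) (.leaf (3, 760, 5))) (.leaf (0, 640, 0)))) (.node (.node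 (.node (.leaf (1, 45, 3)) (.leaf (2, 1365, 1))) (.leaf (3, 502, 4))) (.node (.node (.leaf (0, 528, 2)) (.leaf (0, 1004, 0))) (.leaf (2, 286, 4))))) (.node (.node (.node (.node (.leaf (0, 241, 3)) (.leaf (2, 993, 9))) (.leaf (3, 102, 4))) (.node (.node (.leaf (3, 101, 5)) (.leaf (3, 1155, 4))) (.leaf (1, 796, 2)))) (.node (.node (.node (.leaf (1, 345, 3)) (.leaf (3, 387, 5))) (.leaf (3, 1300, 3))) (.node (.node (.leaf (2, 36, 8)) (.leaf (2, 1407, 8))) (.leaf (2, 506, 10)))))) (.node (.node (.node (.node (.node (.leaf (0, 134, 3)) (.leaf (2, 823, 11))) (.leaf (2, 1015, 6))) (.node (.node (.leaf (3, 5, 6)) (.leaf (3, 952, 1))) (.leaf (1, 275, 1)))) (.node (.node (.node (.leaf (1, 130, 3)) (.leaf (3, 246, 7))) (.leaf (3, 788, 0))) (.node (.node (.leaf (1, 326, 3)) (.leaf (1, 1388, 0))) (.leaf (2, 388, 9))))) (.node (.node (.node (.node (.leaf (0, 493, 3)) (.leaf (2, 1154, 1))) (.leaf (3, 270, 5))) (.node (.node (.leaf (3, 406, 4)) (.leaf (3, 1381, 6))) (.leaf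 (2, 170, 7)))) (.node (.node (.node (.leaf (2, 1, 6)) (.leaf (3, 535, 4))) (.leaf (0, 367, 2))) (.node (.leaf (2, 267, 8)) (.leaf (2, 611, 6)))))))) (.node (.node (.node (.node (.node (.node (.node (.leaf (0, 27, 3)) (.leaf (2, 721, 11))) (.leaf (2, 446, 9))) (.node (.node (.leaf (2, 109, 8)) (.leaf (3, 698, 9))) (.leaf (0, 558, 2)))) (.node (.node (.node (.leaf (1, 28, 3)) (.leaf (2, 1316, 1))) (.leaf (3, 443, 0))) (.node (.node (.leaf (0, 288, 2)) (.leaf (3, 1494, 1))) (.leaf (2, 261, 7))))) (.node (.node (.node (.node (.leaf (0, 211, 3)) (.leaf (2, 925, 1))) (.leaf (3, 55, 6))) (.node (.node (.leaf (3, 65, 8)) (.leaf (3, 1068, 5))) (.leaf (1, 669, 2)))) (.node (.node (.node (.leaf (1, 268, 3)) (.leaf (3, 360, 5))) (.leaf (3, 1189, 1))) (.node (.node (.leaf (2, 4, 7)) (.leaf (2, 1208, 4))) (.leaf (2, 475, 9)))))) (.node (.node (.node (.node (.node (.leaf (0, 108, 3)) (.leaf (2, 812, 10))) (.leaf (2, 804, 11))) (.node (.node (.leaf (2, 874, 1)) (.leaf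 (3, 890, 0))) (.leaf (1, 125, 1)))) (.node (.node (.node (.leaf (1, 105, 3)) (.leaf (3, 206, 5))) (.leaf (3, 709, 0))) (.node (.node (.leaf (1, 248, 2)) (.leaf (1, 905, 3))) (.leaf (2, 365, 1))))) (.node (.node (.node (.node (.leaf (0, 382, 3)) (.leaf (2, 1112, 6))) (.leaf (3, 223, 2))) (.node (.node (.leaf (3, 292, 8)) (.leaf (3, 1290, 2))) (.leaf (2, 143, 8)))) (.node (.node (.node (.leaf (1, 653, 3)) (.leaf (3, 508, 4))) (.leaf (0, 274, 2))) (.node (.leaf (2, 191, 8)) (.leaf (2, 597, 8))))))) (.node (.node (.node (.node (.node (.node (.leaf (0, 64, 3)) (.leaf (2, 771, 9))) (.leaf (2, 592, 9))) (.node (.node (.leaf (2, 300, 8)) (.leaf (3, 801, 3))) (.leaf (0, 761, 2)))) (.node (.node (.node (.leaf (1, 63, 3)) (.leaf (2, 1422, 9))) (.leaf (3, 538, 4))) (.node (.node (.leaf (1, 91, 2)) (.leaf (1, 485, 2))) (.leaf (2, 318, 8))))) (.node (.node (.node (.node (.leaf (0, 286, 3)) (.leaf (2, 1042, 8))) (.leaf (3, 130, 8))) (.node (.node (.leaf (3, 133, 5))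 (.leaf (3, 1207, 11))) (.leaf (1, 1231, 1)))) (.node (.node (.node (.leaf (1, 424, 3)) (.leaf (3, 440, 3))) (.leaf (3, 1437, 1))) (.node (.leaf (2, 74, 8)) (.leaf (2, 533, 4)))))) (.node (.node (.node (.node (.node (.leaf (0, 164, 3)) (.leaf (2, 846, 8))) (.leaf (2, 1276, 2))) (.node (.node (.leaf (3, 14, 5)) (.leaf (3, 991, 11))) (.leaf (1, 398, 2)))) (.node (.node (.node (.leaf (1, 184, 3)) (.leaf (3, 276, 8))) (.leaf (3, 912, 2))) (.node (.node (.leaf (1, 488, 1)) (.leaf (2, 636, 6))) (.leaf (2, 427, 9))))) (.node (.node (.node (.node (.leaf (0, 792, 3)) (.leaf (2, 1219, 11))) (.leaf (3, 309, 9))) (.node (.node (.leaf (3, 778, 5)) (.leaf (3, 1431, 3))) (.leaf (2, 199, 4)))) (.node (.node (.node (.leaf (2, 24, 8)) (.leaf (3, 594, 5))) (.leaf (0, 431, 0))) (.node (.leaf (2, 320, 7)) (.leaf (2, 639, 9))))))))))) (.node (.node (.node (.node (.node (.node (.node (.node (.node (.node (.leaf (0, 2, 3)) (.leaf (2, 646, 9))) (.leaf (2, 343, 2))) (.node (.node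 (.leaf (2, 35, 6)) (.leaf (3, 612, 2))) (.leaf (0, 461, 2)))) (.node (.node (.node (.leaf (1, 1, 3)) (.leaf (2, 1235, 10))) (.leaf (3, 369, 3))) (.node (.node (.leaf (3, 911, 1)) (.leaf (3, 1447, 8))) (.leaf (2, 209, 0))))) (.node (.node (.node (.node (.leaf (0, 170, 3)) (.leaf (2, 861, 3))) (.leaf (2, 1393, 11))) (.node (.node (.leaf (3, 17, 5)) (.leaf (3, 999, 8))) (.leaf (1, 458, 3)))) (.node (.node (.node (.leaf (1, 192, 3)) (.leaf (3, 287, 5))) (.leaf (3, 934, 9))) (.node (.node (.leaf (1, 578, 2)) (.leaf (2, 700, 9))) (.leaf (2, 439, 8)))))) (.node (.node (.node (.node (.node (.leaf (0, 72, 3)) (.leaf (2, 782, 8))) (.leaf (2, 637, 8))) (.node (.node (.leaf (2, 328, 3)) (.leaf (3, 842, 4))) (.leaf (0, 801, 2)))) (.node (.node (.node (.leaf (1, 73, 3)) (.leaf (2, 1430, 2))) (.leaf (3, 557, 4))) (.node (.node (.leaf (1, 133, 2)) (.leaf (1, 642, 2))) (.leaf (2, 332, 9))))) (.node (.node (.node (.node (.leaf (0, 311, 3)) (.leaf (2, 1057, 10))) (.leaf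 (3, 145, 8))) (.node (.node (.leaf (3, 141, 4)) (.leaf (3, 1218, 8))) (.leaf (2, 42, 7)))) (.node (.node (.node (.leaf (1, 456, 3)) (.leaf (3, 448, 7))) (.leaf (0, 87, 2))) (.node (.leaf (2, 86, 8)) (.leaf (2, 542, 11))))))) (.node (.node (.node (.node (.node (.node (.leaf (0, 34, 3)) (.leaf (2, 737, 4))) (.leaf (2, 497, 4))) (.node (.node (.leaf (2, 123, 8)) (.leaf (3, 725, 8))) (.leaf (0, 575, 3)))) (.node (.node (.node (.leaf (1, 33, 3)) (.leaf (2, 1328, 0))) (.leaf (3, 460, 4))) (.node (.node (.leaf (0, 336, 2)) (.leaf (0, 303, 3))) (.leaf (2, 271, 4))))) (.node (.node (.node (.node (.leaf (0, 217, 3)) (.leaf (2, 950, 0))) (.leaf (3, 61, 6))) (.node (.node (.leaf (3, 73, 5)) (.leaf (3, 1097, 5))) (.leaf (1, 692, 2)))) (.node (.node (.node (.leaf (1, 292, 3)) (.leaf (3, 376, 9))) (.leaf (3, 1229, 2))) (.node (.node (.leaf (2, 15, 7)) (.leaf (2, 1272, 1))) (.leaf (2, 486, 5)))))) (.node (.node (.node (.node (.node (.leaf (0, 120, 3)) (.leaf (2, 817,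 7))) (.leaf (2, 857, 3))) (.node (.node (.leaf (3, 0, 5)) (.leaf (3, 908, 5))) (.leaf (1, 240, 3)))) (.node (.node (.node (.leaf (1, 115, 3)) (.leaf (3, 222, 4))) (.leaf (3, 735, 5))) (.node (.node (.leaf (1, 281, 1)) (.leaf (1, 941, 1))) (.leaf (2, 377, 7))))) (.node (.node (.node (.node (.leaf (0, 420, 3)) (.leaf (2, 1119, 2))) (.leaf (3, 234, 5))) (.node (.node (.leaf (3, 328, 3)) (.leaf (3, 1332, 8))) (.leaf (2, 148, 8)))) (.node (.node (.node (.leaf (1, 721, 3)) (.leaf (3, 521, 7))) (.leaf (0, 290, 2))) (.node (.leaf (2, 204, 7)) (.leaf (2, 606, 9)))))))) (.node (.node (.node (.node (.node (.node (.node (.leaf (0, 17, 3)) (.leaf (2, 699, 7))) (.leaf (2, 414, 6))) (.node (.node (.leaf (2, 79, 8)) (.leaf (3, 672, 4))) (.leaf (0, 535, 2)))) (.node (.node (.node (.leaf (1, 18, 3)) (.leaf (2, 1291, 8))) (.leaf (3, 416, 3))) (.node (.node (.leaf (0, 189, 2)) (.leaf (3, 1485, 3))) (.leaf (2, 244, 8))))) (.node (.node (.node (.node (.leaf (0, 195, 3)) (.leaf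 (2, 910, 3))) (.leaf (3, 32, 9))) (.node (.node (.leaf (3, 41, 7)) (.leaf (3, 1022, 8))) (.leaf (1, 600, 2)))) (.node (.node (.node (.leaf (1, 232, 3)) (.leaf (3, 340, 7))) (.leaf (3, 1119, 2))) (.node (.node (.leaf (1, 1015, 2)) (.leaf (2, 1032, 3))) (.leaf (2, 458, 4)))))) (.node (.node (.node (.node (.node (.leaf (0, 96, 3)) (.leaf (2, 802, 4))) (.leaf (2, 765, 4))) (.node (.node (.leaf (2, 572, 8)) (.leaf (3, 866, 4))) (.leaf (0, 963, 2)))) (.node (.node (.node (.leaf (1, 89, 3)) (.leaf (3, 142, 7))) (.leaf (3, 628, 9))) (.node (.node (.leaf (1, 206, 2)) (.leaf (1, 760, 1))) (.leaf (2, 354, 7))))) (.node (.node (.node (.node (.leaf (0, 353, 3)) (.leaf (2, 1097, 9))) (.leaf (3, 196, 5))) (.node (.node (.leaf (3, 204, 7)) (.leaf (3, 1255, 1))) (.leaf (2, 119, 4)))) (.node (.node (.node (.leaf (1, 534, 3)) (.leaf (3, 478, 9))) (.leaf (0, 191, 2))) (.node (.leaf (2, 131, 7)) (.leaf (2, 581, 10))))))) (.node (.node (.node (.node (.node (.node (.leaf (0,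 52, 3)) (.leaf (2, 760, 8))) (.leaf (2, 557, 9))) (.node (.node (.leaf (2, 212, 3)) (.leaf (3, 782, 5))) (.leaf (0, 677, 0)))) (.node (.node (.node (.leaf (1, 53, 3)) (.leaf (2, 1389, 11))) (.leaf (3, 515, 6))) (.node (.node (.leaf (0, 745, 2)) (.leaf (0, 1123, 3))) (.leaf (2, 295, 6))))) (.node (.node (.node (.node (.leaf (0, 253, 3)) (.leaf (2, 1021, 10))) (.leaf (3, 119, 6))) (.node (.node (.leaf (3, 107, 8)) (.leaf (3, 1164, 11))) (.leaf (1, 889, 2)))) (.node (.node (.node (.leaf (1, 369, 3)) (.leaf (3, 409, 2))) (.leaf (3, 1355, 7))) (.node (.node (.leaf (2, 50, 8)) (.leaf (2, 1462, 1))) (.leaf (2, 510, 8)))))) (.node (.node (.node (.node (.node (.leaf (0, 142, 3)) (.leaf (2, 832, 4))) (.leaf (2, 1136, 10))) (.node (.node (.leaf (3, 8, 5)) (.leaf (3, 967, 1))) (.leaf (1, 362, 2)))) (.node (.node (.node (.leaf (1, 143, 3)) (.leaf (3, 251, 4))) (.leaf (3, 832, 5))) (.node (.node (.leaf (1, 360, 2)) (.leaf (2, 195, 3))) (.leaf (2, 396, 4))))) (.node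 (.node (.node (.node (.leaf (0, 541, 3)) (.leaf (2, 1163, 9))) (.leaf (3, 294, 1))) (.node (.node (.leaf (3, 590, 6)) (.leaf (3, 1400, 11))) (.leaf (2, 177, 4)))) (.node (.node (.node (.leaf (2, 7, 6)) (.leaf (3, 553, 7))) (.leaf (0, 384, 2))) (.node (.leaf (2, 292, 6)) (.leaf (2, 623, 2))))))))) (.node (.node (.node (.node (.node (.node (.node (.node (.leaf (0, 10, 3)) (.leaf (2, 677, 8))) (.leaf (2, 391, 6))) (.node (.node (.leaf (2, 51, 8)) (.leaf (3, 652, 1))) (.leaf (0, 489, 2)))) (.node (.node (.node (.leaf (1, 9, 3)) (.leaf (2, 1267, 11))) (.leaf (3, 383, 5))) (.node (.node (.leaf (0, 74, 2)) (.leaf (3, 1463, 11))) (.leaf (2, 238, 8))))) (.node (.node (.node (.node (.leaf (0, 181, 3)) (.leaf (2, 881, 8))) (.leaf (3, 21, 5))) (.node (.node (.leaf (3, 29, 5)) (.leaf (3, 1011, 3))) (.leaf (1, 548, 2)))) (.node (.node (.node (.leaf (1, 212, 3)) (.leaf (3, 317, 4))) (.leaf (3, 980, 11))) (.node (.node (.leaf (1, 744, 2)) (.leaf (2, 892, 7))) (.leaf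 (2, 449, 5)))))) (.node (.node (.node (.node (.node (.leaf (0, 84, 3)) (.leaf (2, 789, 3))) (.leaf (2, 712, 4))) (.node (.node (.leaf (2, 383, 8)) (.leaf (3, 852, 9))) (.leaf (0, 845, 1)))) (.node (.node (.node (.leaf (1, 81, 3)) (.leaf (3, 50, 4))) (.leaf (3, 593, 2))) (.node (.node (.leaf (1, 165, 2)) (.leaf (1, 710, 3))) (.leaf (2, 336, 8))))) (.node (.node (.node (.node (.leaf (0, 323, 3)) (.leaf (2, 1072, 9))) (.leaf (3, 179, 4))) (.node (.node (.leaf (3, 159, 6)) (.leaf (3, 1233, 10))) (.leaf (2, 94, 8)))) (.node (.node (.node (.leaf (1, 490, 3)) (.leaf (3, 456, 9))) (.leaf (0, 152, 1))) (.node (.leaf (2, 113, 4)) (.leaf (2, 565, 6))))))) (.node (.node (.node (.node (.node (.node (.leaf (0, 42, 3)) (.leaf (2, 747, 0))) (.leaf (2, 531, 4))) (.node (.node (.leaf (2, 149, 8)) (.leaf (3, 759, 0))) (.leaf (0, 639, 1)))) (.node (.node (.node (.leaf (1, 41, 3)) (.leaf (2, 1359, 0))) (.leaf (3, 499, 9))) (.node (.node (.leaf (0, 507, 1)) (.leaf (0, 1001,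 2))) (.leaf (2, 282, 7))))) (.node (.node (.node (.node (.leaf (0, 239, 3)) (.leaf (2, 978, 11))) (.leaf (3, 88, 8))) (.node (.node (.leaf (3, 99, 4)) (.leaf (3, 1146, 8))) (.leaf (1, 768, 2)))) (.node (.node (.node (.leaf (1, 332, 3)) (.leaf (3, 386, 4))) (.leaf (3, 1294, 2))) (.node (.node (.leaf (2, 33, 6)) (.leaf (2, 1396, 8))) (.leaf (2, 505, 3)))))) (.node (.node (.node (.node (.node (.leaf (0, 132, 3)) (.leaf (2, 821, 9))) (.leaf (2, 1008, 2))) (.node (.node (.leaf (3, 4, 5)) (.leaf (3, 937, 8))) (.leaf (1, 270, 3)))) (.node (.node (.node (.leaf (1, 127, 3)) (.leaf (3, 237, 8))) (.leaf (3, 763, 3))) (.node (.node (.leaf (1, 322, 2)) (.leaf (1, 1288, 1))) (.leaf (2, 386, 8))))) (.node (.node (.node (.node (.leaf (0, 453, 3)) (.leaf (2, 1131, 0))) (.leaf (3, 266, 4))) (.node (.node (.leaf (3, 404, 4)) (.leaf (3, 1371, 0))) (.leaf (2, 167, 8)))) (.node (.node (.node (.leaf (2, 0, 6)) (.leaf (3, 534, 5))) (.leaf (0, 363, 3))) (.node (.leaf (2, 257,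 4)) (.leaf (2, 610, 8)))))))) (.node (.node (.node (.node (.node (.node (.node (.leaf (0, 25, 3)) (.leaf (2, 719, 2))) (.leaf (2, 432, 8))) (.node (.node (.leaf (2, 103, 8)) (.leaf (3, 693, 0))) (.leaf (0, 554, 2)))) (.node (.node (.node (.leaf (1, 26, 3)) (.leaf (2, 1315, 9))) (.leaf (3, 437, 5))) (.node (.node (.leaf (0, 282, 2)) (.leaf (3, 1493, 11))) (.leaf (2, 253, 1))))) (.node (.node (.node (.node (.leaf (0, 207, 3)) (.leaf (2, 918, 9))) (.leaf (3, 45, 5))) (.node (.node (.leaf (3, 59, 5)) (.leaf (3, 1064, 1))) (.leaf (1, 661, 1)))) (.node (.node (.node (.leaf (1, 266, 3)) (.leaf (3, 358, 7))) (.leaf (3, 1188, 9))) (.node (.node (.leaf (2, 2, 7)) (.leaf (2, 1194, 8))) (.leaf (2, 473, 4)))))) (.node (.node (.node (.node (.node (.leaf (0, 106, 3)) (.leaf (2, 809, 3))) (.leaf (2, 796, 6))) (.node (.node (.leaf (2, 791, 8)) (.leaf (3, 887, 4))) (.leaf (0, 1230, 3)))) (.node (.node (.node (.leaf (1, 103, 3)) (.leaf (3, 183, 3))) (.leaf (3, 707, 10)))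 (.node (.node (.leaf (1, 234, 2)) (.leaf (1, 894, 1))) (.leaf (2, 359, 5))))) (.node (.node (.node (.node (.leaf (0, 374, 3)) (.leaf (2, 1110, 10))) (.leaf (3, 221, 4))) (.node (.node (.leaf (3, 281, 4)) (.leaf (3, 1281, 3))) (.leaf (2, 138, 3)))) (.node (.node (.node (.leaf (1, 630, 3)) (.leaf (3, 504, 5))) (.leaf (0, 267, 2))) (.node (.leaf (2, 187, 2)) (.leaf (2, 595, 9))))))) (.node (.node (.node (.node (.node (.node (.leaf (0, 62, 3)) (.leaf (2, 767, 11))) (.leaf (2, 580, 10))) (.node (.node (.leaf (2, 273, 8)) (.leaf (3, 800, 4))) (.leaf (0, 732, 3)))) (.node (.node (.node (.leaf (1, 61, 3)) (.leaf (2, 1420, 9))) (.leaf (3, 536, 7))) (.node (.node (.leaf (1, 71, 3)) (.leaf (1, 401, 3))) (.leaf (2, 317, 7))))) (.node (.node (.node (.node (.leaf (0, 280, 3)) (.leaf (2, 1041, 9))) (.leaf (3, 127, 5))) (.node (.node (.leaf (3, 131, 7)) (.leaf (3, 1206, 0))) (.leaf (1, 1185, 3)))) (.node (.node (.node (.leaf (1, 421, 3)) (.leaf (3, 436, 5))) (.leaf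 (3, 1430, 1))) (.node (.leaf (2, 69, 9)) (.leaf (2, 524, 7)))))) (.node (.node (.node (.node (.node (.leaf (0, 156, 3)) (.leaf (2, 845, 9))) (.leaf (2, 1248, 11))) (.node (.node (.leaf (3, 13, 6)) (.leaf (3, 986, 10))) (.leaf (1, 383, 2)))) (.node (.node (.node (.leaf (1, 173, 3)) (.leaf (3, 274, 2))) (.leaf (3, 907, 9))) (.node (.node (.leaf (1, 450, 2)) (.leaf (2, 582, 7))) (.leaf (2, 419, 9))))) (.node (.node (.node (.node (.leaf (0, 596, 3)) (.leaf (2, 1181, 9))) (.leaf (3, 308, 4))) (.node (.node (.leaf (3, 722, 9)) (.leaf (3, 1414, 11))) (.leaf (2, 197, 8)))) (.node (.node (.node (.leaf (2, 22, 6)) (.leaf (3, 584, 3))) (.leaf (0, 415, 1))) (.node (.leaf (2, 319, 4)) (.leaf (2, 635, 10)))))))))) (.node (.node (.node (.node (.node (.node (.node (.node (.node (.leaf (0, 6, 3)) (.leaf (2, 667, 7))) (.leaf (2, 360, 7))) (.node (.node (.leaf (2, 41, 8)) (.leaf (3, 648, 9))) (.leaf (0, 483, 0)))) (.node (.node (.node (.leaf (1, 5, 3)) (.leaf (2, 1254,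 9))) (.leaf (3, 373, 4))) (.node (.node (.leaf (3, 1090, 1)) (.leaf (3, 1452, 1))) (.leaf (2, 219, 4))))) (.node (.node (.node (.node (.leaf (0, 176, 3)) (.leaf (2, 877, 8))) (.leaf (3, 18, 6))) (.node (.node (.leaf (3, 25, 5)) (.leaf (3, 1005, 0))) (.leaf (1, 511, 3)))) (.node (.node (.node (.leaf (1, 200, 3)) (.leaf (3, 304, 8))) (.leaf (3, 964, 10))) (.node (.node (.leaf (1, 644, 1)) (.leaf (2, 849, 8))) (.leaf (2, 447, 8)))))) (.node (.node (.node (.node (.node (.leaf (0, 80, 3)) (.leaf (2, 784, 9))) (.leaf (2, 661, 8))) (.node (.node (.leaf (2, 348, 8)) (.leaf (3, 845, 4))) (.leaf (0, 814, 2)))) (.node (.node (.node (.leaf (1, 77, 3)) (.leaf (2, 1452, 0))) (.leaf (3, 580, 3))) (.node (.node (.leaf (1, 141, 2)) (.leaf (1, 679, 2))) (.leaf (2, 334, 10))))) (.node (.node (.node (.node (.leaf (0, 317, 3)) (.leaf (2, 1065, 10))) (.leaf (3, 162, 5))) (.node (.node (.leaf (3, 153, 8)) (.leaf (3, 1227, 5))) (.leaf (2, 66, 7)))) (.node (.node (.node (.leaf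 (1, 471, 3)) (.leaf (3, 452, 4))) (.leaf (0, 118, 2))) (.node (.leaf (2, 102, 9)) (.leaf (2, 554, 9))))))) (.node (.node (.node (.node (.node (.node (.leaf (0, 38, 3)) (.leaf (2, 739, 9))) (.leaf (2, 527, 8))) (.node (.node (.leaf (2, 139, 3)) (.leaf (3, 744, 8))) (.leaf (0, 620, 2)))) (.node (.node (.node (.leaf (1, 37, 3)) (.leaf (2, 1339, 5))) (.leaf (3, 466, 2))) (.node (.node (.leaf (0, 445, 3)) (.leaf (0, 870, 3))) (.leaf (2, 278, 6))))) (.node (.node (.node (.node (.leaf (0, 223, 3)) (.leaf (2, 970, 9))) (.leaf (3, 69, 5))) (.node (.node (.leaf (3, 91, 5)) (.leaf (3, 1106, 4))) (.leaf (1, 737, 3)))) (.node (.node (.node (.leaf (1, 312, 3)) (.leaf (3, 384, 2))) (.leaf (3, 1248, 1))) (.node (.node (.leaf (2, 23, 8)) (.leaf (2, 1377, 1))) (.leaf (2, 499, 6)))))) (.node (.node (.node (.node (.node (.leaf (0, 126, 3)) (.leaf (2, 819, 8))) (.leaf (2, 912, 2))) (.node (.node (.leaf (3, 2, 5)) (.leaf (3, 918, 7))) (.leaf (1, 256, 3)))) (.node (.node (.node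 (.leaf (1, 119, 3)) (.leaf (3, 229, 0))) (.leaf (3, 753, 3))) (.node (.node (.leaf (1, 300, 3)) (.leaf (1, 1266, 0))) (.leaf (2, 380, 4))))) (.node (.node (.node (.node (.leaf (0, 434, 3)) (.leaf (2, 1121, 11))) (.leaf (3, 258, 9))) (.node (.node (.leaf (3, 343, 4)) (.leaf (3, 1359, 1))) (.leaf (2, 160, 7)))) (.node (.node (.node (.leaf (1, 836, 3)) (.leaf (3, 530, 4))) (.leaf (0, 351, 2))) (.node (.leaf (2, 231, 6)) (.leaf (2, 608, 6)))))))) (.node (.node (.node (.node (.node (.node (.node (.leaf (0, 21, 3)) (.leaf (2, 715, 9))) (.leaf (2, 423, 4))) (.node (.node (.leaf (2, 97, 3)) (.leaf (3, 685, 5))) (.leaf (0, 547, 1)))) (.node (.node (.node (.leaf (1, 22, 3)) (.leaf (2, 1294, 2))) (.leaf (3, 423, 1))) (.node (.node (.leaf (0, 255, 2)) (.leaf (3, 1489, 11))) (.leaf (2, 247, 5))))) (.node (.node (.node (.node (.leaf (0, 201, 3)) (.leaf (2, 914, 11))) (.leaf (3, 37, 6))) (.node (.node (.leaf (3, 47, 4)) (.leaf (3, 1040, 6))) (.leaf (1, 641, 3)))) (.node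 (.node (.node (.leaf (1, 254, 3)) (.leaf (3, 346, 8))) (.leaf (3, 1136, 4))) (.node (.node (.leaf (1, 1032, 3)) (.leaf (2, 1066, 6))) (.leaf (2, 467, 8)))))) (.node (.node (.node (.node (.node (.leaf (0, 100, 3)) (.leaf (2, 806, 4))) (.leaf (2, 778, 6))) (.node (.node (.leaf (2, 682, 8)) (.leaf (3, 884, 5))) (.leaf (0, 1138, 3)))) (.node (.node (.node (.leaf (1, 99, 3)) (.leaf (3, 156, 8))) (.leaf (3, 683, 9))) (.node (.node (.leaf (1, 214, 2)) (.leaf (1, 842, 2))) (.leaf (2, 356, 8))))) (.node (.node (.node (.node (.leaf (0, 361, 3)) (.leaf (2, 1108, 10))) (.leaf (3, 200, 5))) (.node (.node (.leaf (3, 214, 4)) (.leaf (3, 1262, 8))) (.leaf (2, 128, 8)))) (.node (.node (.node (.leaf (1, 585, 3)) (.leaf (3, 484, 7))) (.leaf (0, 244, 2))) (.node (.leaf (2, 165, 8)) (.leaf (2, 585, 4))))))) (.node (.node (.node (.node (.node (.node (.leaf (0, 56, 3)) (.leaf (2, 762, 9))) (.leaf (2, 574, 9))) (.node (.node (.leaf (2, 236, 8)) (.leaf (3, 787, 9))) (.leaf (0,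 695, 2)))) (.node (.node (.node (.leaf (1, 57, 3)) (.leaf (2, 1409, 2))) (.leaf (3, 523, 7))) (.node (.node (.leaf (1, 43, 2)) (.leaf (0, 1412, 0))) (.leaf (2, 301, 9))))) (.node (.node (.node (.node (.leaf (0, 263, 3)) (.leaf (2, 1031, 5))) (.leaf (3, 123, 5))) (.node (.node (.leaf (3, 113, 4)) (.leaf (3, 1177, 8))) (.leaf (1, 998, 3)))) (.node (.node (.node (.leaf (1, 393, 3)) (.leaf (3, 412, 8))) (.leaf (3, 1367, 2))) (.node (.node (.leaf (2, 60, 9)) (.leaf (2, 1476, 5))) (.leaf (2, 519, 8)))))) (.node (.node (.node (.node (.node (.leaf (0, 146, 3)) (.leaf (2, 840, 7))) (.leaf (2, 1189, 2))) (.node (.node (.leaf (3, 10, 5)) (.leaf (3, 969, 9))) (.leaf (1, 375, 3)))) (.node (.node (.node (.leaf (1, 153, 3)) (.leaf (3, 267, 5))) (.leaf (3, 875, 1))) (.node (.node (.leaf (1, 414, 2)) (.leaf (2, 438, 8))) (.leaf (2, 409, 9))))) (.node (.node (.node (.node (.leaf (0, 577, 3)) (.leaf (2, 1173, 10))) (.leaf (3, 298, 4))) (.node (.node (.leaf (3, 674, 1))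 (.leaf (3, 1410, 1))) (.leaf (2, 180, 1)))) (.node (.node (.node (.leaf (2, 13, 8)) (.leaf (3, 573, 1))) (.leaf (0, 394, 2))) (.node (.leaf (2, 312, 8)) (.leaf (2, 628, 6))))))))) (.node (.node (.node (.node (.node (.node (.node (.node (.leaf (0, 14, 3)) (.leaf (2, 687, 8))) (.leaf (2, 398, 9))) (.node (.node (.leaf (2, 67, 8)) (.leaf (3, 656, 7))) (.leaf (0, 505, 2)))) (.node (.node (.node (.leaf (1, 13, 3)) (.leaf (2, 1283, 8))) (.leaf (3, 400, 7))) (.node (.node (.leaf (0, 116, 2)) (.leaf (3, 1474, 11))) (.leaf (2, 242, 7))))) (.node (.node (.node (.node (.leaf (0, 187, 3)) (.leaf (2, 900, 9))) (.leaf (3, 26, 6))) (.node (.node (.leaf (3, 35, 5)) (.leaf (3, 1019, 0))) (.leaf (1, 565, 3)))) (.node (.node (.node (.leaf (1, 218, 3)) (.leaf (3, 323, 3))) (.leaf (3, 1060, 1))) (.node (.node (.leaf (1, 815, 2)) (.leaf (2, 938, 3))) (.leaf (2, 452, 9)))))) (.node (.node (.node (.node (.node (.leaf (0, 90, 3)) (.leaf (2, 800, 9))) (.leaf (2, 718, 2))) (.node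 (.node (.leaf (2, 536, 8)) (.leaf (3, 858, 4))) (.leaf (0, 917, 3)))) (.node (.node (.node (.leaf (1, 85, 3)) (.leaf (3, 110, 3))) (.leaf (3, 608, 8))) (.node (.node (.leaf (1, 175, 2)) (.leaf (1, 730, 1))) (.leaf (2, 350, 8))))) (.node (.node (.node (.node (.leaf (0, 333, 3)) (.leaf (2, 1093, 3))) (.leaf (3, 184, 5))) (.node (.node (.leaf (3, 188, 5)) (.leaf (3, 1239, 8))) (.leaf (2, 108, 8)))) (.node (.node (.node (.leaf (1, 504, 3)) (.leaf (3, 463, 9))) (.leaf (0, 171, 2))) (.node (.leaf (2, 116, 8)) (.leaf (2, 573, 10))))))) (.node (.node (.node (.node (.node (.node (.leaf (0, 48, 3)) (.leaf (2, 749, 1))) (.leaf (2, 540, 9))) (.node (.node (.leaf (2, 194, 8)) (.leaf (3, 772, 5))) (.leaf (0, 651, 1)))) (.node (.node (.node (.leaf (1, 49, 3)) (.leaf (2, 1376, 8))) (.leaf (3, 507, 5))) (.node (.node (.leaf (0, 561, 2)) (.leaf (0, 1013, 3))) (.leaf (2, 288, 8))))) (.node (.node (.node (.node (.leaf (0, 247, 3)) (.leaf (2, 994, 9))) (.leaf (3, 105, 5)))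 (.node (.node (.leaf (3, 103, 6)) (.leaf (3, 1158, 5))) (.leaf (1, 846, 3)))) (.node (.node (.node (.leaf (1, 358, 3)) (.leaf (3, 389, 5))) (.leaf (3, 1309, 1))) (.node (.node (.leaf (2, 47, 4)) (.leaf (2, 1413, 9))) (.leaf (2, 507, 4)))))) (.node (.node (.node (.node (.node (.leaf (0, 138, 3)) (.leaf (2, 825, 8))) (.leaf (2, 1060, 9))) (.node (.node (.leaf (3, 6, 5)) (.leaf (3, 956, 7))) (.leaf (1, 297, 2)))) (.node (.node (.node (.leaf (1, 131, 3)) (.leaf (3, 247, 4))) (.leaf (3, 813, 4))) (.node (.node (.leaf (1, 330, 2)) (.leaf (2, 80, 3))) (.leaf (2, 389, 7))))) (.node (.node (.node (.node (.leaf (0, 518, 3)) (.leaf (2, 1156, 1))) (.leaf (3, 283, 4))) (.node (.node (.leaf (3, 497, 9)) (.leaf (3, 1385, 9))) (.leaf (2, 171, 8)))) (.node (.node (.node (.leaf (2, 3, 6)) (.leaf (3, 544, 4))) (.leaf (0, 370, 3))) (.node (.leaf (2, 281, 4)) (.leaf (2, 616, 8)))))))) (.node (.node (.node (.node (.node (.node (.node (.leaf (0, 30, 3)) (.leaf (2, 726, 8)))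 (.leaf (2, 460, 9))) (.node (.node (.leaf (2, 117, 8)) (.leaf (3, 701, 5))) (.leaf (0, 563, 2)))) (.node (.node (.node (.leaf (1, 29, 3)) (.leaf (2, 1317, 6))) (.leaf (3, 444, 4))) (.node (.node (.leaf (0, 329, 3)) (.leaf (3, 1495, 11))) (.leaf (2, 265, 10))))) (.node (.node (.node (.node (.leaf (0, 213, 3)) (.leaf (2, 933, 0))) (.leaf (3, 56, 9))) (.node (.node (.leaf (3, 67, 5)) (.leaf (3, 1073, 10))) (.leaf (1, 676, 3)))) (.node (.node (.node (.leaf (1, 273, 3)) (.leaf (3, 363, 4))) (.leaf (3, 1208, 7))) (.node (.node (.leaf (2, 8, 7)) (.leaf (2, 1223, 10))) (.leaf (2, 477, 7)))))) (.node (.node (.node (.node (.node (.leaf (0, 110, 3)) (.leaf (2, 814, 9))) (.leaf (2, 815, 9))) (.node (.node (.leaf (2, 875, 10)) (.leaf (3, 893, 2))) (.leaf (1, 172, 3)))) (.node (.node (.node (.leaf (1, 107, 3)) (.leaf (3, 207, 3))) (.leaf (3, 711, 11))) (.node (.node (.leaf (1, 250, 2)) (.leaf (1, 915, 2))) (.leaf (2, 372, 7))))) (.node (.node (.node (.node (.leaf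 (0, 409, 3)) (.leaf (2, 1115, 5))) (.leaf (3, 231, 4))) (.node (.node (.leaf (3, 295, 4)) (.leaf (3, 1293, 3))) (.leaf (2, 145, 5)))) (.node (.node (.node (.leaf (1, 706, 3)) (.leaf (3, 509, 2))) (.leaf (0, 279, 2))) (.node (.leaf (2, 196, 8)) (.leaf (2, 598, 1))))))) (.node (.node (.node (.node (.node (.node (.leaf (0, 66, 3)) (.leaf (2, 777, 9))) (.leaf (2, 619, 9))) (.node (.node (.leaf (2, 310, 8)) (.leaf (3, 807, 5))) (.leaf (0, 773, 2)))) (.node (.node (.node (.leaf (1, 65, 3)) (.leaf (2, 1424, 0))) (.leaf (3, 539, 7))) (.node (.node (.leaf (1, 95, 3)) (.leaf (1, 486, 2))) (.leaf (2, 325, 8))))) (.node (.node (.node (.node (.leaf (0, 301, 3)) (.leaf (2, 1050, 9))) (.leaf (3, 135, 9))) (.node (.node (.leaf (3, 138, 2)) (.leaf (3, 1211, 0))) (.leaf (1, 1338, 3)))) (.node (.node (.node (.leaf (1, 426, 3)) (.leaf (3, 441, 5))) (.leaf (3, 1439, 7))) (.node (.leaf (2, 76, 8)) (.leaf (2, 535, 8)))))) (.node (.node (.node (.node (.node (.leaf (0, 166,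 3)) (.leaf (2, 850, 9))) (.leaf (2, 1340, 2))) (.node (.node (.leaf (3, 15, 5)) (.leaf (3, 993, 1))) (.leaf (1, 432, 2)))) (.node (.node (.node (.leaf (1, 188, 3)) (.leaf (3, 279, 5))) (.leaf (3, 921, 3))) (.node (.node (.leaf (1, 494, 2)) (.leaf (2, 660, 2))) (.leaf (2, 435, 8))))) (.node (.node (.node (.node (.leaf (0, 795, 3)) (.leaf (2, 1220, 1))) (.leaf (3, 312, 5))) (.node (.node (.leaf (3, 857, 10)) (.leaf (3, 1443, 0))) (.leaf (2, 201, 8)))) (.node (.node (.node (.leaf (2, 28, 8)) (.leaf (3, 602, 5))) (.leaf (0, 436, 1))) (.node (.leaf (2, 326, 3)) (.leaf (2, 641, 8)))))))))))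

/-- data -/
def pot0 : Trie (Vec) := .node (.node (.node (.node (.node (.node (.node (.node (.node (.node (.node (.leaf ([])) (.leaf ([6, 5]))) (.leaf ([7, 3]))) (.node (.node (.leaf ([5, 3])) (.leaf ([9, 4]))) (.leaf ([8, 3])))) (.node (.node (.node (.leaf ([4, 3])) (.leaf ([6, 6]))) (.leaf ([5, 5]))) (.node (.node (.leaf ([5, 4])) (.leaf ([6, 7]))) (.leaf ([6, 5]))))) (.node (.node (.node (.node (.leaf ([3, 3])) (.leaf ([8, 4]))) (.leaf ([5, 5]))) (.node (.node (.leaf ([5, 4])) (.leaf ([7, 6]))) (.leaf ([6, 5])))) (.node (.node (.node (.leaf ([5, 3])) (.leaf ([8, 4]))) (.leaf ([4, 6]))) (.node (.node (.leaf ([5, 4])) (.leaf ([7, 7]))) (.leaf ([6, 5])))))) (.node (.node (.node (.node (.node (.leaf ([3, 2])) (.leaf ([8, 4]))) (.leaf ([6, 4]))) (.node (.node (.leaf ([4, 4])) (.leaf ([8, 5]))) (.leaf ([8, 3])))) (.node (.node (.node (.leaf ([3, 4])) (.leaf ([6, 6]))) (.leaf ([5, 5]))) (.node (.node (.leaf ([4, 5])) (.leaf ([9, 5]))) (.leaf ([4, 7])))))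 (.node (.node (.node (.node (.leaf ([1, 5])) (.leaf ([7, 5]))) (.leaf ([5, 5]))) (.node (.node (.leaf ([5, 4])) (.leaf ([6, 7]))) (.leaf ([7, 4])))) (.node (.node (.node (.leaf ([5, 3])) (.leaf ([6, 6]))) (.leaf ([4, 6]))) (.node (.leaf ([4, 5])) (.leaf ([4, 7]))))))) (.node (.node (.node (.node (.node (.node (.leaf ([3, 1])) (.leaf ([9, 3]))) (.leaf ([6, 4]))) (.node (.node (.leaf ([4, 4])) (.leaf ([8, 5]))) (.leaf ([6, 5])))) (.node (.node (.node (.leaf ([4, 3])) (.leaf ([8, 4]))) (.leaf ([5, 5]))) (.node (.node (.leaf ([5, 4])) (.leaf ([8, 6]))) (.leaf ([7, 4]))))) (.node (.node (.node (.node (.leaf ([3, 3])) (.leaf ([8, 4]))) (.leaf ([7, 3]))) (.node (.node (.leaf ([6, 3])) (.leaf ([7, 6]))) (.leaf ([6, 5])))) (.node (.node (.node (.leaf ([5, 3])) (.leaf ([5, 7]))) (.leaf ([5, 5]))) (.node (.node (.leaf ([4, 5])) (.leaf ([9, 6]))) (.leaf ([7, 4])))))) (.node (.node (.node (.node (.node (.leaf ([1, 4])) (.leaf ([5, 7]))) (.leaf ([5, 5]))) (.node (.node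 (.leaf ([3, 5])) (.leaf ([7, 6]))) (.leaf ([5, 6])))) (.node (.node (.node (.leaf ([2, 5])) (.leaf ([5, 7]))) (.leaf ([5, 5]))) (.node (.node (.leaf ([6, 3])) (.leaf ([8, 6]))) (.leaf ([6, 5]))))) (.node (.node (.node (.node (.leaf ([4, 3])) (.leaf ([7, 5]))) (.leaf ([4, 6]))) (.node (.node (.leaf ([6, 3])) (.leaf ([7, 6]))) (.leaf ([7, 4])))) (.node (.node (.node (.leaf ([4, 4])) (.leaf ([6, 6]))) (.leaf ([4, 6]))) (.node (.leaf ([4, 5])) (.leaf ([6, 5])))))))) (.node (.node (.node (.node (.node (.node (.node (.leaf ([2, 1])) (.leaf ([5, 6]))) (.leaf ([6, 4]))) (.node (.node (.leaf ([5, 3])) (.leaf ([9, 4]))) (.leaf ([6, 5])))) (.node (.node (.node (.leaf ([3, 4])) (.leaf ([7, 5]))) (.leaf ([5, 5]))) (.node (.node (.leaf ([3, 6])) (.leaf ([7, 6]))) (.leaf ([5, 6]))))) (.node (.node (.node (.node (.leaf ([2, 4])) (.leaf ([7, 5]))) (.leaf ([6, 4]))) (.node (.node (.leaf ([6, 3])) (.leaf ([7, 6]))) (.leaf ([7, 4])))) (.node (.node (.node (.leaf ([6, 2]))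 (.leaf ([6, 6]))) (.leaf ([4, 6]))) (.node (.node (.leaf ([4, 5])) (.leaf ([9, 6]))) (.leaf ([6, 5])))))) (.node (.node (.node (.node (.node (.leaf ([2, 3])) (.leaf ([7, 5]))) (.leaf ([6, 4]))) (.node (.node (.leaf ([2, 6])) (.leaf ([8, 5]))) (.leaf ([7, 4])))) (.node (.node (.node (.leaf ([2, 5])) (.leaf ([7, 5]))) (.leaf ([6, 4]))) (.node (.node (.leaf ([6, 3])) (.leaf ([8, 6]))) (.leaf ([6, 5]))))) (.node (.node (.node (.node (.leaf ([4, 3])) (.leaf ([6, 6]))) (.leaf ([5, 5]))) (.node (.node (.leaf ([5, 4])) (.leaf ([8, 5]))) (.leaf ([6, 5])))) (.node (.node (.node (.leaf ([5, 3])) (.leaf ([6, 6]))) (.leaf ([6, 4]))) (.node (.leaf ([4, 5])) (.leaf ([5, 6]))))))) (.node (.node (.node (.node (.node (.node (.leaf ([2, 2])) (.leaf ([8, 4]))) (.leaf ([7, 3]))) (.node (.node (.leaf ([3, 5])) (.leaf ([6, 7]))) (.leaf ([6, 5])))) (.node (.node (.node (.leaf ([3, 4])) (.leaf ([7, 5]))) (.leaf ([7, 3]))) (.node (.node (.leaf ([5, 4])) (.leaf ([9, 5]))) (.leaf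 ([6, 5]))))) (.node (.node (.node (.node (.leaf ([3, 3])) (.leaf ([7, 5]))) (.leaf ([6, 4]))) (.node (.node (.leaf ([4, 5])) (.leaf ([7, 6]))) (.leaf ([6, 5])))) (.node (.node (.node (.leaf ([6, 2])) (.leaf ([6, 6]))) (.leaf ([5, 5]))) (.node (.node (.leaf ([4, 5])) (.leaf ([10, 6]))) (.leaf ([5, 6])))))) (.node (.node (.node (.node (.node (.leaf ([4, 2])) (.leaf ([7, 5]))) (.leaf ([5, 5]))) (.node (.node (.leaf ([7, 2])) (.leaf ([8, 5]))) (.leaf ([6, 5])))) (.node (.node (.node (.leaf ([6, 2])) (.leaf ([6, 6]))) (.leaf ([5, 5]))) (.node (.node (.leaf ([4, 5])) (.leaf ([8, 6]))) (.leaf ([5, 6]))))) (.node (.node (.node (.node (.leaf ([3, 4])) (.leaf ([6, 6]))) (.leaf ([6, 4]))) (.node (.node (.leaf ([5, 4])) (.leaf ([7, 6]))) (.leaf ([4, 7])))) (.node (.node (.node (.leaf ([4, 4])) (.leaf ([6, 6]))) (.leaf ([9, 2]))) (.node (.leaf ([8, 2])) (.leaf ([4, 7]))))))))) (.node (.node (.node (.node (.node (.node (.node (.node (.leaf ([1, 1])) (.leaf ([5, 6])))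 (.leaf ([6, 4]))) (.node (.node (.leaf ([4, 4])) (.leaf ([8, 5]))) (.leaf ([8, 3])))) (.node (.node (.node (.leaf ([4, 3])) (.leaf ([7, 5]))) (.leaf ([5, 5]))) (.node (.node (.leaf ([4, 5])) (.leaf ([5, 8]))) (.leaf ([5, 6]))))) (.node (.node (.node (.node (.leaf ([3, 3])) (.leaf ([8, 4]))) (.leaf ([5, 5]))) (.node (.node (.leaf ([6, 3])) (.leaf ([6, 7]))) (.leaf ([7, 4])))) (.node (.node (.node (.leaf ([6, 2])) (.leaf ([6, 6]))) (.leaf ([5, 5]))) (.node (.node (.leaf ([5, 4])) (.leaf ([6, 8]))) (.leaf ([6, 5])))))) (.node (.node (.node (.node (.node (.leaf ([3, 2])) (.leaf ([8, 4]))) (.leaf ([7, 3]))) (.node (.node (.leaf ([3, 5])) (.leaf ([7, 6]))) (.leaf ([7, 4])))) (.node (.node (.node (.leaf ([3, 4])) (.leaf ([8, 4]))) (.leaf ([7, 3]))) (.node (.node (.leaf ([5, 4])) (.leaf ([9, 5]))) (.leaf ([6, 5]))))) (.node (.node (.node (.node (.leaf ([1, 5])) (.leaf ([7, 5]))) (.leaf ([5, 5]))) (.node (.node (.leaf ([4, 5])) (.leaf ([9, 4]))) (.leaf ([7, 4]))))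 (.node (.node (.node (.leaf ([5, 3])) (.leaf ([4, 8]))) (.leaf ([4, 6]))) (.node (.leaf ([5, 4])) (.leaf ([6, 5]))))))) (.node (.node (.node (.node (.node (.node (.leaf ([2, 2])) (.leaf ([9, 3]))) (.leaf ([5, 5]))) (.node (.node (.leaf ([3, 5])) (.leaf ([8, 5]))) (.leaf ([5, 6])))) (.node (.node (.node (.leaf ([4, 3])) (.leaf ([6, 6]))) (.leaf ([6, 4]))) (.node (.node (.leaf ([4, 5])) (.leaf ([8, 6]))) (.leaf ([7, 4]))))) (.node (.node (.node (.node (.leaf ([2, 4])) (.leaf ([6, 6]))) (.leaf ([5, 5]))) (.node (.node (.leaf ([6, 3])) (.leaf ([7, 6]))) (.leaf ([6, 5])))) (.node (.node (.node (.leaf ([5, 3])) (.leaf ([7, 5]))) (.leaf ([5, 5]))) (.node (.node (.leaf ([5, 4])) (.leaf ([7, 8]))) (.leaf ([6, 5])))))) (.node (.node (.node (.node (.node (.leaf ([1, 4])) (.leaf ([6, 6]))) (.leaf ([6, 4]))) (.node (.node (.leaf ([3, 5])) (.leaf ([8, 5]))) (.leaf ([7, 4])))) (.node (.node (.node (.leaf ([1, 6])) (.leaf ([6, 6]))) (.leaf ([6, 4]))) (.node (.node (.leaf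 ([5, 4])) (.leaf ([9, 5]))) (.leaf ([6, 5]))))) (.node (.node (.node (.node (.leaf ([4, 3])) (.leaf ([7, 5]))) (.leaf ([6, 4]))) (.node (.node (.leaf ([6, 3])) (.leaf ([8, 5]))) (.leaf ([6, 5])))) (.node (.node (.node (.leaf ([3, 5])) (.leaf ([5, 7]))) (.leaf ([4, 6]))) (.node (.leaf ([2, 7])) (.leaf ([5, 6])))))))) (.node (.node (.node (.node (.node (.node (.node (.leaf ([1, 2])) (.leaf ([3, 8]))) (.leaf ([6, 4]))) (.node (.node (.leaf ([4, 4])) (.leaf ([8, 5]))) (.leaf ([7, 4])))) (.node (.node (.node (.leaf ([3, 4])) (.leaf ([7, 5]))) (.leaf ([5, 5]))) (.node (.node (.leaf ([4, 5])) (.leaf ([9, 5]))) (.leaf ([7, 4]))))) (.node (.node (.node (.node (.leaf ([2, 4])) (.leaf ([6, 6]))) (.leaf ([6, 4]))) (.node (.node (.leaf ([7, 2])) (.leaf ([6, 7]))) (.leaf ([6, 5])))) (.node (.node (.node (.leaf ([4, 4])) (.leaf ([7, 5]))) (.leaf ([5, 5]))) (.node (.node (.leaf ([5, 4])) (.leaf ([9, 6]))) (.leaf ([6, 5])))))) (.node (.node (.node (.node (.node (.leaf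 ([2, 3])) (.leaf ([7, 5]))) (.leaf ([6, 4]))) (.node (.node (.leaf ([4, 4])) (.leaf ([8, 5]))) (.leaf ([6, 5])))) (.node (.node (.node (.leaf ([3, 4])) (.leaf ([6, 6]))) (.leaf ([5, 5]))) (.node (.node (.leaf ([5, 4])) (.leaf ([8, 6]))) (.leaf ([5, 6]))))) (.node (.node (.node (.node (.leaf ([5, 2])) (.leaf ([6, 6]))) (.leaf ([5, 5]))) (.node (.node (.leaf ([4, 5])) (.leaf ([7, 6]))) (.leaf ([8, 3])))) (.node (.node (.node (.leaf ([5, 3])) (.leaf ([5, 7]))) (.leaf ([4, 6]))) (.node (.leaf ([4, 5])) (.leaf ([5, 6]))))))) (.node (.node (.node (.node (.node (.node (.leaf ([1, 3])) (.leaf ([7, 5]))) (.leaf ([7, 3]))) (.node (.node (.leaf ([4, 4])) (.leaf ([7, 6]))) (.leaf ([7, 4])))) (.node (.node (.node (.leaf ([3, 4])) (.leaf ([6, 6]))) (.leaf ([6, 4]))) (.node (.node (.leaf ([4, 5])) (.leaf ([8, 6]))) (.leaf ([5, 6]))))) (.node (.node (.node (.node (.leaf ([2, 4])) (.leaf ([8, 4]))) (.leaf ([5, 5]))) (.node (.node (.leaf ([6, 3])) (.leaf ([8, 5]))) (.leaf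 ([5, 6])))) (.node (.node (.node (.leaf ([6, 2])) (.leaf ([5, 7]))) (.leaf ([4, 6]))) (.node (.leaf ([4, 5])) (.leaf ([5, 6])))))) (.node (.node (.node (.node (.node (.leaf ([4, 2])) (.leaf ([8, 4]))) (.leaf ([6, 4]))) (.node (.node (.leaf ([7, 2])) (.leaf ([7, 6]))) (.leaf ([7, 4])))) (.node (.node (.node (.leaf ([6, 2])) (.leaf ([4, 8]))) (.leaf ([5, 5]))) (.node (.node (.leaf ([5, 4])) (.leaf ([8, 6]))) (.leaf ([6, 5]))))) (.node (.node (.node (.node (.leaf ([4, 3])) (.leaf ([8, 4]))) (.leaf ([6, 4]))) (.node (.node (.leaf ([5, 4])) (.leaf ([8, 5]))) (.leaf ([7, 4])))) (.node (.node (.node (.leaf ([3, 5])) (.leaf ([6, 6]))) (.leaf ([7, 4]))) (.node (.leaf ([7, 3])) (.leaf ([5, 6])))))))))) (.node (.node (.node (.node (.node (.node (.node (.node (.node (.leaf ([0, 1])) (.leaf ([6, 5]))) (.leaf ([5, 5]))) (.node (.node (.leaf ([5, 3])) (.leaf ([8, 5]))) (.leaf ([7, 4])))) (.node (.node (.node (.leaf ([4, 3])) (.leaf ([6, 6]))) (.leaf ([5, 5]))) (.node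 (.node (.leaf ([4, 5])) (.leaf ([6, 7]))) (.leaf ([6, 5]))))) (.node (.node (.node (.node (.leaf ([4, 2])) (.leaf ([7, 5]))) (.leaf ([6, 4]))) (.node (.node (.leaf ([6, 3])) (.leaf ([7, 6]))) (.leaf ([7, 4])))) (.node (.node (.node (.leaf ([6, 2])) (.leaf ([6, 6]))) (.leaf ([6, 4]))) (.node (.node (.leaf ([6, 3])) (.leaf ([9, 5]))) (.leaf ([7, 4])))))) (.node (.node (.node (.node (.node (.leaf ([2, 3])) (.leaf ([7, 5]))) (.leaf ([5, 5]))) (.node (.node (.leaf ([3, 5])) (.leaf ([9, 4]))) (.leaf ([8, 3])))) (.node (.node (.node (.leaf ([2, 5])) (.leaf ([6, 6]))) (.leaf ([6, 4]))) (.node (.node (.leaf ([6, 3])) (.leaf ([9, 5]))) (.leaf ([7, 4]))))) (.node (.node (.node (.node (.leaf ([2, 4])) (.leaf ([8, 4]))) (.leaf ([6, 4]))) (.node (.node (.leaf ([6, 3])) (.leaf ([7, 6]))) (.leaf ([8, 3])))) (.node (.node (.node (.leaf ([4, 4])) (.leaf ([7, 5]))) (.leaf ([3, 7]))) (.node (.leaf ([3, 6])) (.leaf ([4, 7]))))))) (.node (.node (.node (.node (.node (.node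 (.leaf ([3, 1])) (.leaf ([8, 4]))) (.leaf ([5, 5]))) (.node (.node (.leaf ([4, 4])) (.leaf ([8, 5]))) (.leaf ([6, 5])))) (.node (.node (.node (.leaf ([3, 4])) (.leaf ([7, 5]))) (.leaf ([3, 7]))) (.node (.node (.leaf ([5, 4])) (.leaf ([9, 5]))) (.leaf ([6, 5]))))) (.node (.node (.node (.node (.leaf ([3, 3])) (.leaf ([7, 5]))) (.leaf ([7, 3]))) (.node (.node (.leaf ([6, 3])) (.leaf ([7, 6]))) (.leaf ([7, 4])))) (.node (.node (.node (.leaf ([4, 4])) (.leaf ([8, 4]))) (.leaf ([5, 5]))) (.node (.node (.leaf ([2, 7])) (.leaf ([9, 6]))) (.leaf ([6, 5])))))) (.node (.node (.node (.node (.node (.leaf ([2, 3])) (.leaf ([7, 5]))) (.leaf ([6, 4]))) (.node (.node (.leaf ([4, 4])) (.leaf ([8, 5]))) (.leaf ([6, 5])))) (.node (.node (.node (.leaf ([2, 5])) (.leaf ([7, 5]))) (.leaf ([4, 6]))) (.node (.node (.leaf ([4, 5])) (.leaf ([7, 7]))) (.leaf ([7, 4]))))) (.node (.node (.node (.node (.leaf ([3, 4])) (.leaf ([7, 5]))) (.leaf ([7, 3]))) (.node (.node (.leaf ([5, 4]))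 (.leaf ([7, 6]))) (.leaf ([6, 5])))) (.node (.node (.node (.leaf ([5, 3])) (.leaf ([6, 6]))) (.leaf ([3, 7]))) (.node (.leaf ([4, 5])) (.leaf ([6, 5])))))))) (.node (.node (.node (.node (.node (.node (.node (.leaf ([1, 2])) (.leaf ([4, 7]))) (.leaf ([5, 5]))) (.node (.node (.leaf ([5, 3])) (.leaf ([7, 6]))) (.leaf ([7, 4])))) (.node (.node (.node (.leaf ([2, 5])) (.leaf ([7, 5]))) (.leaf ([6, 4]))) (.node (.node (.leaf ([5, 4])) (.leaf ([6, 7]))) (.leaf ([5, 6]))))) (.node (.node (.node (.node (.leaf ([3, 3])) (.leaf ([7, 5]))) (.leaf ([7, 3]))) (.node (.node (.leaf ([5, 4])) (.leaf ([7, 6]))) (.leaf ([7, 4])))) (.node (.node (.node (.leaf ([4, 4])) (.leaf ([7, 5]))) (.leaf ([6, 4]))) (.node (.node (.leaf ([4, 5])) (.leaf ([8, 7]))) (.leaf ([4, 7])))))) (.node (.node (.node (.node (.node (.leaf ([3, 2])) (.leaf ([8, 4]))) (.leaf ([6, 4]))) (.node (.node (.leaf ([3, 5])) (.leaf ([7, 6]))) (.leaf ([7, 4])))) (.node (.node (.node (.leaf ([3, 4])) (.leaf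 ([6, 6]))) (.leaf ([6, 4]))) (.node (.node (.leaf ([5, 4])) (.leaf ([8, 6]))) (.leaf ([5, 6]))))) (.node (.node (.node (.node (.leaf ([4, 3])) (.leaf ([6, 6]))) (.leaf ([4, 6]))) (.node (.node (.leaf ([5, 4])) (.leaf ([7, 6]))) (.leaf ([7, 4])))) (.node (.node (.node (.leaf ([4, 4])) (.leaf ([7, 5]))) (.leaf ([5, 5]))) (.node (.leaf ([5, 4])) (.leaf ([6, 5]))))))) (.node (.node (.node (.node (.node (.node (.leaf ([2, 2])) (.leaf ([7, 5]))) (.leaf ([6, 4]))) (.node (.node (.leaf ([2, 6])) (.leaf ([8, 5]))) (.leaf ([6, 5])))) (.node (.node (.node (.leaf ([4, 3])) (.leaf ([6, 6]))) (.leaf ([6, 4]))) (.node (.node (.leaf ([5, 4])) (.leaf ([8, 6]))) (.leaf ([5, 6]))))) (.node (.node (.node (.node (.leaf ([3, 3])) (.leaf ([7, 5]))) (.leaf ([5, 5]))) (.node (.node (.leaf ([5, 4])) (.leaf ([8, 5]))) (.leaf ([6, 5])))) (.node (.node (.node (.leaf ([5, 3])) (.leaf ([6, 6]))) (.leaf ([5, 5]))) (.node (.node (.leaf ([5, 4])) (.leaf ([10, 6]))) (.leaf ([6, 5]))))))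 (.node (.node (.node (.node (.node (.leaf ([3, 3])) (.leaf ([5, 7]))) (.leaf ([5, 5]))) (.node (.node (.leaf ([6, 3])) (.leaf ([8, 5]))) (.leaf ([6, 5])))) (.node (.node (.node (.leaf ([5, 3])) (.leaf ([4, 8]))) (.leaf ([5, 5]))) (.node (.node (.leaf ([4, 5])) (.leaf ([7, 7]))) (.leaf ([5, 6]))))) (.node (.node (.node (.node (.leaf ([4, 3])) (.leaf ([7, 5]))) (.leaf ([6, 4]))) (.node (.node (.leaf ([5, 4])) (.leaf ([7, 6]))) (.leaf ([6, 5])))) (.node (.node (.node (.leaf ([4, 4])) (.leaf ([5, 7]))) (.leaf ([8, 3]))) (.node (.leaf ([7, 3])) (.leaf ([4, 7]))))))))) (.node (.node (.node (.node (.node (.node (.node (.node (.leaf ([0, 2])) (.leaf ([5, 6]))) (.leaf ([6, 4]))) (.node (.node (.leaf ([5, 3])) (.leaf ([8, 5]))) (.leaf ([7, 4])))) (.node (.node (.node (.leaf ([3, 4])) (.leaf ([7, 5]))) (.leaf ([6, 4]))) (.node (.node (.leaf ([4, 5])) (.leaf ([7, 6]))) (.leaf ([6, 5]))))) (.node (.node (.node (.node (.leaf ([3, 3])) (.leaf ([8, 4]))) (.leaf ([7,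 3]))) (.node (.node (.leaf ([5, 4])) (.leaf ([8, 5]))) (.leaf ([7, 4])))) (.node (.node (.node (.leaf ([5, 3])) (.leaf ([6, 6]))) (.leaf ([5, 5]))) (.node (.node (.leaf ([5, 4])) (.leaf ([9, 6]))) (.leaf ([6, 5])))))) (.node (.node (.node (.node (.node (.leaf ([2, 3])) (.leaf ([8, 4]))) (.leaf ([6, 4]))) (.node (.node (.leaf ([4, 4])) (.leaf ([7, 6]))) (.leaf ([6, 5])))) (.node (.node (.node (.leaf ([3, 4])) (.leaf ([6, 6]))) (.leaf ([6, 4]))) (.node (.node (.leaf ([5, 4])) (.leaf ([8, 6]))) (.leaf ([6, 5]))))) (.node (.node (.node (.node (.leaf ([5, 2])) (.leaf ([7, 5]))) (.leaf ([5, 5]))) (.node (.node (.leaf ([4, 5])) (.leaf ([7, 6]))) (.leaf ([6, 5])))) (.node (.node (.node (.leaf ([4, 4])) (.leaf ([5, 7]))) (.leaf ([3, 7]))) (.node (.leaf ([3, 6])) (.leaf ([6, 5]))))))) (.node (.node (.node (.node (.node (.node (.leaf ([3, 1])) (.leaf ([7, 5]))) (.leaf ([8, 2]))) (.node (.node (.leaf ([3, 5])) (.leaf ([7, 6]))) (.leaf ([5, 6])))) (.node (.node (.node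 (.leaf ([3, 4])) (.leaf ([7, 5]))) (.leaf ([6, 4]))) (.node (.node (.leaf ([4, 5])) (.leaf ([8, 6]))) (.leaf ([6, 5]))))) (.node (.node (.node (.node (.leaf ([3, 3])) (.leaf ([8, 4]))) (.leaf ([6, 4]))) (.node (.node (.leaf ([5, 4])) (.leaf ([8, 5]))) (.leaf ([7, 4])))) (.node (.node (.node (.leaf ([4, 4])) (.leaf ([6, 6]))) (.leaf ([6, 4]))) (.node (.node (.leaf ([4, 5])) (.leaf ([7, 8]))) (.leaf ([7, 4])))))) (.node (.node (.node (.node (.node (.leaf ([1, 4])) (.leaf ([7, 5]))) (.leaf ([6, 4]))) (.node (.node (.leaf ([7, 2])) (.leaf ([7, 6]))) (.leaf ([6, 5])))) (.node (.node (.node (.leaf ([6, 2])) (.leaf ([6, 6]))) (.leaf ([5, 5]))) (.node (.node (.leaf ([5, 4])) (.leaf ([8, 6]))) (.leaf ([6, 5]))))) (.node (.node (.node (.node (.leaf ([3, 4])) (.leaf ([6, 6]))) (.leaf ([6, 4]))) (.node (.node (.leaf ([5, 4])) (.leaf ([8, 5]))) (.leaf ([6, 5])))) (.node (.node (.node (.leaf ([3, 5])) (.leaf ([6, 6]))) (.leaf ([4, 6]))) (.node (.leaf ([3, 6])) (.leaf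 ([5, 6])))))))) (.node (.node (.node (.node (.node (.node (.node (.leaf ([0, 3])) (.leaf ([3, 8]))) (.leaf ([6, 4]))) (.node (.node (.leaf ([4, 4])) (.leaf ([9, 4]))) (.leaf ([7, 4])))) (.node (.node (.node (.leaf ([2, 5])) (.leaf ([6, 6]))) (.leaf ([5, 5]))) (.node (.node (.leaf ([5, 4])) (.leaf ([9, 5]))) (.leaf ([7, 4]))))) (.node (.node (.node (.node (.leaf ([2, 4])) (.leaf ([8, 4]))) (.leaf ([6, 4]))) (.node (.node (.leaf ([6, 3])) (.leaf ([8, 5]))) (.leaf ([7, 4])))) (.node (.node (.node (.leaf ([5, 3])) (.leaf ([6, 6]))) (.leaf ([5, 5]))) (.node (.node (.leaf ([4, 5])) (.leaf ([10, 5]))) (.leaf ([5, 6])))))) (.node (.node (.node (.node (.node (.leaf ([2, 3])) (.leaf ([6, 6]))) (.leaf ([6, 4]))) (.node (.node (.leaf ([4, 4])) (.leaf ([6, 7]))) (.leaf ([6, 5])))) (.node (.node (.node (.leaf ([3, 4])) (.leaf ([5, 7]))) (.leaf ([4, 6]))) (.node (.node (.leaf ([6, 3])) (.leaf ([8, 6]))) (.leaf ([3, 8]))))) (.node (.node (.node (.node (.leaf ([4, 3]))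 (.leaf ([4, 8]))) (.leaf ([4, 6]))) (.node (.node (.leaf ([7, 2])) (.leaf ([6, 7]))) (.leaf ([7, 4])))) (.node (.node (.node (.leaf ([5, 3])) (.leaf ([6, 6]))) (.leaf ([4, 6]))) (.node (.leaf ([5, 4])) (.leaf ([5, 6]))))))) (.node (.node (.node (.node (.node (.node (.leaf ([3, 2])) (.leaf ([8, 4]))) (.leaf ([6, 4]))) (.node (.node (.leaf ([3, 5])) (.leaf ([7, 6]))) (.leaf ([5, 6])))) (.node (.node (.node (.leaf ([2, 5])) (.leaf ([7, 5]))) (.leaf ([5, 5]))) (.node (.node (.leaf ([5, 4])) (.leaf ([9, 5]))) (.leaf ([4, 7]))))) (.node (.node (.node (.node (.leaf ([2, 4])) (.leaf ([8, 4]))) (.leaf ([4, 6]))) (.node (.node (.leaf ([6, 3])) (.leaf ([7, 6]))) (.leaf ([8, 3])))) (.node (.node (.node (.leaf ([5, 3])) (.leaf ([6, 6]))) (.leaf ([3, 7]))) (.node (.leaf ([4, 5])) (.leaf ([5, 6])))))) (.node (.node (.node (.node (.node (.leaf ([3, 3])) (.leaf ([9, 3]))) (.leaf ([6, 4]))) (.node (.node (.leaf ([5, 4])) (.leaf ([8, 5]))) (.leaf ([6, 5])))) (.node (.node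 (.node (.leaf ([5, 3])) (.leaf ([8, 4]))) (.leaf ([5, 5]))) (.node (.node (.leaf ([4, 5])) (.leaf ([6, 8]))) (.leaf ([6, 5]))))) (.node (.node (.node (.node (.leaf ([3, 4])) (.leaf ([7, 5]))) (.leaf ([5, 5]))) (.node (.node (.leaf ([5, 4])) (.leaf ([8, 5]))) (.leaf ([7, 4])))) (.node (.node (.node (.leaf ([6, 2])) (.leaf ([8, 5]))) (.leaf ([7, 4]))) (.node (.leaf ([7, 3])) (.leaf ([3, 8]))))))))))) (.node (.node (.node (.node (.node (.node (.node (.node (.node (.node (.leaf ([1])) (.leaf ([5, 6]))) (.leaf ([6, 4]))) (.node (.node (.leaf ([4, 4])) (.leaf ([9, 4]))) (.leaf ([7, 4])))) (.node (.node (.node (.leaf ([3, 4])) (.leaf ([7, 5]))) (.leaf ([6, 4]))) (.node (.node (.leaf ([5, 4])) (.leaf ([6, 7]))) (.leaf ([6, 5]))))) (.node (.node (.node (.node (.leaf ([3, 3])) (.leaf ([7, 5]))) (.leaf ([4, 6]))) (.node (.node (.leaf ([6, 3])) (.leaf ([7, 6]))) (.leaf ([8, 3])))) (.node (.node (.node (.leaf ([4, 4])) (.leaf ([7, 5]))) (.leaf ([3, 7]))) (.node (.node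 (.leaf ([4, 5])) (.leaf ([8, 6]))) (.leaf ([6, 5])))))) (.node (.node (.node (.node (.node (.leaf ([3, 2])) (.leaf ([7, 5]))) (.leaf ([6, 4]))) (.node (.node (.leaf ([4, 4])) (.leaf ([9, 4]))) (.leaf ([7, 4])))) (.node (.node (.node (.leaf ([3, 4])) (.leaf ([7, 5]))) (.leaf ([4, 6]))) (.node (.node (.leaf ([3, 6])) (.leaf ([7, 7]))) (.leaf ([3, 8]))))) (.node (.node (.node (.node (.leaf ([3, 3])) (.leaf ([7, 5]))) (.leaf ([7, 3]))) (.node (.node (.leaf ([4, 5])) (.leaf ([7, 6]))) (.leaf ([6, 5])))) (.node (.node (.node (.leaf ([4, 4])) (.leaf ([8, 4]))) (.leaf ([4, 6]))) (.node (.leaf ([4, 5])) (.leaf ([5, 6]))))))) (.node (.node (.node (.node (.node (.node (.leaf ([2, 2])) (.leaf ([9, 3]))) (.leaf ([6, 4]))) (.node (.node (.leaf ([5, 3])) (.leaf ([9, 4]))) (.leaf ([7, 4])))) (.node (.node (.node (.leaf ([4, 3])) (.leaf ([7, 5]))) (.leaf ([4, 6]))) (.node (.node (.leaf ([4, 5])) (.leaf ([10, 4]))) (.leaf ([6, 5]))))) (.node (.node (.node (.node (.leaf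 ([4, 2])) (.leaf ([7, 5]))) (.leaf ([6, 4]))) (.node (.node (.leaf ([5, 4])) (.leaf ([8, 5]))) (.leaf ([4, 7])))) (.node (.node (.node (.leaf ([4, 4])) (.leaf ([7, 5]))) (.leaf ([5, 5]))) (.node (.node (.leaf ([3, 6])) (.leaf ([8, 7]))) (.leaf ([6, 5])))))) (.node (.node (.node (.node (.node (.leaf ([3, 2])) (.leaf ([8, 4]))) (.leaf ([6, 4]))) (.node (.node (.leaf ([2, 6])) (.leaf ([9, 4]))) (.leaf ([7, 4])))) (.node (.node (.node (.leaf ([3, 4])) (.leaf ([4, 8]))) (.leaf ([5, 5]))) (.node (.node (.leaf ([5, 4])) (.leaf ([8, 6]))) (.leaf ([7, 4]))))) (.node (.node (.node (.node (.leaf ([4, 3])) (.leaf ([7, 5]))) (.leaf ([3, 7]))) (.node (.node (.leaf ([6, 3])) (.leaf ([8, 5]))) (.leaf ([7, 4])))) (.node (.node (.node (.leaf ([3, 5])) (.leaf ([5, 7]))) (.leaf ([4, 6]))) (.node (.leaf ([3, 6])) (.leaf ([7, 4])))))))) (.node (.node (.node (.node (.node (.node (.node (.leaf ([2, 1])) (.leaf ([4, 7]))) (.leaf ([6, 4]))) (.node (.node (.leaf ([4, 4])) (.leaf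 ([8, 5]))) (.leaf ([7, 4])))) (.node (.node (.node (.leaf ([3, 4])) (.leaf ([6, 6]))) (.leaf ([4, 6]))) (.node (.node (.leaf ([6, 3])) (.leaf ([5, 8]))) (.leaf ([6, 5]))))) (.node (.node (.node (.node (.leaf ([4, 2])) (.leaf ([7, 5]))) (.leaf ([7, 3]))) (.node (.node (.leaf ([5, 4])) (.leaf ([8, 5]))) (.leaf ([6, 5])))) (.node (.node (.node (.leaf ([5, 3])) (.leaf ([5, 7]))) (.leaf ([3, 7]))) (.node (.node (.leaf ([4, 5])) (.leaf ([8, 7]))) (.leaf ([5, 6])))))) (.node (.node (.node (.node (.node (.leaf ([2, 3])) (.leaf ([8, 4]))) (.leaf ([5, 5]))) (.node (.node (.leaf ([4, 4])) (.leaf ([8, 5]))) (.leaf ([6, 5])))) (.node (.node (.node (.leaf ([4, 3])) (.leaf ([6, 6]))) (.leaf ([6, 4]))) (.node (.node (.leaf ([5, 4])) (.leaf ([10, 4]))) (.leaf ([5, 6]))))) (.node (.node (.node (.node (.leaf ([5, 2])) (.leaf ([6, 6]))) (.leaf ([5, 5]))) (.node (.node (.leaf ([4, 5])) (.leaf ([6, 7]))) (.leaf ([5, 6])))) (.node (.node (.node (.leaf ([4, 4])) (.leaf ([6,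 6]))) (.leaf ([5, 5]))) (.node (.leaf ([2, 7])) (.leaf ([4, 7]))))))) (.node (.node (.node (.node (.node (.node (.leaf ([1, 3])) (.leaf ([8, 4]))) (.leaf ([7, 3]))) (.node (.node (.leaf ([4, 4])) (.leaf ([5, 8]))) (.leaf ([6, 5])))) (.node (.node (.node (.leaf ([3, 4])) (.leaf ([7, 5]))) (.leaf ([6, 4]))) (.node (.node (.leaf ([4, 5])) (.leaf ([8, 6]))) (.leaf ([6, 5]))))) (.node (.node (.node (.node (.leaf ([2, 4])) (.leaf ([6, 6]))) (.leaf ([5, 5]))) (.node (.node (.leaf ([6, 3])) (.leaf ([6, 7]))) (.leaf ([5, 6])))) (.node (.node (.node (.leaf ([5, 3])) (.leaf ([6, 6]))) (.leaf ([5, 5]))) (.node (.node (.leaf ([4, 5])) (.leaf ([10, 6]))) (.leaf ([6, 5])))))) (.node (.node (.node (.node (.node (.leaf ([4, 2])) (.leaf ([6, 6]))) (.leaf ([4, 6]))) (.node (.node (.leaf ([6, 3])) (.leaf ([7, 6]))) (.leaf ([6, 5])))) (.node (.node (.node (.leaf ([5, 3])) (.leaf ([5, 7]))) (.leaf ([6, 4]))) (.node (.node (.leaf ([4, 5])) (.leaf ([7, 7]))) (.leaf ([6, 5])))))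 (.node (.node (.node (.node (.leaf ([5, 2])) (.leaf ([4, 8]))) (.leaf ([5, 5]))) (.node (.node (.leaf ([6, 3])) (.leaf ([6, 7]))) (.leaf ([7, 4])))) (.node (.node (.node (.leaf ([3, 5])) (.leaf ([7, 5]))) (.leaf ([8, 3]))) (.node (.leaf ([7, 3])) (.leaf ([3, 8]))))))))) (.node (.node (.node (.node (.node (.node (.node (.node (.leaf ([1, 1])) (.leaf ([5, 6]))) (.leaf ([7, 3]))) (.node (.node (.leaf ([5, 3])) (.leaf ([8, 5]))) (.leaf ([7, 4])))) (.node (.node (.node (.leaf ([4, 3])) (.leaf ([6, 6]))) (.leaf ([3, 7]))) (.node (.node (.leaf ([5, 4])) (.leaf ([7, 6]))) (.leaf ([7, 4]))))) (.node (.node (.node (.node (.leaf ([4, 2])) (.leaf ([7, 5]))) (.leaf ([4, 6]))) (.node (.node (.leaf ([5, 4])) (.leaf ([5, 8]))) (.leaf ([6, 5])))) (.node (.node (.node (.leaf ([5, 3])) (.leaf ([7, 5]))) (.leaf ([4, 6]))) (.node (.node (.leaf ([4, 5])) (.leaf ([10, 5]))) (.leaf ([5, 6])))))) (.node (.node (.node (.node (.node (.leaf ([3, 2])) (.leaf ([9, 3]))) (.leaf ([6,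 4]))) (.node (.node (.leaf ([4, 4])) (.leaf ([9, 4]))) (.leaf ([6, 5])))) (.node (.node (.node (.leaf ([4, 3])) (.leaf ([6, 6]))) (.leaf ([6, 4]))) (.node (.node (.leaf ([6, 3])) (.leaf ([8, 6]))) (.leaf ([5, 6]))))) (.node (.node (.node (.node (.leaf ([6, 1])) (.leaf ([7, 5]))) (.leaf ([6, 4]))) (.node (.node (.leaf ([5, 4])) (.leaf ([7, 6]))) (.leaf ([7, 4])))) (.node (.node (.node (.leaf ([4, 4])) (.leaf ([6, 6]))) (.leaf ([4, 6]))) (.node (.leaf ([4, 5])) (.leaf ([5, 6]))))))) (.node (.node (.node (.node (.node (.node (.leaf ([1, 3])) (.leaf ([8, 4]))) (.leaf ([4, 6]))) (.node (.node (.leaf ([4, 4])) (.leaf ([7, 6]))) (.leaf ([6, 5])))) (.node (.node (.node (.leaf ([4, 3])) (.leaf ([8, 4]))) (.leaf ([7, 3]))) (.node (.node (.leaf ([3, 6])) (.leaf ([8, 6]))) (.leaf ([6, 5]))))) (.node (.node (.node (.node (.leaf ([4, 2])) (.leaf ([6, 6]))) (.leaf ([6, 4]))) (.node (.node (.leaf ([6, 3])) (.leaf ([6, 7]))) (.leaf ([5, 6])))) (.node (.node (.node (.leaf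 ([4, 4])) (.leaf ([7, 5]))) (.leaf ([6, 4]))) (.node (.node (.leaf ([5, 4])) (.leaf ([10, 5]))) (.leaf ([5, 6])))))) (.node (.node (.node (.node (.node (.leaf ([2, 3])) (.leaf ([6, 6]))) (.leaf ([5, 5]))) (.node (.node (.leaf ([2, 6])) (.leaf ([7, 6]))) (.leaf ([7, 4])))) (.node (.node (.node (.leaf ([6, 2])) (.leaf ([7, 5]))) (.leaf ([5, 5]))) (.node (.node (.leaf ([5, 4])) (.leaf ([8, 6]))) (.leaf ([6, 5]))))) (.node (.node (.node (.node (.leaf ([4, 3])) (.leaf ([6, 6]))) (.leaf ([5, 5]))) (.node (.node (.leaf ([6, 3])) (.leaf ([8, 5]))) (.leaf ([6, 5])))) (.node (.node (.node (.leaf ([4, 4])) (.leaf ([5, 7]))) (.leaf ([3, 7]))) (.node (.leaf ([4, 5])) (.leaf ([5, 6])))))))) (.node (.node (.node (.node (.node (.node (.node (.leaf ([1, 2])) (.leaf ([4, 7]))) (.leaf ([5, 5]))) (.node (.node (.leaf ([3, 5])) (.leaf ([8, 5]))) (.leaf ([6, 5])))) (.node (.node (.node (.leaf ([3, 4])) (.leaf ([7, 5]))) (.leaf ([4, 6]))) (.node (.node (.leaf ([5, 4])) (.leaf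 ([9, 5]))) (.leaf ([6, 5]))))) (.node (.node (.node (.node (.leaf ([3, 3])) (.leaf ([7, 5]))) (.leaf ([5, 5]))) (.node (.node (.leaf ([6, 3])) (.leaf ([5, 8]))) (.leaf ([5, 6])))) (.node (.node (.node (.leaf ([5, 3])) (.leaf ([7, 5]))) (.leaf ([6, 4]))) (.node (.node (.leaf ([4, 5])) (.leaf ([8, 7]))) (.leaf ([5, 6])))))) (.node (.node (.node (.node (.node (.leaf ([3, 2])) (.leaf ([6, 6]))) (.leaf ([7, 3]))) (.node (.node (.leaf ([3, 5])) (.leaf ([7, 6]))) (.leaf ([7, 4])))) (.node (.node (.node (.leaf ([2, 5])) (.leaf ([5, 7]))) (.leaf ([5, 5]))) (.node (.node (.leaf ([4, 5])) (.leaf ([7, 7]))) (.leaf ([5, 6]))))) (.node (.node (.node (.node (.leaf ([5, 2])) (.leaf ([5, 7]))) (.leaf ([5, 5]))) (.node (.node (.leaf ([3, 6])) (.leaf ([7, 6]))) (.leaf ([7, 4])))) (.node (.node (.node (.leaf ([4, 4])) (.leaf ([5, 7]))) (.leaf ([5, 5]))) (.node (.leaf ([3, 6])) (.leaf ([6, 5]))))))) (.node (.node (.node (.node (.node (.node (.leaf ([4, 1])) (.leaf ([9, 3])))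 (.leaf ([6, 4]))) (.node (.node (.leaf ([4, 4])) (.leaf ([7, 6]))) (.leaf ([5, 6])))) (.node (.node (.node (.leaf ([3, 4])) (.leaf ([6, 6]))) (.leaf ([6, 4]))) (.node (.node (.leaf ([3, 6])) (.leaf ([9, 5]))) (.leaf ([5, 6]))))) (.node (.node (.node (.node (.leaf ([3, 3])) (.leaf ([7, 5]))) (.leaf ([5, 5]))) (.node (.node (.leaf ([5, 4])) (.leaf ([7, 6]))) (.leaf ([4, 7])))) (.node (.node (.node (.leaf ([5, 3])) (.leaf ([5, 7]))) (.leaf ([4, 6]))) (.node (.leaf ([5, 4])) (.leaf ([5, 6])))))) (.node (.node (.node (.node (.node (.leaf ([4, 2])) (.leaf ([7, 5]))) (.leaf ([5, 5]))) (.node (.node (.leaf ([6, 3])) (.leaf ([7, 6]))) (.leaf ([6, 5])))) (.node (.node (.node (.leaf ([5, 3])) (.leaf ([3, 9]))) (.leaf ([5, 5]))) (.node (.node (.leaf ([4, 5])) (.leaf ([8, 6]))) (.leaf ([7, 4]))))) (.node (.node (.node (.node (.leaf ([4, 3])) (.leaf ([7, 5]))) (.leaf ([5, 5]))) (.node (.node (.leaf ([4, 5])) (.leaf ([8, 5]))) (.leaf ([6, 5])))) (.node (.node (.node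 (.leaf ([2, 6])) (.leaf ([3, 9]))) (.leaf ([7, 4]))) (.node (.leaf ([6, 4])) (.leaf ([4, 7])))))))))) (.node (.node (.node (.node (.node (.node (.node (.node (.node (.leaf ([2])) (.leaf ([5, 6]))) (.leaf ([7, 3]))) (.node (.node (.leaf ([4, 4])) (.leaf ([8, 5]))) (.leaf ([6, 5])))) (.node (.node (.node (.leaf ([3, 4])) (.leaf ([8, 4]))) (.leaf ([4, 6]))) (.node (.node (.leaf ([5, 4])) (.leaf ([6, 7]))) (.leaf ([5, 6]))))) (.node (.node (.node (.node (.leaf ([4, 2])) (.leaf ([8, 4]))) (.leaf ([4, 6]))) (.node (.node (.leaf ([5, 4])) (.leaf ([7, 6]))) (.leaf ([7, 4])))) (.node (.node (.node (.leaf ([5, 3])) (.leaf ([7, 5]))) (.leaf ([5, 5]))) (.node (.node (.leaf ([5, 4])) (.leaf ([6, 8]))) (.leaf ([6, 5])))))) (.node (.node (.node (.node (.node (.leaf ([4, 1])) (.leaf ([6, 6]))) (.leaf ([6, 4]))) (.node (.node (.leaf ([4, 4])) (.leaf ([8, 5]))) (.leaf ([8, 3])))) (.node (.node (.node (.leaf ([4, 3])) (.leaf ([5, 7]))) (.leaf ([5, 5]))) (.node (.node (.leaf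 ([6, 3])) (.leaf ([8, 6]))) (.leaf ([6, 5]))))) (.node (.node (.node (.node (.leaf ([2, 4])) (.leaf ([7, 5]))) (.leaf ([6, 4]))) (.node (.node (.leaf ([5, 4])) (.leaf ([7, 6]))) (.leaf ([7, 4])))) (.node (.node (.node (.leaf ([5, 3])) (.leaf ([6, 6]))) (.leaf ([5, 5]))) (.node (.leaf ([4, 5])) (.leaf ([6, 5]))))))) (.node (.node (.node (.node (.node (.node (.leaf ([2, 2])) (.leaf ([9, 3]))) (.leaf ([6, 4]))) (.node (.node (.leaf ([4, 4])) (.leaf ([8, 5]))) (.leaf ([6, 5])))) (.node (.node (.node (.leaf ([5, 2])) (.leaf ([6, 6]))) (.leaf ([7, 3]))) (.node (.node (.leaf ([5, 4])) (.leaf ([9, 5]))) (.leaf ([7, 4]))))) (.node (.node (.node (.node (.leaf ([3, 3])) (.leaf ([7, 5]))) (.leaf ([6, 4]))) (.node (.node (.leaf ([5, 4])) (.leaf ([7, 6]))) (.leaf ([6, 5])))) (.node (.node (.node (.leaf ([3, 5])) (.leaf ([7, 5]))) (.leaf ([6, 4]))) (.node (.node (.leaf ([6, 3])) (.leaf ([9, 6]))) (.leaf ([5, 6])))))) (.node (.node (.node (.node (.node (.leaf ([2, 3]))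 (.leaf ([7, 5]))) (.leaf ([5, 5]))) (.node (.node (.leaf ([2, 6])) (.leaf ([8, 5]))) (.leaf ([8, 3])))) (.node (.node (.node (.leaf ([2, 5])) (.leaf ([7, 5]))) (.leaf ([3, 7]))) (.node (.node (.leaf ([6, 3])) (.leaf ([8, 6]))) (.leaf ([7, 4]))))) (.node (.node (.node (.node (.leaf ([5, 2])) (.leaf ([6, 6]))) (.leaf ([6, 4]))) (.node (.node (.leaf ([5, 4])) (.leaf ([4, 9]))) (.leaf ([6, 5])))) (.node (.node (.node (.leaf ([4, 4])) (.leaf ([6, 6]))) (.leaf ([4, 6]))) (.node (.leaf ([3, 6])) (.leaf ([6, 5])))))))) (.node (.node (.node (.node (.node (.node (.node (.leaf ([2, 1])) (.leaf ([3, 8]))) (.leaf ([7, 3]))) (.node (.node (.leaf ([4, 4])) (.leaf ([9, 4]))) (.leaf ([8, 3])))) (.node (.node (.node (.leaf ([4, 3])) (.leaf ([6, 6]))) (.leaf ([4, 6]))) (.node (.node (.leaf ([5, 4])) (.leaf ([6, 7]))) (.leaf ([5, 6]))))) (.node (.node (.node (.node (.leaf ([3, 3])) (.leaf ([7, 5]))) (.leaf ([6, 4]))) (.node (.node (.leaf ([4, 5])) (.leaf ([7, 6]))) (.leaf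 ([6, 5])))) (.node (.node (.node (.leaf ([5, 3])) (.leaf ([8, 4]))) (.leaf ([6, 4]))) (.node (.node (.leaf ([3, 6])) (.leaf ([9, 6]))) (.leaf ([4, 7])))))) (.node (.node (.node (.node (.node (.leaf ([3, 2])) (.leaf ([7, 5]))) (.leaf ([5, 5]))) (.node (.node (.leaf ([2, 6])) (.leaf ([8, 5]))) (.leaf ([7, 4])))) (.node (.node (.node (.leaf ([2, 5])) (.leaf ([6, 6]))) (.leaf ([5, 5]))) (.node (.node (.leaf ([4, 5])) (.leaf ([8, 6]))) (.leaf ([4, 7]))))) (.node (.node (.node (.node (.leaf ([4, 3])) (.leaf ([5, 7]))) (.leaf ([6, 4]))) (.node (.node (.leaf ([4, 5])) (.leaf ([7, 6]))) (.leaf ([6, 5])))) (.node (.node (.node (.leaf ([3, 5])) (.leaf ([6, 6]))) (.leaf ([4, 6]))) (.node (.leaf ([4, 5])) (.leaf ([7, 4]))))))) (.node (.node (.node (.node (.node (.node (.leaf ([1, 3])) (.leaf ([8, 4]))) (.leaf ([6, 4]))) (.node (.node (.leaf ([5, 3])) (.leaf ([8, 5]))) (.leaf ([5, 6])))) (.node (.node (.node (.leaf ([4, 3])) (.leaf ([6, 6]))) (.leaf ([5, 5]))) (.node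 (.node (.leaf ([4, 5])) (.leaf ([8, 6]))) (.leaf ([5, 6]))))) (.node (.node (.node (.node (.leaf ([3, 3])) (.leaf ([6, 6]))) (.leaf ([6, 4]))) (.node (.node (.leaf ([5, 4])) (.leaf ([7, 6]))) (.leaf ([6, 5])))) (.node (.node (.node (.leaf ([4, 4])) (.leaf ([6, 6]))) (.leaf ([5, 5]))) (.node (.node (.leaf ([5, 4])) (.leaf ([8, 8]))) (.leaf ([6, 5])))))) (.node (.node (.node (.node (.node (.leaf ([5, 1])) (.leaf ([8, 4]))) (.leaf ([4, 6]))) (.node (.node (.leaf ([5, 4])) (.leaf ([6, 7]))) (.leaf ([5, 6])))) (.node (.node (.node (.leaf ([4, 4])) (.leaf ([5, 7]))) (.leaf ([6, 4]))) (.node (.node (.leaf ([3, 6])) (.leaf ([8, 6]))) (.leaf ([8, 3]))))) (.node (.node (.node (.node (.leaf ([5, 2])) (.leaf ([8, 4]))) (.leaf ([5, 5]))) (.node (.node (.leaf ([5, 4])) (.leaf ([6, 7]))) (.leaf ([6, 5])))) (.node (.node (.node (.leaf ([3, 5])) (.leaf ([6, 6]))) (.leaf ([8, 3]))) (.node (.leaf ([6, 4])) (.leaf ([3, 8]))))))))) (.node (.node (.node (.node (.node (.node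 (.node (.node (.leaf ([3])) (.leaf ([5, 6]))) (.leaf ([7, 3]))) (.node (.node (.leaf ([4, 4])) (.leaf ([9, 4]))) (.leaf ([6, 5])))) (.node (.node (.node (.leaf ([4, 3])) (.leaf ([7, 5]))) (.leaf ([5, 5]))) (.node (.node (.leaf ([5, 4])) (.leaf ([6, 7]))) (.leaf ([6, 5]))))) (.node (.node (.node (.node (.leaf ([3, 3])) (.leaf ([7, 5]))) (.leaf ([7, 3]))) (.node (.node (.leaf ([4, 5])) (.leaf ([8, 5]))) (.leaf ([6, 5])))) (.node (.node (.node (.leaf ([4, 4])) (.leaf ([6, 6]))) (.leaf ([4, 6]))) (.node (.node (.leaf ([4, 5])) (.leaf ([10, 5]))) (.leaf ([5, 6])))))) (.node (.node (.node (.node (.node (.leaf ([3, 2])) (.leaf ([8, 4]))) (.leaf ([5, 5]))) (.node (.node (.leaf ([3, 5])) (.leaf ([8, 5]))) (.leaf ([8, 3])))) (.node (.node (.node (.leaf ([3, 4])) (.leaf ([7, 5]))) (.leaf ([5, 5]))) (.node (.node (.leaf ([4, 5])) (.leaf ([7, 7]))) (.leaf ([5, 6]))))) (.node (.node (.node (.node (.leaf ([5, 2])) (.leaf ([7, 5]))) (.leaf ([5, 5]))) (.node (.node (.leaf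 ([5, 4])) (.leaf ([7, 6]))) (.leaf ([6, 5])))) (.node (.node (.node (.leaf ([3, 5])) (.leaf ([6, 6]))) (.leaf ([2, 8]))) (.node (.leaf ([4, 5])) (.leaf ([6, 5]))))))) (.node (.node (.node (.node (.node (.node (.leaf ([2, 2])) (.leaf ([7, 5]))) (.leaf ([7, 3]))) (.node (.node (.leaf ([4, 4])) (.leaf ([6, 7]))) (.leaf ([7, 4])))) (.node (.node (.node (.leaf ([4, 3])) (.leaf ([7, 5]))) (.leaf ([5, 5]))) (.node (.node (.leaf ([3, 6])) (.leaf ([8, 6]))) (.leaf ([6, 5]))))) (.node (.node (.node (.node (.leaf ([2, 4])) (.leaf ([7, 5]))) (.leaf ([6, 4]))) (.node (.node (.leaf ([5, 4])) (.leaf ([8, 5]))) (.leaf ([5, 6])))) (.node (.node (.node (.leaf ([3, 5])) (.leaf ([7, 5]))) (.leaf ([5, 5]))) (.node (.node (.leaf ([5, 4])) (.leaf ([11, 5]))) (.leaf ([6, 5])))))) (.node (.node (.node (.node (.node (.leaf ([5, 1])) (.leaf ([6, 6]))) (.leaf ([6, 4]))) (.node (.node (.leaf ([6, 3])) (.leaf ([7, 6]))) (.leaf ([7, 4])))) (.node (.node (.node (.leaf ([5, 3])) (.leaf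 ([6, 6]))) (.leaf ([6, 4]))) (.node (.node (.leaf ([5, 4])) (.leaf ([9, 5]))) (.leaf ([5, 6]))))) (.node (.node (.node (.node (.leaf ([4, 3])) (.leaf ([6, 6]))) (.leaf ([5, 5]))) (.node (.node (.leaf ([6, 3])) (.leaf ([7, 6]))) (.leaf ([5, 6])))) (.node (.node (.node (.leaf ([4, 4])) (.leaf ([5, 7]))) (.leaf ([2, 8]))) (.node (.leaf ([2, 7])) (.leaf ([5, 6])))))))) (.node (.node (.node (.node (.node (.node (.node (.leaf ([3, 1])) (.leaf ([2, 9]))) (.leaf ([5, 5]))) (.node (.node (.leaf ([3, 5])) (.leaf ([8, 5]))) (.leaf ([7, 4])))) (.node (.node (.node (.leaf ([5, 2])) (.leaf ([5, 7]))) (.leaf ([4, 6]))) (.node (.node (.leaf ([4, 5])) (.leaf ([8, 6]))) (.leaf ([6, 5]))))) (.node (.node (.node (.node (.leaf ([4, 2])) (.leaf ([7, 5]))) (.leaf ([5, 5]))) (.node (.node (.leaf ([5, 4])) (.leaf ([8, 5]))) (.leaf ([5, 6])))) (.node (.node (.node (.leaf ([4, 4])) (.leaf ([6, 6]))) (.leaf ([6, 4]))) (.node (.node (.leaf ([3, 6])) (.leaf ([10, 5]))) (.leaf ([4,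 7])))))) (.node (.node (.node (.node (.node (.leaf ([2, 3])) (.leaf ([7, 5]))) (.leaf ([6, 4]))) (.node (.node (.leaf ([3, 5])) (.leaf ([8, 5]))) (.leaf ([6, 5])))) (.node (.node (.node (.leaf ([3, 4])) (.leaf ([4, 8]))) (.leaf ([4, 6]))) (.node (.node (.leaf ([5, 4])) (.leaf ([8, 6]))) (.leaf ([8, 3]))))) (.node (.node (.node (.node (.leaf ([5, 2])) (.leaf ([8, 4]))) (.leaf ([5, 5]))) (.node (.node (.leaf ([6, 3])) (.leaf ([6, 7]))) (.leaf ([6, 5])))) (.node (.node (.node (.leaf ([4, 4])) (.leaf ([6, 6]))) (.leaf ([5, 5]))) (.node (.leaf ([3, 6])) (.leaf ([5, 6]))))))) (.node (.node (.node (.node (.node (.node (.leaf ([4, 1])) (.leaf ([7, 5]))) (.leaf ([7, 3]))) (.node (.node (.leaf ([5, 3])) (.leaf ([5, 8]))) (.leaf ([8, 3])))) (.node (.node (.node (.leaf ([4, 3])) (.leaf ([7, 5]))) (.leaf ([5, 5]))) (.node (.node (.leaf ([3, 6])) (.leaf ([8, 6]))) (.leaf ([5, 6]))))) (.node (.node (.node (.node (.leaf ([2, 4])) (.leaf ([8, 4]))) (.leaf ([6, 4])))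 (.node (.node (.leaf ([5, 4])) (.leaf ([7, 6]))) (.leaf ([7, 4])))) (.node (.node (.node (.leaf ([4, 4])) (.leaf ([6, 6]))) (.leaf ([6, 4]))) (.node (.leaf ([5, 4])) (.leaf ([5, 6])))))) (.node (.node (.node (.node (.node (.leaf ([4, 2])) (.leaf ([8, 4]))) (.leaf ([5, 5]))) (.node (.node (.leaf ([6, 3])) (.leaf ([8, 5]))) (.leaf ([5, 6])))) (.node (.node (.node (.leaf ([4, 4])) (.leaf ([7, 5]))) (.leaf ([4, 6]))) (.node (.node (.leaf ([3, 6])) (.leaf ([7, 7]))) (.leaf ([5, 6]))))) (.node (.node (.node (.node (.leaf ([5, 2])) (.leaf ([6, 6]))) (.leaf ([4, 6]))) (.node (.node (.leaf ([6, 3])) (.leaf ([7, 6]))) (.leaf ([6, 5])))) (.node (.node (.node (.leaf ([5, 3])) (.leaf ([9, 4]))) (.leaf ([7, 4]))) (.node (.leaf ([6, 4])) (.leaf ([6, 5])))))))))))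

/-- the table -/
def table0 : Table where
  size := 1500
  ngen := 2
  next g x := next0.getK (2 * g + x)
  prev g x := prev0.getK (2 * g + x)
  lab g x := lab0.getK (2 * g + x)
  val g x := val0.getK (2 * g + x)
  rank g x := rank0.getK (2 * g + x)
  tree g := tree0.getK g
  cert j := cert0.getK j
  nded := 1501
  rels := [⟨[(0, true), (0, true), (0, true), (0, true)], [], [1]⟩,
    ⟨[(1, true), (1, true), (1, true), (1, true)], [], [0, 1]⟩,
    ⟨[(0, false), (1, false), (0, false), (1, true), (0, true), (1, true), (1, true), (0, true), (1, true), (0, false), (1, false), (0, false)], [], [0, 0, 1]⟩,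
    ⟨[(0, false), (1, true), (0, true), (0, true), (1, true), (0, false), (1, false), (0, false), (1, true), (0, false), (1, false), (0, false)], [], [0, 0, 0, 1]⟩]
  pot g := pot0.getK g
  innerSize := 1
  innerGen := 0

/-- the table with its checks -/
def level0 : CfsgLib.Sporadic.ChainLevel where
  table := table0
  gexp := [[1], [0, 1]]
  perm := [75757923929204094124700175365665387756133171947424799805726857706397166090677090343993964864312406636617332145985201174602748963209870039959714836192210474703308141958028918224035305920102158857632365849626490713337909843443501415778406944348322034144036860140254778664792143582882950278609719890107314468239025286869893727360800852422942272213210940129944169458932574603436587498787705988780346482732188044558379430730714564003333135165034429394636260206792184309442070410007298027467994415598483830449136894351033876512543298737726222581501786330085095697064879815360423797207150777859954336816118046916187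98743803835293974633853362887342410232049832384316282591045373387167989145977030085423276604784325386816339348143227450438726722974200146603746606986915725427363990003205184970948105280474248464685445312649325607214548984193789214398906764815261393862925300312827198239657485884662633948633138849514139168432103154767179441048385415043197947871524142136492309119006259120847665061981095102373144153758729079952744897126889143712493075141632647161330085686559202312755022827276097196598501907315346318964845471346304744488514725324517227429781007262455569270862325886051179586912353523306340373802724110504714226142365345912393225308760391808393269858775192231257289154198213890179058662553679331329288788481817584169424155251058387720291038238843866454060453634737212007363781313345170565125829968771733510611037305285990100580512038926746934121722941466864108557882066598731608501261648603884320963533199046874300337544199548145923701751954143144015105222301693274418971288204985628079366813391671280807531498253471785600763230960477587518450448243223,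 161159641717520460701129686457420894095990463616779065316488398511224197378572598968926163665651955830931288066646099944828705208591254042565095999306262956766312019117020907214218633912971660557931255477356349937617285205896937148244913159968368629537752766641470868567756492094963011306940406518753945186950921496332577181584227002760018127559158304474719082153681341582012681758139094419997342877085090648049256499010509996125079235292921199509476731377608197603453653528475293752949877895204283493507973935047745652673446236817790370122386145297471900096377303233911279881416137702631738911781763441672392428858549022638677765477957028218574846665155870139916435333645941272034399466256166927357009984348022709663619086688093243559946605143908204044461304680872650554641688173727112890845529682000644162616421558116280037325204268096398996875923016834778018009915303857918412777244409234025516293051049416837230740107722968373680946709071092097098857854609008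348222255998943618238541144680247532875925431201632668149779078467562280438123590036035827089087230903899166471096386361360488258961081641173832408038579999365346265432280172861572094680644353264820957174093714324843617713855291523974325413966959701725917605095571171645539567375480149883974797694094622351685402391243596860126637266401940517096594907886747583163627259031709538722417167243805468705508960395153937853565397004501568334941862400103600724387320345064591254703915911626652211712524449266869539252974392780219349144556680572172074562732093647734461913027403410754111537596370757645443433371641529172425964692864633592712220976303158239864205626337928010992631809751987879967228794393811]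
  pinv := [6249616780677220631876900331617656377401162833789700996446734006235214789957409895377468874542339084074196656620012332415592481960035276259374600806299265066064702882589042894842453310698376229923633846292002531066329837444708726287441478230242570320934399748358609319689454020219015265025689710292384702438374668955321240577608123823245271013326927929672109464717816132569958924155576923113370773453848840170899742479468972852705768557767713956466340242788592918826504459805250252830814203865681940574213555931797099516991515540483245185826947214418430040078057436059418834262066694947670409280455733513805021310713877855217053714886562859738078780383168762561011864822812138969635258897712072621871406185168908172365577998017520406385501722654640560960493077132006076821864506432395008130461117692812707463889403544556299023982274888842263136140138260862749704768530221080767314422847404106569673641334869025821461894944724489605865085408718734869679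4048042979477489914666768627821748646382141091175830822663788871719512385135733695081765762864518281304561697397739131303231655460884138957404714595747414432343388428584248387970961648962156670145608194651311350867672987498278336253316032927055981408381300464131090874766365737263747313288781148088470230606723395727233724980369621392567115794632872422169369033901333763495191670504369215669316999914527850355196206059321985174620215152884202016910085325013531755075338870849470202119230587991486694039917157172294717692669201044694799637954571782173902598101465161230335509114471906049396438082187948495327455286233447528887781720429046866045283323196451792434395595162584482600967906716727386427221571312035, 1430789123928763578477413907361738374263651206963121193364450114402185427133639147792102116732018261396776209005652869577388798154428080100015975033229034198547856713876502106973244915823871761199658705964930764004397112151798759851122929202678936754071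53744283443470914764681525247492025637419423025845787589974700002299708682024551820870688204403284841466307463553255437127179573094858608675688399488305446429459113813435824864127916547824412072137424124319227055706773244804952518999428931677594512070876187230613092249233797524570787235338803814666370205447158750644798310510061256567619135437235204473043647618086708669145479657822217029743086931699656821039518307287914592383110291779837924314670275362970477163266423992425648778055163007337033537097965710199873898396729245052163721848787538127957019899858703184401068015315877689213139146401586503659774583942032302934060628981330260063650770709163647898979104245692912541397468079305434176806183661484182872215441719640945417748871192704806348032033146452627051426092570061859607030338769419647354470474409311573275921737360370763486538719377280519108047293424560514882132141010199958098375278529139356215482490873907478565432332529171040525233614517800107745990597510825134834138697157951458425608069785341396802896638154696353024535759636533356150840881676803686633478027348873124546013018350987511333319983498597887509335130022680378822274316435978796725013584288001995079637828295796311845547328698705071060456111399798405878627964170983360747848159089319691036993477681253328258180670035130217353053544923003850635804225516737882598658620226226559514889637622253972353819481867696108526647748418809]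
  defs := []
  eqs := [(0, 259, [(-1), 1, (-2)]), (0, 631, [(-1), 0, 1, (-2)])]
  pts := [0, 1, 2]

end CfsgLib.Sporadic.MultCoFivePart
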