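import Mathlib
import Cfsg.Agent.Lib.Sporadic.MultCoFivePart.Level0
import Cfsg.Agent.Lib.Schur.PermChain

/-!
# A chain of coset tables
-/

set_option autoImplicit false
set_option maxRecDepth 100000
set_option maxHeartbeats 0
set_option Elab.async false

noncomputable section

namespace CfsgLib.Sporadic.MultCoFivePart

open CfsgLib.Schur.Cert CfsgLib.Sporadic

/-- the chain -/
def chain : List ChainLevel := [level0]

/-- the top generators as words -/
def top : List Word := (List.range 2).map fun j => [(j, true)]

/-- exponents of the relations -/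
def rows : List Vec := [[4], [0, 4], [(-2), 2], [(-3), 1]]

/-- the linear algebra -/
def lin : LinCert where
  basis := [[1, (-1), 2],
    [0, 1, (-3), 2],
    [0, 0, 1],
    [0, 0, 0, 1]]
  dual := [[1],
    [1, 1],
    [1, 3, 1],
    [(-2), (-2), 0, 1]]
  kind := [(false, 0, [(-1)]),
    (false, 0, [1, (-1)]),
    (true, 4, [1, 3]),
    (true, 2, [(-1), (-1)])]
  tor := 0
  bound := 1

end CfsgLib.Sporadic.MultCoFivePart
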