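import Mathlib
import Cfsg.Agent.Lib.Sporadic.MultCoFivePart.Pack0
import Cfsg.Agent.Lib.Sporadic.MultCoFivePart.Data
import Cfsg.Agent.Lib.Schur.CheckParts

/-!
# Shape and permutations of table 0
-/

set_option autoImplicit false
set_option maxRecDepth 100000
set_option maxHeartbeats 0
set_option Elab.async false

noncomputable section

namespace CfsgLib.Sporadic.MultCoFivePart

open CfsgLib.Schur.Cert CfsgLib.Sporadic

theorem head0 : shapeHead level0 [] (top) = true := by decide +kernel

theorem srel0_0 : allFrom (shapeRel (chainRels chain top) level0 (top)) 0 2 = true := by decide +kernel

theorem srel0_2 : allFrom (shapeRel (chainRels chain top) level0 (top)) 2 4 = true := by decide +kernel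

theorem row0_0 : allFrom (shapeRow rows level0 []) 0 80 = true := by decide +kernel

theorem row0_80 : allFrom (shapeRow rows level0 []) 80 160 = true := by decide +kernel

theorem row0_160 : allFrom (shapeRow rows level0 []) 160 240 = true := by decide +kernel

theorem row0_240 : allFrom (shapeRow rows level0 []) 240 320 = true := by decide +kernel

theorem row0_320 : allFrom (shapeRow rows level0 []) 320 400 = true := by decide +kernel

theorem row0_400 : allFrom (shapeRow rows level0 []) 400 480 = true := by decide +kernel

theorem row0_480 : allFrom (shapeRow rows level0 []) 480 560 = true := by decide +kernel

theorem row0_560 : allFrom (shapeRow rows level0 []) 560 640 = true := by decide +kernel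

theorem row0_640 : allFrom (shapeRow rows level0 []) 640 720 = true := by decide +kernel

theorem row0_720 : allFrom (shapeRow rows level0 []) 720 800 = true := by decide +kernel

theorem row0_800 : allFrom (shapeRow rows level0 []) 800 880 = true := by decide +kernel

theorem row0_880 : allFrom (shapeRow rows level0 []) 880 960 = true := by decide +kernel

theorem row0_960 : allFrom (shapeRow rows level0 []) 960 1040 = true := by decide +kernel

theorem row0_1040 : allFrom (shapeRow rows level0 []) 1040 1120 = true := by decide +kernel

theorem row0_1120 : allFrom (shapeRow rows level0 []) 1120 1200 = true := by decide +kernel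

theorem row0_1200 : allFrom (shapeRow rows level0 []) 1200 1280 = true := by decide +kernel

theorem row0_1280 : allFrom (shapeRow rows level0 []) 1280 1360 = true := by decide +kernel

theorem row0_1360 : allFrom (shapeRow rows level0 []) 1360 1440 = true := by decide +kernel

theorem row0_1440 : allFrom (shapeRow rows level0 []) 1440 1500 = true := by decide +kernel

theorem permsGen0 : permsGen 552 level0 [] = true := by decide +kernel

theorem path0_0 : allFrom (permsPath level0) 0 200 = true := by decide +kernel

theorem path0_200 : allFrom (permsPath level0) 200 400 = true := by decide +kernel

theorem path0_400 : allFrom (permsPath level0) 400 600 = true := by decide +kernel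

theorem path0_600 : allFrom (permsPath level0) 600 800 = true := by decide +kernel

theorem path0_800 : allFrom (permsPath level0) 800 1000 = true := by decide +kernel

theorem path0_1000 : allFrom (permsPath level0) 1000 1200 = true := by decide +kernel

theorem path0_1200 : allFrom (permsPath level0) 1200 1400 = true := by decide +kernel

theorem path0_1400 : allFrom (permsPath level0) 1400 1500 = true := by decide +kernel

theorem permsKey0 : permsKey level0 [] = true := by decide +kernel

end CfsgLib.Sporadic.MultCoFivePart
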