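import Mathlib
import Cfsg.Agent.Lib.Sporadic.MultCoFivePart.Pack0
import Cfsg.Agent.Lib.Sporadic.MultCoFivePart.Data
import Cfsg.Agent.Lib.Schur.CheckParts

/-!
# Equations of table 0
-/

set_option autoImplicit false
set_option maxRecDepth 100000
set_option maxHeartbeats 0
set_option Elab.async false

noncomputable section

namespace CfsgLib.Sporadic.MultCoFivePart

open CfsgLib.Schur.Cert CfsgLib.Sporadic

theorem eqn0_0 : allFrom (eqnAt level0 pack0 [] []) 0 2 = true := by decide +kernel

end CfsgLib.Sporadic.MultCoFivePart
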