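import Mathlib
import Cfsg.Agent.Lib.Sporadic.MultCoFivePart.Pack0
import Cfsg.Agent.Lib.Sporadic.MultCoFivePart.Data
import Cfsg.Agent.Lib.Schur.CheckParts

/-!
# Linear algebra
-/

set_option autoImplicit false
set_option maxRecDepth 100000
set_option maxHeartbeats 0
set_option Elab.async false

noncomputable section

namespace CfsgLib.Sporadic.MultCoFivePart

open CfsgLib.Schur.Cert CfsgLib.Sporadic

theorem linHead_check : linHead lin rows = true := by decide +kernel

theorem linUnit_0 : allFrom (linUnit lin) 0 4 = true := by decide +kernel

theorem linKind_0 : allFrom (linKind lin rows 2 (chainEqns chain)) 0 2 = true := by decide +kernel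

theorem linKind_2 : allFrom (linKind lin rows 2 (chainEqns chain)) 2 4 = true := by decide +kernel

end CfsgLib.Sporadic.MultCoFivePart
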