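import Mathlib
import Cfsg.Agent.Lib.Sporadic.MultCoFivePart.Check0
import Cfsg.Agent.Lib.Sporadic.MultCoFivePart.Check0Rel0
import Cfsg.Agent.Lib.Sporadic.MultCoFivePart.Check0Ded0
import Cfsg.Agent.Lib.Sporadic.MultCoFivePart.Check0Eqn0
import Cfsg.Agent.Lib.Sporadic.MultCoFivePart.CheckLin0
import Cfsg.Agent.Lib.Schur.CheckParts

/-!
# All checks of the chain
-/

set_option autoImplicit false
set_option maxRecDepth 100000
set_option maxHeartbeats 0
set_option Elab.async false

noncomputable section

namespace CfsgLib.Sporadic.MultCoFivePart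

open CfsgLib.Schur.Cert CfsgLib.Sporadic

theorem shape0 : shapeOK (chainRels chain top) rows level0 [] (top) = true :=
  shapeOK_of_parts head0 (allFrom_trans srel0_0 (srel0_2)) (allFrom_trans row0_0 (allFrom_trans row0_80 (allFrom_trans row0_160 (allFrom_trans row0_240 (allFrom_trans row0_320 (allFrom_trans row0_400 (allFrom_trans row0_480 (allFrom_trans row0_560 (allFrom_trans row0_640 (allFrom_trans row0_720 (allFrom_trans row0_800 (allFrom_trans row0_880 (allFrom_trans row0_960 (allFrom_trans row0_1040 (allFrom_trans row0_1120 (allFrom_trans row0_1200 (allFrom_trans row0_1280 (allFrom_trans row0_1360 (row0_1440)))))))))))))))))))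

theorem deds0 : dedsOK level0 [] = true :=
  dedsOK_of_parts pack_ok0 (rfl) (allFrom_trans ded0_0 (allFrom_trans ded0_60 (allFrom_trans ded0_120 (allFrom_trans ded0_180 (allFrom_trans ded0_240 (allFrom_trans ded0_300 (allFrom_trans ded0_360 (allFrom_trans ded0_420 (allFrom_trans ded0_480 (allFrom_trans ded0_540 (allFrom_trans ded0_600 (allFrom_trans ded0_660 (allFrom_trans ded0_720 (allFrom_trans ded0_780 (allFrom_trans ded0_840 (allFrom_trans ded0_900 (allFrom_trans ded0_960 (allFrom_trans ded0_1020 (allFrom_trans ded0_1080 (allFrom_trans ded0_1140 (allFrom_trans ded0_1200 (allFrom_trans ded0_1260 (allFrom_trans ded0_1320 (allFrom_trans ded0_1380 (allFrom_trans ded0_1440 (ded0_1500))))))))))))))))))))))))))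

theorem eqns0 : eqnsOK level0 [] = true :=
  eqnsOK_of_parts pack_ok0 (rfl) (eqn0_0)

theorem perms_check : permsOKN 552 chain = true :=
  permsOKN_cons permsGen0 (allFrom_trans rel0_0 (allFrom_trans rel0_1 (allFrom_trans rel0_2 (rel0_3)))) (allFrom_trans path0_0 (allFrom_trans path0_200 (allFrom_trans path0_400 (allFrom_trans path0_600 (allFrom_trans path0_800 (allFrom_trans path0_1000 (allFrom_trans path0_1200 (path0_1400)))))))) permsKey0 (rfl)

theorem rows_check : rows = relRows (chainRels chain top) ∧ chainExp chain = top.map (wexp vunit) := by decide +kernel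

theorem lastWords : (nextWords (top) level0).isEmpty = true := by decide +kernel

theorem tables_check : tablesOK (chainRels chain top) rows chain top = true := by
  show tablesOK (chainRels chain top) rows [level0] top = true
  simp only [tablesOK, shape0, deds0, eqns0, lastWords, Bool.and_self]

theorem lin_check : lin.ok rows 2 (chainEqns chain) = true :=
  LinCert.ok_of_parts linHead_check (linUnit_0) (allFrom_trans linKind_0 (linKind_2))

end CfsgLib.Sporadic.MultCoFivePart
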